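import Mathlib
import Groth.Prelude.Def_Mor2

set_option autoImplicit false
universe u

namespace Groth.Agent.Lib.Helper11

open AlgebraicGeometry CategoryTheory Limits TopologicalSpace

/-- A quasi-compact scheme covered by quasi-affine basic opens of global sections is
quasi-affine. -/
theorem isQuasiAffine_of_forall_exists_mem_basicOpen (X : Scheme.{u}) [CompactSpace X]
    (H : ∀ x : X, ∃ r : Γ(X, ⊤), (X.basicOpen r : Scheme.{u}).IsQuasiAffine ∧ x ∈ X.basicOpen r) :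
    X.IsQuasiAffine := by
  suffices IsOpenImmersion X.toSpecΓ by constructor
  have : QuasiSeparatedSpace X := by
    choose r hr hxr using H
    refine .of_isOpenCover (U := (X.basicOpen <| r ·))
      (eq_top_iff.mpr fun _ _ ↦ Opens.mem_iSup.mpr ⟨_, hxr _⟩)
      (fun _ ↦ isRetrocompact_basicOpen _) (fun x ↦ ?_)
    have := hr x
    exact (isQuasiSeparated_iff_quasiSeparatedSpace _ (X.basicOpen (r x)).2).mpr
      (inferInstanceAs (QuasiSeparatedSpace (X.basicOpen (r x) : Scheme.{u})))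
  refine IsZariskiLocalAtTarget.of_forall_source_exists_preimage _ fun x ↦ ?_
  obtain ⟨r, hr, hxr⟩ := H x
  refine ⟨PrimeSpectrum.basicOpen r, (X.toSpecΓ_preimage_basicOpen r).ge hxr, ?_⟩
  suffices IsOpenImmersion ((X.basicOpen r).ι ≫ X.toSpecΓ) by
    convert! this <;> rw [Scheme.toSpecΓ_preimage_basicOpen]
  rw [← Scheme.Opens.toSpecΓ_SpecMap_presheaf_map_top]
  have := isLocalization_basicOpen_of_qcqs isCompact_univ isQuasiSeparated_univ r
  have h1 : IsOpenImmersion (X.basicOpen r).toSpecΓ := by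
    delta Scheme.Opens.toSpecΓ
    infer_instance
  exact MorphismProperty.comp_mem _ (X.basicOpen r).toSpecΓ _ h1 (.of_isLocalization r)

/-- Quasi-affineness transfers along an open immersion from a compact scheme. -/
theorem isQuasiAffine_of_iso {X Y : Scheme.{u}} (e : X ≅ Y) [Y.IsQuasiAffine] :
    X.IsQuasiAffine := by
  have : CompactSpace X := e.hom.homeomorph.symm.compactSpace
  exact Scheme.IsQuasiAffine.of_isImmersion e.hom

/-- A scheme which is quasi-affine over a quasi-affine scheme is quasi-affine. -/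
theorem isQuasiAffine_of_isQuasiAffineHom {X Y : Scheme.{u}} (f : X ⟶ Y) [Y.IsQuasiAffine]
    (hf : Mor2.IsQuasiAffine f) : X.IsQuasiAffine := by
  have := hf.1
  have : CompactSpace X := QuasiCompact.compactSpace_of_compactSpace f
  refine isQuasiAffine_of_forall_exists_mem_basicOpen X fun x => ?_
  obtain ⟨_, ⟨_, ⟨r, hr, rfl⟩, rfl⟩, hxr, -⟩ :=
    (Scheme.IsQuasiAffine.isBasis_basicOpen Y).exists_subset_of_mem_open
      (Set.mem_univ (f x)) isOpen_univ
  refine ⟨f.appTop r, ?_, ?_⟩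
  · rw [← Scheme.preimage_basicOpen_top]
    exact hf.2 _ hr
  · rw [← Scheme.preimage_basicOpen_top]
    exact hxr

/-- Affine target: quasi-affineness can be checked on basic opens of the target. -/
theorem isQuasiAffine_of_isAffine_of_forall_exists {X Y : Scheme.{u}} [IsAffine Y] (f : X ⟶ Y)
    [QuasiCompact f]
    (H : ∀ y : Y, ∃ h : Γ(Y, ⊤), y ∈ Y.basicOpen h ∧
      (f ⁻¹ᵁ Y.basicOpen h : Scheme.{u}).IsQuasiAffine) : X.IsQuasiAffine := by
  have : CompactSpace X := QuasiCompact.compactSpace_of_compactSpace f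
  refine isQuasiAffine_of_forall_exists_mem_basicOpen X fun x => ?_
  obtain ⟨h, hy, hq⟩ := H (f x)
  refine ⟨f.appTop h, ?_, ?_⟩
  · rw [← Scheme.preimage_basicOpen_top]
    exact hq
  · rw [← Scheme.preimage_basicOpen_top]
    exact hy

/-- Being a quasi-affine morphism is local on the target. -/
theorem isQuasiAffineHom_of_forall_exists {X Y : Scheme.{u}} (f : X ⟶ Y) [QuasiCompact f]
    (H : ∀ y : Y, ∃ V : Y.Opens, IsAffineOpen V ∧ y ∈ V ∧ (f ⁻¹ᵁ V : Scheme.{u}).IsQuasiAffine) :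
    Mor2.IsQuasiAffine f := by
  refine ⟨inferInstance, fun V hV => ?_⟩
  have : IsAffine V.toScheme := hV
  refine isQuasiAffine_of_isAffine_of_forall_exists (f ∣_ V) fun y => ?_
  obtain ⟨Vy, hVy, hyVy, hq⟩ := H y.1
  obtain ⟨_, ⟨_, ⟨h, rfl⟩, rfl⟩, hyh, hhV⟩ :=
    (isBasis_basicOpen V.toScheme).exists_subset_of_mem_open
      (show y ∈ (V.ι ⁻¹ᵁ Vy : Set V.toScheme) from hyVy) (V.ι ⁻¹ᵁ Vy).2
  refine ⟨h, hyh, ?_⟩
  set T : (f ⁻¹ᵁ V).toScheme.Opens := (f ∣_ V) ⁻¹ᵁ (V.toScheme.basicOpen h) with hT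
  have hrange : Set.range (T.ι ≫ (f ⁻¹ᵁ V).ι) ⊆ Set.range (f ⁻¹ᵁ Vy).ι := by
    rintro _ ⟨t, rfl⟩
    rw [Scheme.Opens.range_ι]
    have h1 : (f ∣_ V) t.1 ∈ V.toScheme.basicOpen h := t.2
    have h2 : ((f ∣_ V) t.1).1 ∈ Vy := hhV h1
    rw [morphismRestrict_base_coe] at h2
    exact h2
  let l : T.toScheme ⟶ (f ⁻¹ᵁ Vy).toScheme :=
    IsOpenImmersion.lift (f ⁻¹ᵁ Vy).ι (T.ι ≫ (f ⁻¹ᵁ V).ι) hrange
  have hl : l ≫ (f ⁻¹ᵁ Vy).ι = T.ι ≫ (f ⁻¹ᵁ V).ι := IsOpenImmersion.lift_fac _ _ _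
  have : IsOpenImmersion (l ≫ (f ⁻¹ᵁ Vy).ι) := by rw [hl]; infer_instance
  have : IsOpenImmersion l := IsOpenImmersion.of_comp l (f ⁻¹ᵁ Vy).ι
  have : CompactSpace T.toScheme := by
    have hc : IsCompact (T : Set (f ⁻¹ᵁ V).toScheme) :=
      (f ∣_ V).isCompact_preimage ((isAffineOpen_top V.toScheme).basicOpen h).isCompact
    exact isCompact_iff_compactSpace.mp hc
  exact Scheme.IsQuasiAffine.of_isImmersion l

/-- Preimages under a restricted morphism of compact opens landing in an open with quasi-affine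
preimage are quasi-affine. -/
theorem isQuasiAffine_preimage_morphismRestrict {X Y : Scheme.{u}} (f : X ⟶ Y) [QuasiCompact f]
    (U : Y.Opens) (D : U.toScheme.Opens) (hD : IsCompact (D : Set U.toScheme)) (Vy : Y.Opens)
    (hDV : ∀ z ∈ D, z.1 ∈ Vy) [(f ⁻¹ᵁ Vy : Scheme.{u}).IsQuasiAffine] :
    ((f ∣_ U) ⁻¹ᵁ D : Scheme.{u}).IsQuasiAffine := by
  set T : (f ⁻¹ᵁ U).toScheme.Opens := (f ∣_ U) ⁻¹ᵁ D with hT
  have hrange : Set.range (T.ι ≫ (f ⁻¹ᵁ U).ι) ⊆ Set.range (f ⁻¹ᵁ Vy).ι := by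
    rintro _ ⟨t, rfl⟩
    rw [Scheme.Opens.range_ι]
    have h1 : (f ∣_ U) t.1 ∈ D := t.2
    have h2 : ((f ∣_ U) t.1).1 ∈ Vy := hDV _ h1
    rw [morphismRestrict_base_coe] at h2
    exact h2
  let l : T.toScheme ⟶ (f ⁻¹ᵁ Vy).toScheme :=
    IsOpenImmersion.lift (f ⁻¹ᵁ Vy).ι (T.ι ≫ (f ⁻¹ᵁ U).ι) hrange
  have hl : l ≫ (f ⁻¹ᵁ Vy).ι = T.ι ≫ (f ⁻¹ᵁ U).ι := IsOpenImmersion.lift_fac _ _ _
  have : IsOpenImmersion (l ≫ (f ⁻¹ᵁ Vy).ι) := by rw [hl]; infer_instance
  have : IsOpenImmersion l := IsOpenImmersion.of_comp l (f ⁻¹ᵁ Vy).ι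
  have : CompactSpace T.toScheme :=
    isCompact_iff_compactSpace.mp ((f ∣_ U).isCompact_preimage hD)
  exact Scheme.IsQuasiAffine.of_isImmersion l

/-- The restriction of a quasi-affine morphism to an open of the target is quasi-affine. -/
theorem isQuasiAffineHom_morphismRestrict {X Y : Scheme.{u}} (f : X ⟶ Y)
    (hf : Mor2.IsQuasiAffine f) (U : Y.Opens) : Mor2.IsQuasiAffine (f ∣_ U) := by
  have := hf.1
  refine ⟨inferInstance, fun V hV => ?_⟩
  have hV' : IsAffineOpen (U.ι ''ᵁ V) := hV.image_of_isOpenImmersion U.ι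
  have := hf.2 _ hV'
  exact isQuasiAffine_preimage_morphismRestrict f U V hV.isCompact (U.ι ''ᵁ V)
    (fun z hz => ⟨z, hz, rfl⟩)

end Groth.Agent.Lib.Helper11
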