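import Mathlib
import Groth.Prelude.Def_CohB1
import Groth.Prelude.Def_Pic

/-! Helper library (helper11): the locus `X_s` (`CohB1.genLocus`) where a section generates. -/

set_option autoImplicit false
universe u

open AlgebraicGeometry CategoryTheory Limits TopologicalSpace

namespace Groth.Agent.Lib.Helper11.GenLocus

variable {X : Scheme.{u}}

/-- The stalk map of `φ` at `x` is an isomorphism. -/
def StalkIso {M N : X.Modules} (φ : M ⟶ N) (x : X) : Prop :=
  IsIso ((TopCat.Presheaf.stalkFunctor Ab.{u} x).map φ.mapPresheaf)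

theorem app_isIso_of_stalkIso {M N : X.Modules} (φ : M ⟶ N) (U : X.Opens)
    (h : ∀ x ∈ U, StalkIso φ x) : IsIso (φ.app U) := by
  let f : (⟨M.presheaf, M.isSheaf⟩ : TopCat.Sheaf Ab.{u} X) ⟶ ⟨N.presheaf, N.isSheaf⟩ :=
    ⟨φ.mapPresheaf⟩
  have : ∀ x : U, IsIso ((TopCat.Presheaf.stalkFunctor Ab.{u} x.val).map f.1) := fun x => h x.1 x.2
  exact TopCat.Presheaf.app_isIso_of_stalkFunctor_map_iso f U

theorem stalkIso_of_isIso_restrict {M N : X.Modules} (φ : M ⟶ N) (U : X.Opens)
    [IsIso ((Scheme.Modules.restrictFunctor U.ι).map φ)] (x : X) (hx : x ∈ U) : StalkIso φ x := by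
  have h1 : IsIso ((Scheme.Modules.restrictFunctor U.ι ⋙ Scheme.Modules.toPresheaf _ ⋙
      TopCat.Presheaf.stalkFunctor Ab.{u} (⟨x, hx⟩ : U)).map φ) := by
    dsimp only [Functor.comp_map]
    infer_instance
  have h2 := (NatIso.isIso_map_iff (Scheme.Modules.restrictStalkNatIso U.ι ⟨x, hx⟩) φ).mp h1
  exact h2

theorem isIso_restrict_iff {M N : X.Modules} (φ : M ⟶ N) (U : X.Opens) :
    IsIso ((Scheme.Modules.restrictFunctor U.ι).map φ) ↔
      ∀ V : X.Opens, V ≤ U → IsIso (φ.app V) := by
  constructor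
  · intro h V hV
    exact app_isIso_of_stalkIso φ V (fun x hx => stalkIso_of_isIso_restrict φ U x (hV hx))
  · intro h
    rw [Scheme.Modules.Hom.isIso_iff_isIso_app]
    intro W
    have hle : U.ι ''ᵁ W ≤ U := by
      intro y hy
      obtain ⟨z, -, rfl⟩ := hy
      exact z.2
    exact h (U.ι ''ᵁ W) hle

theorem le_genLocus_iff (L : X.Modules) (s : Coh.structureModule X ⟶ L) (U : X.Opens) :
    U ≤ CohB1.genLocus L s ↔ IsIso ((Scheme.Modules.restrictFunctor U.ι).map s) := by
  constructor
  · intro hU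
    rw [isIso_restrict_iff]
    intro V hV
    apply app_isIso_of_stalkIso
    intro x hx
    have hx' : x ∈ CohB1.genLocus L s := hU (hV hx)
    rw [CohB1.genLocus, Opens.mem_sSup] at hx'
    obtain ⟨U', hU', hxU'⟩ := hx'
    have hU'' : IsIso ((Scheme.Modules.restrictFunctor (Scheme.Opens.ι U')).map s) := hU'
    exact stalkIso_of_isIso_restrict s U' x hxU'
  · intro h
    exact le_sSup h

theorem le_genLocus_iff_app (L : X.Modules) (s : Coh.structureModule X ⟶ L) (U : X.Opens) :
    U ≤ CohB1.genLocus L s ↔ ∀ V : X.Opens, V ≤ U → IsIso (s.app V) := by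
  rw [le_genLocus_iff, isIso_restrict_iff]

theorem app_res {F G : X.Modules} (u : F ⟶ G) {O O' : X.Opens} (h : O' ≤ O) (s : Γ(F, O)) :
    (G.presheaf.map (homOfLE h).op).hom ((u.app O).hom s) =
      (u.app O').hom ((F.presheaf.map (homOfLE h).op).hom s) := by
  have hnat := u.mapPresheaf.naturality (homOfLE h).op
  exact (congrArg (fun k => k.hom s) hnat).symm

/-- view a function as a section of the structure module -/
def toO (U : X.Opens) (a : Γ(X, U)) : Γ(Coh.structureModule X, U) := a

def ofO (U : X.Opens) (a : Γ(Coh.structureModule X, U)) : Γ(X, U) := a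

theorem toO_ofO (U : X.Opens) (a : Γ(Coh.structureModule X, U)) : toO U (ofO U a) = a := rfl
theorem ofO_toO (U : X.Opens) (a : Γ(X, U)) : ofO U (toO U a) = a := rfl

theorem toO_smul (U : X.Opens) (a b : Γ(X, U)) : a • toO U b = toO U (a * b) := rfl

theorem toO_res {U V : X.Opens} (h : U ≤ V) (a : Γ(X, V)) :
    ((Coh.structureModule X).presheaf.map (homOfLE h).op).hom (toO V a) =
      toO U (X.presheaf.map (homOfLE h).op a) := rfl

/-- the section of `L` over `U` determined by `s`. -/
noncomputable def sec {L : X.Modules} (s : Coh.structureModule X ⟶ L) (U : X.Opens) : Γ(L, U) :=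
  (s.app U).hom (toO U 1)

theorem app_eq_smul_sec {L : X.Modules} (s : Coh.structureModule X ⟶ L) (U : X.Opens)
    (a : Γ(X, U)) : (s.app U).hom (toO U a) = a • sec s U := by
  have := Scheme.Modules.Hom.app_smul s a (toO U 1)
  rw [toO_smul, mul_one] at this
  exact this

theorem sec_res {L : X.Modules} (s : Coh.structureModule X ⟶ L) {U V : X.Opens} (h : U ≤ V) :
    (L.presheaf.map (homOfLE h).op).hom (sec s V) = sec s U := by
  rw [sec, app_res s h, toO_res, map_one, sec]

theorem isIso_iff_bijective {A B : Ab.{u}} (f : A ⟶ B) : IsIso f ↔ Function.Bijective f.hom := by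
  rw [← ConcreteCategory.isIso_iff_bijective]

theorem ofO_smul (U : X.Opens) (a : Γ(X, U)) (m : Γ(Coh.structureModule X, U)) :
    ofO U (a • m) = a * ofO U m := rfl

/-- for endomorphisms of the structure module -/
theorem isIso_app_unit_iff (t : Coh.structureModule X ⟶ Coh.structureModule X) (V : X.Opens) :
    IsIso (t.app V) ↔ IsUnit (ofO V (sec t V)) := by
  rw [isIso_iff_bijective]
  have key : ∀ a : Γ(Coh.structureModule X, V),
      ofO V ((t.app V).hom a) = ofO V a * ofO V (sec t V) := by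
    intro a
    have := app_eq_smul_sec t V (ofO V a)
    rw [toO_ofO] at this
    rw [this, ofO_smul]
  constructor
  · intro hb
    obtain ⟨a, ha⟩ := hb.2 (toO V 1)
    have h1 := key a
    rw [ha, ofO_toO] at h1
    exact isUnit_iff_exists_inv'.mpr ⟨ofO V a, h1.symm⟩
  · rintro ⟨u, hu⟩
    constructor
    · intro a b hab
      have h1 := key a
      rw [hab, key b, ← hu] at h1
      exact (Units.mul_left_inj u).mp h1.symm
    · intro b
      refine ⟨toO V (ofO V b * ↑u⁻¹), ?_⟩
      have h1 := key (toO V (ofO V b * ↑u⁻¹))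
      rw [ofO_toO, ← hu, Units.inv_mul_cancel_right] at h1
      exact h1


theorem ofO_res {U V : X.Opens} (h : U ≤ V) (m : Γ(Coh.structureModule X, V)) :
    ofO U (((Coh.structureModule X).presheaf.map (homOfLE h).op).hom m) =
      X.presheaf.map (homOfLE h).op (ofO V m) := rfl

theorem isUnit_res_of_le_basicOpen {U : X.Opens} (f : Γ(X, U)) {V : X.Opens}
    (hV : V ≤ X.basicOpen f) :
    IsUnit (X.presheaf.map (homOfLE (hV.trans (X.basicOpen_le f))).op f) := by
  have h : IsUnit (X.presheaf.map (homOfLE (X.basicOpen_le f)).op f) :=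
    RingedSpace.isUnit_res_basicOpen X.toRingedSpace f
  have h2 := h.map (X.presheaf.map (homOfLE hV).op).hom
  have e : X.presheaf.map (homOfLE (hV.trans (X.basicOpen_le f))).op =
      X.presheaf.map (homOfLE (X.basicOpen_le f)).op ≫ X.presheaf.map (homOfLE hV).op := by
    rw [← X.presheaf.map_comp]
    rfl
  rw [e, CommRingCat.comp_apply]
  exact h2

theorem le_basicOpen_of_isUnit_res {U : X.Opens} (f : Γ(X, U)) {V : X.Opens} (hVU : V ≤ U)
    (hu : IsUnit (X.presheaf.map (homOfLE hVU).op f)) : V ≤ X.basicOpen f := by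
  intro x hx
  rw [X.mem_basicOpen f x (hVU hx)]
  have := hu.map (X.presheaf.germ V x hx).hom
  rw [TopCat.Presheaf.germ_res_apply] at this
  exact this

theorem genLocus_unit (t : Coh.structureModule X ⟶ Coh.structureModule X) :
    CohB1.genLocus (Coh.structureModule X) t = X.basicOpen (ofO ⊤ (sec t ⊤)) := by
  apply le_antisymm
  · have h := (le_genLocus_iff_app _ t _).mp le_rfl _ le_rfl
    rw [isIso_app_unit_iff, ← sec_res t le_top, ofO_res] at h
    exact le_basicOpen_of_isUnit_res _ le_top h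
  · rw [le_genLocus_iff_app]
    intro V hV
    rw [isIso_app_unit_iff, ← sec_res t le_top, ofO_res]
    exact isUnit_res_of_le_basicOpen _ hV

theorem genLocus_comp_iso {L L' : X.Modules} (s : Coh.structureModule X ⟶ L) (e : L ≅ L') :
    CohB1.genLocus L' (s ≫ e.hom) = CohB1.genLocus L s := by
  apply le_antisymm
  · rw [le_genLocus_iff]
    have h := (le_genLocus_iff L' (s ≫ e.hom) _).mp le_rfl
    rw [Functor.map_comp, isIso_comp_right_iff] at h
    exact h
  · rw [le_genLocus_iff, Functor.map_comp, isIso_comp_right_iff]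
    exact (le_genLocus_iff L s _).mp le_rfl

theorem isIso_comp_app_iff {A B C : X.Modules} (u : A ≅ B) (φ : B ⟶ C) (V : X.Opens) :
    IsIso ((u.hom ≫ φ).app V) ↔ IsIso (φ.app V) := by
  rw [Scheme.Modules.Hom.comp_app, isIso_comp_left_iff]

theorem genLocus_restrict {L : X.Modules} (s : Coh.structureModule X ⟶ L) (W : X.Opens) :
    CohB1.genLocus (L.restrict W.ι)
      ((Scheme.Modules.restrictUnitIso W.ι).inv ≫ (Scheme.Modules.restrictFunctor W.ι).map s) =
      W.ι ⁻¹ᵁ CohB1.genLocus L s := by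
  have key : ∀ V' : (W : Scheme.{u}).Opens,
      IsIso (((Scheme.Modules.restrictUnitIso W.ι).inv ≫
        (Scheme.Modules.restrictFunctor W.ι).map s).app V') ↔ IsIso (s.app (W.ι ''ᵁ V')) := by
    intro V'
    exact isIso_comp_app_iff (X := (W : Scheme.{u})) (Scheme.Modules.restrictUnitIso W.ι).symm
      ((Scheme.Modules.restrictFunctor W.ι).map s) V'
  have himg : ∀ V' : (W : Scheme.{u}).Opens,
      W.ι ''ᵁ V' ≤ CohB1.genLocus L s ↔ V' ≤ W.ι ⁻¹ᵁ CohB1.genLocus L s := by
    intro V'
    constructor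
    · intro h
      have := W.ι.preimage_mono h
      rwa [W.ι.preimage_image_eq] at this
    · intro h
      exact (W.ι.image_mono h).trans (W.ι.image_preimage_le _)
  have main : ∀ V' : (W : Scheme.{u}).Opens,
      V' ≤ CohB1.genLocus (L.restrict W.ι)
        ((Scheme.Modules.restrictUnitIso W.ι).inv ≫ (Scheme.Modules.restrictFunctor W.ι).map s) ↔
      V' ≤ W.ι ⁻¹ᵁ CohB1.genLocus L s := by
    intro V'
    rw [← himg, le_genLocus_iff_app, le_genLocus_iff_app]
    constructor
    · intro h V hV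
      have hVW : V ≤ W := hV.trans (W.ι_image_le V')
      have e : W.ι ''ᵁ (W.ι ⁻¹ᵁ V) = V := by
        rw [W.ι.image_preimage_eq_opensRange_inf, W.opensRange_ι, inf_eq_right.mpr hVW]
      have h1 : W.ι ⁻¹ᵁ V ≤ V' := by
        have := W.ι.preimage_mono hV
        rwa [W.ι.preimage_image_eq] at this
      have h2 := (key _).mp (h _ h1)
      rwa [e] at h2
    · intro h V'' hV''
      exact (key _).mpr (h _ (W.ι.image_mono hV''))
  exact le_antisymm ((main _).mp le_rfl) ((main _).mpr le_rfl)

theorem exists_inf_genLocus_eq_basicOpen {L : X.Modules} (s : Coh.structureModule X ⟶ L)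
    (W : X.Opens) (e : L.restrict W.ι ≅ Coh.structureModule (W : Scheme.{u})) :
    ∃ g : Γ(X, W.ι ''ᵁ ⊤), W ⊓ CohB1.genLocus L s = X.basicOpen g := by
  let t : Coh.structureModule (W : Scheme.{u}) ⟶ Coh.structureModule (W : Scheme.{u}) :=
    ((Scheme.Modules.restrictUnitIso W.ι).inv ≫ (Scheme.Modules.restrictFunctor W.ι).map s) ≫ e.hom
  have h1 : CohB1.genLocus _ t = W.ι ⁻¹ᵁ CohB1.genLocus L s := by
    rw [genLocus_comp_iso, genLocus_restrict]
  have h2 := genLocus_unit t
  refine ⟨(W.ι.appIso ⊤).inv (ofO ⊤ (sec t ⊤)), ?_⟩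
  rw [← Scheme.image_basicOpen, ← h2, h1, W.ι.image_preimage_eq_opensRange_inf, W.opensRange_ι]

theorem isAffineOpen_inf_genLocus {L : X.Modules} (s : Coh.structureModule X ⟶ L)
    (W : X.Opens) (e : L.restrict W.ι ≅ Coh.structureModule (W : Scheme.{u}))
    (V : X.Opens) (hV : IsAffineOpen V) (hVW : V ≤ W) :
    IsAffineOpen (V ⊓ CohB1.genLocus L s) := by
  obtain ⟨g, hg⟩ := exists_inf_genLocus_eq_basicOpen s W e
  have hVW' : V ≤ W.ι ''ᵁ ⊤ := by rw [W.ι_image_top]; exact hVW
  have : V ⊓ CohB1.genLocus L s = X.basicOpen (X.presheaf.map (homOfLE hVW').op g) := by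
    rw [Scheme.basicOpen_res, ← hg, ← inf_assoc, inf_eq_left.mpr hVW]
  rw [this]
  exact hV.basicOpen _

/-- **EGA II 5.5.8-ish / S2350**: the inclusion of `X_s` is an affine morphism. -/
theorem isAffineHom_genLocus_ι {L : X.Modules} (hL : PicF.IsInvertible L)
    (s : Coh.structureModule X ⟶ L) : IsAffineHom (CohB1.genLocus L s).ι := by
  apply isAffineHom_of_forall_exists_isAffineOpen
  intro x
  obtain ⟨W, hxW, ⟨e⟩⟩ := hL x
  obtain ⟨_, ⟨V, hV, rfl⟩, hxV, hVW⟩ :=
    X.isBasis_affineOpens.exists_subset_of_mem_open hxW W.2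
  refine ⟨V, hxV, hV, ?_⟩
  rw [← Scheme.Hom.isAffineOpen_iff_of_isOpenImmersion (CohB1.genLocus L s).ι,
    (CohB1.genLocus L s).ι.image_preimage_eq_opensRange_inf, (CohB1.genLocus L s).opensRange_ι,
    inf_comm]
  exact isAffineOpen_inf_genLocus s W e V hV hVW

section tensor

open MonoidalCategory

/-- A sheaf of modules is the sheafification of its underlying presheaf. -/
noncomputable def shfValIso (M : X.Modules) : (CohB1.sheafifyMod X).obj M.val ≅ M :=
  (asIso (PresheafOfModules.sheafificationAdjunction.{u} (𝟙 X.ringCatSheaf.obj)).counit).app M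

/-- `tensorMod` respects isomorphisms. -/
noncomputable def tensorModCongr {M M' N N' : X.Modules} (e : M ≅ M') (e' : N ≅ N') :
    CohB1.tensorMod M N ≅ CohB1.tensorMod M' N' :=
  (CohB1.sheafifyMod X).mapIso
    (show (show X.PresheafOfModules from CohB1.tensorPre M N) ≅
        (show X.PresheafOfModules from CohB1.tensorPre M' N') from
      ((show CohB1.toPMod M ≅ CohB1.toPMod M' from (SheafOfModules.forget _).mapIso e) ⊗ᵢ
        (show CohB1.toPMod N ≅ CohB1.toPMod N' from (SheafOfModules.forget _).mapIso e')))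

noncomputable def unitTensorIso (M : X.Modules) :
    CohB1.tensorMod (Coh.structureModule X) M ≅ M :=
  (CohB1.sheafifyMod X).mapIso
    (show (show X.PresheafOfModules from CohB1.tensorPre (Coh.structureModule X) M) ≅ M.val from
      (@MonoidalCategoryStruct.leftUnitor _ _
        (PresheafOfModules.monoidalCategoryStruct (R := X.sheaf.obj)) (CohB1.toPMod M))) ≪≫
      shfValIso M

noncomputable def tensorPowUnitIso (X : Scheme.{u}) : ∀ n : ℕ,
    CohB1.tensorPow (Coh.structureModule X) n ≅ Coh.structureModule X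
  | 0 => Iso.refl _
  | n + 1 => tensorModCongr (tensorPowUnitIso X n) (Iso.refl _) ≪≫ unitTensorIso _

/-- the global section `r` of `O_X` as a section of the structure module. -/
noncomputable def mulSection (r : Γ(X, ⊤)) : (Coh.structureModule X).sections :=
  PresheafOfModules.sectionsMk (fun U => toO U.unop (X.presheaf.map (homOfLE le_top).op r))
    (fun U V f => by
      change X.presheaf.map f (X.presheaf.map (homOfLE le_top).op r) =
        X.presheaf.map (homOfLE le_top).op r
      rw [← CommRingCat.comp_apply, ← X.presheaf.map_comp]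
      rfl)

/-- multiplication by a global function, as an endomorphism of the structure module. -/
noncomputable def mulHom (r : Γ(X, ⊤)) : Coh.structureModule X ⟶ Coh.structureModule X :=
  (Coh.structureModule X).unitHomEquiv.symm (mulSection r)

theorem sec_mulHom (r : Γ(X, ⊤)) : ofO ⊤ (sec (mulHom r) ⊤) = r := by
  have h1 : sec (mulHom r) ⊤ =
      ((Coh.structureModule X).unitHomEquiv (mulHom r)).val (Opposite.op ⊤) := rfl
  rw [h1, mulHom, Equiv.apply_symm_apply]
  change X.presheaf.map (homOfLE le_top).op r = r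
  have : (homOfLE (le_top : (⊤ : X.Opens) ≤ ⊤)).op = 𝟙 _ := rfl
  rw [this, X.presheaf.map_id]
  rfl

theorem genLocus_mulHom (r : Γ(X, ⊤)) :
    CohB1.genLocus (Coh.structureModule X) (mulHom r) = X.basicOpen r := by
  rw [genLocus_unit, sec_mulHom]

theorem isInvertible_structureModule (X : Scheme.{u}) :
    PicF.IsInvertible (Coh.structureModule X) := by
  intro y
  exact ⟨⊤, trivial, ⟨Scheme.Modules.restrictUnitIso (⊤ : X.Opens).ι⟩⟩

theorem isQuasiAffine_iff_isAmple_structureModule (X : Scheme.{u}) [CompactSpace X] :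
    X.IsQuasiAffine ↔ CohB1.IsAmple (Coh.structureModule X) := by
  constructor
  · intro hX
    refine ⟨isInvertible_structureModule X, inferInstance, ?_⟩
    intro x
    obtain ⟨_, ⟨_, ⟨r, hr, rfl⟩, rfl⟩, hxr, -⟩ :=
      (Scheme.IsQuasiAffine.isBasis_basicOpen X).exists_subset_of_mem_open
        (Set.mem_univ x) isOpen_univ
    have e : CohB1.genLocus (CohB1.tensorPow (Coh.structureModule X) (0 + 1))
        (mulHom r ≫ (tensorPowUnitIso X (0 + 1)).inv) = X.basicOpen r := by
      rw [← genLocus_mulHom r]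
      exact genLocus_comp_iso (mulHom r) (tensorPowUnitIso X (0 + 1)).symm
    refine ⟨0, mulHom r ≫ (tensorPowUnitIso X (0 + 1)).inv, ?_, ?_⟩
    · rw [e]
      exact hxr
    · rw [e]
      exact hr
  · rintro ⟨-, -, h⟩
    apply Scheme.IsQuasiAffine.of_forall_exists_mem_basicOpen
    intro x
    obtain ⟨n, s, hx, ha⟩ := h x
    have e := genLocus_comp_iso s (tensorPowUnitIso X (n + 1))
    rw [genLocus_unit] at e
    refine ⟨ofO ⊤ (sec (s ≫ (tensorPowUnitIso X (n + 1)).hom) ⊤), ?_, ?_⟩
    · rw [e]; exact ha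
    · rw [e]; exact hx

noncomputable def tensorPowCongr {L L' : X.Modules} (e : L ≅ L') : ∀ n : ℕ,
    CohB1.tensorPow L n ≅ CohB1.tensorPow L' n
  | 0 => Iso.refl _
  | n + 1 => tensorModCongr (tensorPowCongr e n) e

theorem isInvertible_of_iso {L L' : X.Modules} (e : L ≅ L') (h : PicF.IsInvertible L) :
    PicF.IsInvertible L' := by
  intro y
  obtain ⟨U, hy, ⟨i⟩⟩ := h y
  exact ⟨U, hy, ⟨(Scheme.Modules.restrictFunctor U.ι).mapIso e.symm ≪≫ i⟩⟩

theorem isAmple_of_iso {L L' : X.Modules} (e : L ≅ L') (h : CohB1.IsAmple L) :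
    CohB1.IsAmple L' := by
  obtain ⟨h1, h2, h3⟩ := h
  refine ⟨isInvertible_of_iso e h1, h2, ?_⟩
  intro x
  obtain ⟨n, s, hx, ha⟩ := h3 x
  have e' := genLocus_comp_iso s (tensorPowCongr e (n + 1))
  refine ⟨n, s ≫ (tensorPowCongr e (n + 1)).hom, ?_, ?_⟩
  · rw [e']; exact hx
  · rw [e']; exact ha

theorem isQuasiAffine_iff_isAmple (X : Scheme.{u}) :
    X.IsQuasiAffine ↔ CohB1.IsAmple (Coh.structureModule X) := by
  constructor
  · intro h
    exact (isQuasiAffine_iff_isAmple_structureModule X).mp h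
  · intro h
    have : CompactSpace X := h.2.1
    exact (isQuasiAffine_iff_isAmple_structureModule X).mpr h

end tensor

end Groth.Agent.Lib.Helper11.GenLocus
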