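import Mathlib
import Groth.Agent.Lib.Helper11.GenLocus
import Groth.Agent.Lib.Helper45.InvBasis

/-! Helper library (helper11): `CohB1.genLocus` in terms of local bases (`Helper45.IsBasisOn`);
global sections as morphisms; invertible modules on quasi-affine schemes are ample. -/

set_option autoImplicit false
universe u

open AlgebraicGeometry CategoryTheory Limits TopologicalSpace

namespace Groth.Agent.Lib.Helper11.GenLocus

open Groth.Agent.Lib.Helper45 Groth.Agent.Lib.Helper49

variable {X : Scheme.{u}}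

theorem sec_mres {L : X.Modules} (s : Coh.structureModule X ⟶ L) {U V : X.Opens} (h : U ≤ V) :
    mres L h (sec s V) = sec s U := sec_res s h

theorem isIso_app_iff_bijective {L : X.Modules} (s : Coh.structureModule X ⟶ L) (V : X.Opens) :
    IsIso (s.app V) ↔ Function.Bijective (fun r : Γ(X, V) => r • sec s V) := by
  rw [isIso_iff_bijective]
  have e : (fun r : Γ(X, V) => r • sec s V) = fun r => (s.app V).hom (toO V r) := by
    funext r
    exact (app_eq_smul_sec s V r).symm
  rw [e]
  exact Iff.rfl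

theorem le_genLocus_iff_isBasisOn {L : X.Modules} (s : Coh.structureModule X ⟶ L) (V : X.Opens) :
    V ≤ CohB1.genLocus L s ↔ IsBasisOn L V (sec s V) := by
  rw [le_genLocus_iff_app]
  constructor
  · intro h W hW
    rw [sec_mres]
    exact (isIso_app_iff_bijective s W).mp (h W hW)
  · intro h W hW
    have := h W hW
    rw [sec_mres] at this
    exact (isIso_app_iff_bijective s W).mpr this

/-- the compatible family of restrictions of a global section. -/
noncomputable def sectionOfTop (L : X.Modules) (t : Γ(L, ⊤)) : L.sections :=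
  PresheafOfModules.sectionsMk (fun U => mres L (le_top : U.unop ≤ ⊤) t)
    (fun U V f => by
      change (L.presheaf.map f).hom (mres L (le_top : U.unop ≤ ⊤) t) = _
      have hf : f = (homOfLE (leOfHom f.unop)).op := rfl
      rw [hf]
      exact mres_mres L (leOfHom f.unop) le_top t)

/-- a global section of `L` as a morphism `O_X ⟶ L`. -/
noncomputable def homOfSection (L : X.Modules) (t : Γ(L, ⊤)) : Coh.structureModule X ⟶ L :=
  L.unitHomEquiv.symm (sectionOfTop L t)

theorem sec_homOfSection (L : X.Modules) (t : Γ(L, ⊤)) (U : X.Opens) :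
    sec (homOfSection L t) U = mres L le_top t := by
  have h1 : sec (homOfSection L t) U =
      (L.unitHomEquiv (homOfSection L t)).val (Opposite.op U) := rfl
  rw [h1, homOfSection, Equiv.apply_symm_apply]
  rfl

/-- if `y` is a global section of `L` whose restriction to `X_r` is a basis, then the section
`r • y` generates `L` exactly on `X_r`. -/
theorem genLocus_homOfSection_smul {L : X.Modules} (r : Γ(X, ⊤)) (y : Γ(L, ⊤))
    (hy : IsBasisOn L (X.basicOpen r) (mres L (X.basicOpen_le r) y)) :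
    CohB1.genLocus L (homOfSection L (r • y)) = X.basicOpen r := by
  apply le_antisymm
  · have hb := (le_genLocus_iff_isBasisOn (homOfSection L (r • y))
      (CohB1.genLocus L (homOfSection L (r • y)))).mp le_rfl
    rw [sec_homOfSection] at hb
    generalize CohB1.genLocus L (homOfSection L (r • y)) = V at hb ⊢
    obtain ⟨c, hc⟩ := hb.exists_eq_smul (mres L le_top y)
    have h2 : (c * fres le_top r) • mres L (le_top : V ≤ ⊤) (r • y) =
        (1 : Γ(X, V)) • mres L (le_top : V ≤ ⊤) (r • y) := by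
      rw [one_smul, mul_comm, mul_smul, hc, mres_smul]
    have h3 := hb.eq_of_smul_eq h2
    exact le_basicOpen_of_isUnit_res r le_top (IsUnit.of_mul_eq_one _ ((mul_comm _ _).trans h3))
  · rw [le_genLocus_iff_isBasisOn, sec_homOfSection, mres_smul]
    have hu : IsUnit (fres (X.basicOpen_le r) r) := RingedSpace.isUnit_res_basicOpen _ r
    exact hy.smul_unit _ hu

/-- On a qcqs scheme, if the quasi-coherent module `L` has a basis on an open containing `X_r`
(`r` a global function), then some global section of `L` generates `L` exactly on `X_r`. -/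
theorem exists_genLocus_eq_basicOpen {L : X.Modules} [L.IsQuasicoherent] [CompactSpace X]
    [QuasiSeparatedSpace X] (r : Γ(X, ⊤)) {V : X.Opens} (hrV : X.basicOpen r ≤ V)
    {t : Γ(L, V)} (ht : IsBasisOn L V t) :
    ∃ s : Coh.structureModule X ⟶ L, CohB1.genLocus L s = X.basicOpen r := by
  obtain ⟨n, y, hy⟩ := exists_restrict_eq_pow_smul_of_qcqs L (U := ⊤)
    (by simpa using isCompact_univ) (by simpa using isQuasiSeparated_univ) r (mres L hrV t)
  refine ⟨homOfSection L (r • y), genLocus_homOfSection_smul r y ?_⟩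
  rw [hy]
  exact (ht.mono hrV).smul_unit _ ((RingedSpace.isUnit_res_basicOpen _ r).pow n)

/-- `L^{⊗ 1} ≅ L`. -/
noncomputable def tensorPowOneIso (L : X.Modules) : CohB1.tensorPow L (0 + 1) ≅ L :=
  unitTensorIso L

/-- a section of `L` gives a section of `L^{⊗ 1}` with the same locus. -/
theorem exists_tensorPow_one_genLocus_eq {L : X.Modules} (s : Coh.structureModule X ⟶ L) :
    ∃ s' : Coh.structureModule X ⟶ CohB1.tensorPow L (0 + 1),
      CohB1.genLocus (CohB1.tensorPow L (0 + 1)) s' = CohB1.genLocus L s :=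
  ⟨s ≫ (tensorPowOneIso L).inv, genLocus_comp_iso s (tensorPowOneIso L).symm⟩

/-- **Invertible modules on quasi-affine schemes are ample.** -/
theorem isAmple_of_isQuasiAffine [X.IsQuasiAffine] (L : X.Modules) (hL : PicF.IsInvertible L) :
    CohB1.IsAmple L := by
  have := isQuasicoherent_of_isInvertible hL
  refine ⟨hL, inferInstance, ?_⟩
  intro x
  obtain ⟨V, hxV, t, ht⟩ := exists_isBasisOn_of_isInvertible hL x
  obtain ⟨_, ⟨_, ⟨r, hr, rfl⟩, rfl⟩, hxr, hrV⟩ :=
    (Scheme.IsQuasiAffine.isBasis_basicOpen X).exists_subset_of_mem_open hxV V.2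
  obtain ⟨s, hs⟩ := exists_genLocus_eq_basicOpen r hrV ht
  obtain ⟨s', hs'⟩ := exists_tensorPow_one_genLocus_eq s
  refine ⟨0, s', ?_, ?_⟩
  · rw [hs', hs]; exact hxr
  · rw [hs', hs]; exact hr

/-- prime avoidance on a quasi-affine scheme: a finite set of points inside an open lies in an
affine basic open of a global function contained in that open. -/
theorem exists_basicOpen_of_finite [X.IsQuasiAffine] (W : X.Opens) (E : Set X) (hE : E.Finite)
    (hEW : E ⊆ W) :
    ∃ r : Γ(X, ⊤), IsAffineOpen (X.basicOpen r) ∧ E ⊆ X.basicOpen r ∧ X.basicOpen r ≤ W := by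
  classical
  let j := X.toSpecΓ
  let S : Set (PrimeSpectrum Γ(X, ⊤)) := {p | ∃ x ∈ W, j.base x = p}
  have hS : IsOpen S := (j ''ᵁ W).2
  let I : Ideal Γ(X, ⊤) := PrimeSpectrum.vanishingIdeal Sᶜ
  have hI : PrimeSpectrum.zeroLocus (I : Set Γ(X, ⊤)) = Sᶜ := by
    rw [PrimeSpectrum.zeroLocus_vanishingIdeal_eq_closure]
    exact hS.isClosed_compl.closure_eq
  have hnot : ∀ x ∈ E, ¬ I ≤ (j.base x).asIdeal := by
    intro x hx hle
    have h1 : j.base x ∈ PrimeSpectrum.zeroLocus (I : Set Γ(X, ⊤)) := hle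
    rw [hI] at h1
    exact h1 ⟨x, hEW hx, rfl⟩
  have hex : ∃ r ∈ I, ∀ x ∈ E, r ∉ (j.base x).asIdeal := by
    by_contra hcon
    push Not at hcon
    obtain ⟨x₀, -, -⟩ := hcon 0 I.zero_mem
    have hsub : (I : Set Γ(X, ⊤)) ⊆
        ⋃ x ∈ (↑hE.toFinset : Set X), ((j.base x).asIdeal : Set Γ(X, ⊤)) := by
      intro r hr
      obtain ⟨x, hx, hrx⟩ := hcon r hr
      exact Set.mem_biUnion (by simpa using hx) hrx
    obtain ⟨x, hx, hle⟩ := (Ideal.subset_union_prime (f := fun x : X => (j.base x).asIdeal)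
      x₀ x₀
      (fun i _ _ _ => (j.base i).isPrime)).mp hsub
    exact hnot x (by simpa using hx) hle
  obtain ⟨r, hrI, hrE⟩ := hex
  have hDS : ((PrimeSpectrum.basicOpen r : Opens (PrimeSpectrum Γ(X, ⊤))) : Set _) ⊆ S := by
    intro p hp
    by_contra hpS
    have : p ∈ PrimeSpectrum.zeroLocus (I : Set Γ(X, ⊤)) := by rw [hI]; exact hpS
    exact hp (this hrI)
  have hpre : X.basicOpen r = j ⁻¹ᵁ (PrimeSpectrum.basicOpen r) :=
    (X.toSpecΓ_preimage_basicOpen r).symm
  refine ⟨r, ?_, ?_, ?_⟩
  · rw [hpre, ← Scheme.Hom.isAffineOpen_iff_of_isOpenImmersion j]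
    have hsub : ((PrimeSpectrum.basicOpen r : Opens (PrimeSpectrum Γ(X, ⊤))) :
        Set (PrimeSpectrum Γ(X, ⊤))) ⊆ Set.range j.base := by
      intro p hp
      obtain ⟨x, -, rfl⟩ := hDS hp
      exact ⟨x, rfl⟩
    have himg : j ''ᵁ (j ⁻¹ᵁ (PrimeSpectrum.basicOpen r : (Spec Γ(X, ⊤)).Opens)) =
        (PrimeSpectrum.basicOpen r : (Spec Γ(X, ⊤)).Opens) := by
      apply SetLike.coe_injective
      exact Set.image_preimage_eq_of_subset hsub
    rw [himg]
    exact IsAffineOpen.Spec_basicOpen r
  · intro x hx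
    rw [hpre]
    exact hrE x hx
  · intro x hx
    rw [hpre] at hx
    obtain ⟨y, hy, hyx⟩ := hDS hx
    have : y = x := j.isOpenEmbedding.injective hyx
    exact this ▸ hy

/-- In a T0 space, the most special points of a finite set form an antichain to which every point
of the set specializes. -/
theorem exists_special_of_finite {Y : Type*} [TopologicalSpace Y] [T0Space Y] (E : Set Y)
    (hE : E.Finite) :
    ∃ T : Finset Y, (∀ x ∈ T, x ∈ E) ∧ (∀ x ∈ T, ∀ z ∈ T, z ⤳ x → z = x) ∧
      ∀ e ∈ E, ∃ x ∈ T, e ⤳ x := by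
  classical
  let T : Finset Y := hE.toFinset.filter (fun x => ∀ z ∈ E, x ⤳ z → z = x)
  have hT : ∀ x, x ∈ T ↔ x ∈ E ∧ ∀ z ∈ E, x ⤳ z → z = x := by
    intro x
    simp [T]
  refine ⟨T, fun x hx => ((hT x).mp hx).1, ?_, ?_⟩
  · intro x hx z hz hzx
    exact (((hT z).mp hz).2 x ((hT x).mp hx).1 hzx).symm
  · have key : ∀ n : ℕ, ∀ e ∈ E, (hE.toFinset.filter (fun w => e ⤳ w)).card ≤ n →
        ∃ x ∈ T, e ⤳ x := by
      intro n
      induction n with
      | zero =>
        intro e he hcard
        exfalso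
        have : e ∈ hE.toFinset.filter (fun w => e ⤳ w) := by simp [he, specializes_rfl]
        have h0 := Finset.card_pos.mpr ⟨e, this⟩
        omega
      | succ n ih =>
        intro e he hcard
        by_cases heT : e ∈ T
        · exact ⟨e, heT, specializes_rfl⟩
        · rw [hT] at heT
          push Not at heT
          obtain ⟨z, hz, hez, hne⟩ := heT he
          have hss : hE.toFinset.filter (fun w => z ⤳ w) ⊂ hE.toFinset.filter (fun w => e ⤳ w) := by
            rw [Finset.ssubset_iff_of_subset]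
            · refine ⟨e, by simp [he, specializes_rfl], ?_⟩
              intro hmem
              have hze : z ⤳ e := (Finset.mem_filter.mp hmem).2
              exact hne (hze.antisymm hez).eq
            · intro w hw
              rw [Finset.mem_filter] at hw ⊢
              exact ⟨hw.1, hez.trans hw.2⟩
          have hlt := Finset.card_lt_card hss
          obtain ⟨x, hxT, hzx⟩ := ih z hz (by omega)
          exact ⟨x, hxT, hez.trans hzx⟩
    intro e he
    exact key _ e he le_rfl

theorem exists_genLocus_affine_of_finite {X : Scheme.{u}} [X.IsQuasiAffine] (L : X.Modules) (hL : PicF.IsInvertible L)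
    (W : X.Opens) (E : Set X) (hE : E.Finite) (hEW : E ⊆ W) :
    ∃ s : Coh.structureModule X ⟶ L, IsAffineOpen (CohB1.genLocus L s) ∧ E ⊆ CohB1.genLocus L s ∧
      CohB1.genLocus L s ≤ W := by
  have := isQuasicoherent_of_isInvertible hL
  obtain ⟨r₁, hr₁, hE₁, hW₁⟩ := exists_basicOpen_of_finite W E hE hEW
  obtain ⟨T, hTE, hTanti, hTsp⟩ := exists_special_of_finite E hE
  obtain ⟨W', hW', p, hTW', hp⟩ := exists_isBasisOn_of_finset (L := L) hr₁
    (fun x _ => exists_isBasisOn_of_isInvertible hL x) T (fun x hx => hE₁ (hTE x hx)) hTanti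
  have hEW' : E ⊆ W' := by
    intro e he
    obtain ⟨x, hxT, hex⟩ := hTsp e he
    exact hex.mem_open W'.2 (hTW' x hxT)
  obtain ⟨r₂, hr₂, hE₂, hW₂⟩ := exists_basicOpen_of_finite W' E hE hEW'
  obtain ⟨s, hs⟩ := exists_genLocus_eq_basicOpen r₂ hW₂ hp
  refine ⟨s, ?_, ?_, ?_⟩
  · rw [hs]; exact hr₂
  · rw [hs]; exact hE₂
  · rw [hs]; exact hW₂.trans (hW'.trans hW₁)

theorem isBasisOn_restrict {L : X.Modules} (V : X.Opens) (A' : (V : Scheme.{u}).Opens)
    (t : Γ(L, V.ι ''ᵁ A')) (ht : IsBasisOn L (V.ι ''ᵁ A') t) :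
    IsBasisOn (L.restrict V.ι) A' (show Γ(L.restrict V.ι, A') from t) := by
  intro W'' hW''
  have h1 := ht (V.ι ''ᵁ W'') (V.ι.image_mono hW'')
  have h2 : Function.Bijective (V.ι.appIso W'').inv.hom :=
    ConcreteCategory.bijective_of_isIso (V.ι.appIso W'').inv
  have e : (fun r : Γ((V : Scheme.{u}), W'') =>
      r • mres (L.restrict V.ι) hW'' (show Γ(L.restrict V.ι, A') from t)) =
      (fun r' : Γ(X, V.ι ''ᵁ W'') => r' • mres L (V.ι.image_mono hW'') t) ∘
        (V.ι.appIso W'').inv.hom := by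
    funext r
    rfl
  rw [e]
  exact h1.comp h2

theorem isInvertible_restrict {L : X.Modules} (hL : PicF.IsInvertible L) (V : X.Opens) :
    PicF.IsInvertible (L.restrict V.ι) := by
  have := isQuasicoherent_of_isInvertible hL
  have hq : (L.restrict V.ι).IsQuasicoherent := inferInstance
  intro y
  obtain ⟨W, hxW, t, ht⟩ := exists_isBasisOn_of_isInvertible hL (V.ι.base y)
  obtain ⟨_, ⟨A', hA', rfl⟩, hyA', hA'W⟩ :=
    (V : Scheme.{u}).isBasis_affineOpens.exists_subset_of_mem_open
      (show y ∈ ((V.ι ⁻¹ᵁ W : (V : Scheme.{u}).Opens) : Set _) from hxW) (V.ι ⁻¹ᵁ W).2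
  have hle : V.ι ''ᵁ A' ≤ W := by
    rintro _ ⟨z, hz, rfl⟩
    exact hA'W hz
  have hb := isBasisOn_restrict V A' (mres L hle t) (ht.mono hle)
  exact ⟨A', hyA', hb.nonempty_iso hA'⟩

end Groth.Agent.Lib.Helper11.GenLocus
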