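import Mathlib
import Groth.Prelude.Def_SecTwist
import Groth.Agent.Lib.Helper11.GenLocusBasis

/-! Helper library (helper11): sections of `CohB1.tensorMod M N` when `N` has a local basis
(`tm_basis_bijective`), tensor products of local bases, invertibility of tensor products and
tensor powers of invertible modules. -/

set_option autoImplicit false
universe u

open AlgebraicGeometry CategoryTheory Limits TopologicalSpace Opposite TensorProduct

namespace Groth.Agent.Lib.Helper11.GenLocus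

open Groth.Agent.Lib.Helper45 Groth.Agent.Lib.Helper49

variable {X : Scheme.{u}}

/-- `toTensor` is locally surjective. -/
theorem toTensor_locSurj (M N : X.Modules) (W : X.Opens)
    (y : (CohB1.tensorMod M N).val.obj (op W)) (x : X) (hx : x ∈ W) :
    ∃ (W' : X.Opens) (h : W' ≤ W), x ∈ W' ∧
      ∃ p : (CohB1.tensorPre M N : X.PresheafOfModules).obj (op W'),
        ((SecTwist.toTensor M N).app (op W')).hom p =
          (CohB1.tensorMod M N).val.map (homOfLE h).op y := by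
  have hls : Presheaf.IsLocallySurjective (Opens.grothendieckTopology X)
      (CategoryTheory.toSheafify (Opens.grothendieckTopology X)
        (CohB1.tensorPre M N : X.PresheafOfModules).presheaf) := inferInstance
  have hmem := Presheaf.imageSieve_mem (Opens.grothendieckTopology X)
    (CategoryTheory.toSheafify (Opens.grothendieckTopology X)
        (CohB1.tensorPre M N : X.PresheafOfModules).presheaf) (U := op W) y
  obtain ⟨W', f, ⟨p, hp⟩, hxW'⟩ := hmem x hx
  exact ⟨W', f.le, hxW', p, hp⟩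

/-- `toTensor` is locally injective. -/
theorem toTensor_locInj (M N : X.Modules) (W : X.Opens)
    (p q : (CohB1.tensorPre M N : X.PresheafOfModules).obj (op W))
    (hpq : ((SecTwist.toTensor M N).app (op W)).hom p = ((SecTwist.toTensor M N).app (op W)).hom q)
    (x : X) (hx : x ∈ W) :
    ∃ (W' : X.Opens) (h : W' ≤ W), x ∈ W' ∧
      (CohB1.tensorPre M N : X.PresheafOfModules).map (homOfLE h).op p =
        (CohB1.tensorPre M N : X.PresheafOfModules).map (homOfLE h).op q := by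
  have hli : Presheaf.IsLocallyInjective (Opens.grothendieckTopology X)
      (CategoryTheory.toSheafify (Opens.grothendieckTopology X)
        (CohB1.tensorPre M N : X.PresheafOfModules).presheaf) := inferInstance
  have hmem := Presheaf.equalizerSieve_mem (Opens.grothendieckTopology X)
    (CategoryTheory.toSheafify (Opens.grothendieckTopology X)
        (CohB1.tensorPre M N : X.PresheafOfModules).presheaf) (X := op W) p q hpq
  obtain ⟨W', f, hf, hxW'⟩ := hmem x hx
  exact ⟨W', f.le, hxW', hf⟩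

section algebra

variable {R A B : Type*} [CommRing R] [AddCommGroup A] [Module R A] [AddCommGroup B] [Module R B]

theorem bijective_toSpanSingleton (τ : B) (hτ : Function.Bijective (fun r : R => r • τ)) :
    Function.Bijective (LinearMap.toSpanSingleton R B τ) := by
  have : (LinearMap.toSpanSingleton R B τ : R → B) = fun r : R => r • τ := by
    funext r
    simp [LinearMap.toSpanSingleton_apply]
  rw [this]
  exact hτ

/-- tensoring with a free rank one module with basis `τ`. -/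
noncomputable def tensorBasisEquiv (τ : B) (hτ : Function.Bijective (fun r : R => r • τ)) :
    A ⊗[R] B ≃ₗ[R] A :=
  (TensorProduct.congr (LinearEquiv.refl R A)
    (LinearEquiv.ofBijective (LinearMap.toSpanSingleton R B τ)
      (bijective_toSpanSingleton τ hτ)).symm).trans
    (TensorProduct.rid R A)

theorem tensorBasisEquiv_tmul (τ : B) (hτ : Function.Bijective (fun r : R => r • τ)) (a : A) :
    tensorBasisEquiv τ hτ (a ⊗ₜ[R] τ) = a := by
  have h1 : (LinearEquiv.ofBijective (LinearMap.toSpanSingleton R B τ)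
      (bijective_toSpanSingleton τ hτ)).symm τ = 1 := by
    rw [LinearEquiv.symm_apply_eq]
    simp [LinearMap.toSpanSingleton_apply]
  simp [tensorBasisEquiv, h1]

theorem exists_tmul_eq (τ : B) (hτ : Function.Bijective (fun r : R => r • τ)) (p : A ⊗[R] B) :
    ∃ a : A, a ⊗ₜ[R] τ = p :=
  ⟨tensorBasisEquiv τ hτ p, (tensorBasisEquiv τ hτ).injective (tensorBasisEquiv_tmul τ hτ _)⟩

theorem tmul_left_injective (τ : B) (hτ : Function.Bijective (fun r : R => r • τ)) (a a' : A)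
    (h : a ⊗ₜ[R] τ = a' ⊗ₜ[R] τ) : a = a' := by
  have := congrArg (tensorBasisEquiv τ hτ) h
  rwa [tensorBasisEquiv_tmul, tensorBasisEquiv_tmul] at this

end algebra

/-- the section `m ⊗ n` of `M ⊗ N` (in `Γ`-notation). -/
noncomputable def tm (M N : X.Modules) (W : X.Opens) (m : Γ(M, W)) (n : Γ(N, W)) :
    Γ(CohB1.tensorMod M N, W) :=
  SecTwist.tmul M N W m n

theorem tm_res (M N : X.Modules) {W W' : X.Opens} (h : W' ≤ W) (m : Γ(M, W)) (n : Γ(N, W)) :
    mres (CohB1.tensorMod M N) h (tm M N W m n) = tm M N W' (mres M h m) (mres N h n) :=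
  SecTwist.map_tmul M N (homOfLE h) m n

theorem tmul_smul_left (M N : X.Modules) (W : X.Opens) (r : X.ringCatSheaf.obj.obj (op W))
    (m : M.val.obj (op W)) (n : N.val.obj (op W)) :
    SecTwist.tmul M N W (r • m) n = r • SecTwist.tmul M N W m n :=
  ((SecTwist.toTensor M N).app (op W)).hom.map_smul r (m ⊗ₜ n)

theorem tmul_smul_swap (M N : X.Modules) (W : X.Opens)
    (r : (X.sheaf.obj ⋙ forget₂ CommRingCat RingCat).obj (op W))
    (m : (CohB1.toPMod M).obj (op W)) (n : (CohB1.toPMod N).obj (op W)) :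
    SecTwist.tmul M N W m (r • n) = SecTwist.tmul M N W (r • m) n := by
  have e : m ⊗ₜ[((X.sheaf.obj ⋙ forget₂ CommRingCat RingCat).obj (op W))] (r • n) =
      (r • m) ⊗ₜ[((X.sheaf.obj ⋙ forget₂ CommRingCat RingCat).obj (op W))] n :=
    (TensorProduct.smul_tmul r m n).symm
  exact congrArg ((SecTwist.toTensor M N).app (op W)).hom e

theorem tmul_add_left (M N : X.Modules) (W : X.Opens)
    (m m' : (CohB1.toPMod M).obj (op W)) (n : (CohB1.toPMod N).obj (op W)) :
    SecTwist.tmul M N W (m + m') n = SecTwist.tmul M N W m n + SecTwist.tmul M N W m' n := by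
  have h := ((SecTwist.toTensor M N).app (op W)).hom.map_add (m ⊗ₜ n) (m' ⊗ₜ n)
  have e : (m + m') ⊗ₜ[((X.sheaf.obj ⋙ forget₂ CommRingCat RingCat).obj (op W))] n =
      m ⊗ₜ[((X.sheaf.obj ⋙ forget₂ CommRingCat RingCat).obj (op W))] n +
        m' ⊗ₜ[((X.sheaf.obj ⋙ forget₂ CommRingCat RingCat).obj (op W))] n :=
    TensorProduct.add_tmul m m' n
  exact (congrArg ((SecTwist.toTensor M N).app (op W)).hom e).trans h

theorem tm_smul_left (M N : X.Modules) (W : X.Opens) (r : Γ(X, W)) (m : Γ(M, W)) (n : Γ(N, W)) :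
    tm M N W (r • m) n = r • tm M N W m n :=
  tmul_smul_left M N W r m n

theorem tm_smul_right (M N : X.Modules) (W : X.Opens) (r : Γ(X, W)) (m : Γ(M, W)) (n : Γ(N, W)) :
    tm M N W m (r • n) = r • tm M N W m n :=
  (tmul_smul_swap M N W r m n).trans (tmul_smul_left M N W r m n)

theorem tm_add_left (M N : X.Modules) (W : X.Opens) (m m' : Γ(M, W)) (n : Γ(N, W)) :
    tm M N W (m + m') n = tm M N W m n + tm M N W m' n :=
  tmul_add_left M N W m m' n

/-- the pure tensor `m ⊗ n` in the sectionwise tensor product. -/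
noncomputable def pt (M N : X.Modules) (W : X.Opens) (m : Γ(M, W)) (n : Γ(N, W)) :
    (CohB1.tensorPre M N : X.PresheafOfModules).obj (op W) :=
  (show (CohB1.toPMod M).obj (op W) from m) ⊗ₜ[((X.sheaf.obj ⋙ forget₂ CommRingCat RingCat).obj
    (op W))] (show (CohB1.toPMod N).obj (op W) from n)

theorem toTensor_pt (M N : X.Modules) (W : X.Opens) (m : Γ(M, W)) (n : Γ(N, W)) :
    ((SecTwist.toTensor M N).app (op W)).hom (pt M N W m n) = tm M N W m n := rfl

theorem pt_res (M N : X.Modules) {W W' : X.Opens} (h : W' ≤ W) (m : Γ(M, W)) (n : Γ(N, W)) :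
    (CohB1.tensorPre M N : X.PresheafOfModules).map (homOfLE h).op (pt M N W m n) =
      pt M N W' (mres M h m) (mres N h n) := rfl

theorem exists_pt_eq (M N : X.Modules) (W : X.Opens) (τ : Γ(N, W))
    (hτ : Function.Bijective (fun r : Γ(X, W) => r • τ))
    (p : (CohB1.tensorPre M N : X.PresheafOfModules).obj (op W)) :
    ∃ m : Γ(M, W), pt M N W m τ = p :=
  exists_tmul_eq (R := ((X.sheaf.obj ⋙ forget₂ CommRingCat RingCat).obj (op W)))
    (A := (CohB1.toPMod M).obj (op W)) (B := (CohB1.toPMod N).obj (op W)) τ hτ p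

theorem pt_left_injective (M N : X.Modules) (W : X.Opens) (τ : Γ(N, W))
    (hτ : Function.Bijective (fun r : Γ(X, W) => r • τ)) (m m' : Γ(M, W))
    (h : pt M N W m τ = pt M N W m' τ) : m = m' :=
  tmul_left_injective (R := ((X.sheaf.obj ⋙ forget₂ CommRingCat RingCat).obj (op W)))
    (A := (CohB1.toPMod M).obj (op W)) (B := (CohB1.toPMod N).obj (op W)) τ hτ m m' h

theorem tm_basis_injective (M N : X.Modules) (V : X.Opens) (t' : Γ(N, V))
    (ht' : IsBasisOn N V t') (W : X.Opens) (hW : W ≤ V) (m m' : Γ(M, W))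
    (h : tm M N W m (mres N hW t') = tm M N W m' (mres N hW t')) : m = m' := by
  apply TopCat.Presheaf.section_ext ⟨M.presheaf, M.isSheaf⟩
  intro x hx
  obtain ⟨W', hW', hxW', heq⟩ := toTensor_locInj M N W (pt M N W m (mres N hW t'))
    (pt M N W m' (mres N hW t')) h x hx
  rw [pt_res, pt_res, mres_mres] at heq
  have h1 : mres M hW' m = mres M hW' m' :=
    pt_left_injective M N W' _ (ht' W' (hW'.trans hW)) _ _ heq
  have h2 := congrArg (M.presheaf.germ W' x hxW') h1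
  rw [mres_apply, mres_apply, TopCat.Presheaf.germ_res_apply,
    TopCat.Presheaf.germ_res_apply] at h2
  exact h2

theorem tm_basis_surjective (M N : X.Modules) (V : X.Opens) (t' : Γ(N, V))
    (ht' : IsBasisOn N V t') (W : X.Opens) (hW : W ≤ V) (y : Γ(CohB1.tensorMod M N, W)) :
    ∃ m : Γ(M, W), tm M N W m (mres N hW t') = y := by
  have hloc : ∀ x : W, ∃ (W' : X.Opens) (h : W' ≤ W), x.1 ∈ W' ∧ ∃ m : Γ(M, W'),
      tm M N W' m (mres N (h.trans hW) t') = mres (CohB1.tensorMod M N) h y := by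
    intro x
    obtain ⟨W', h, hx, p, hp⟩ := toTensor_locSurj M N W y x.1 x.2
    obtain ⟨m, hm⟩ := exists_pt_eq M N W' (mres N (h.trans hW) t') (ht' W' (h.trans hW)) p
    refine ⟨W', h, hx, m, ?_⟩
    rw [← toTensor_pt, hm]
    exact hp
  choose U hU hxU mm hmm using hloc
  have hcov : W ≤ iSup U := by
    intro x hx
    exact Opens.mem_iSup.mpr ⟨⟨x, hx⟩, hxU ⟨x, hx⟩⟩
  obtain ⟨m, hm, -⟩ := TopCat.Sheaf.existsUnique_gluing' ⟨M.presheaf, M.isSheaf⟩ U W
    (fun i => homOfLE (hU i)) hcov mm (by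
      intro i j
      change mres M inf_le_left (mm i) = mres M inf_le_right (mm j)
      apply tm_basis_injective M N V t' ht' (U i ⊓ U j) (inf_le_left.trans ((hU i).trans hW))
      have h1 := congrArg (mres (CohB1.tensorMod M N) (inf_le_left : U i ⊓ U j ≤ U i)) (hmm i)
      have h2 := congrArg (mres (CohB1.tensorMod M N) (inf_le_right : U i ⊓ U j ≤ U j)) (hmm j)
      rw [tm_res, mres_mres, mres_mres] at h1 h2
      rw [h1, h2])
  refine ⟨m, ?_⟩
  apply TopCat.Sheaf.eq_of_locally_eq' ⟨(CohB1.tensorMod M N).presheaf,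
    (CohB1.tensorMod M N).isSheaf⟩ U W (fun i => homOfLE (hU i)) hcov
  intro i
  change mres (CohB1.tensorMod M N) (hU i) (tm M N W m (mres N hW t')) =
    mres (CohB1.tensorMod M N) (hU i) y
  have hmi : mres M (hU i) m = mm i := hm i
  rw [tm_res, mres_mres, hmi, hmm]

/-- **Lemma TB**: tensoring with a module having a basis `t'` on `V`: over every `W ≤ V`, the map
`m ↦ m ⊗ t'|_W` is a bijection `Γ(M, W) → Γ(M ⊗ N, W)`. -/
theorem tm_basis_bijective (M N : X.Modules) (V : X.Opens) (t' : Γ(N, V))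
    (ht' : IsBasisOn N V t') (W : X.Opens) (hW : W ≤ V) :
    Function.Bijective (fun m : Γ(M, W) => tm M N W m (mres N hW t')) :=
  ⟨fun m m' h => tm_basis_injective M N V t' ht' W hW m m' h,
    fun y => tm_basis_surjective M N V t' ht' W hW y⟩

/-- (C1) the tensor of two bases is a basis. -/
theorem isBasisOn_tm {M N : X.Modules} {V : X.Opens} {t : Γ(M, V)} {t' : Γ(N, V)}
    (ht : IsBasisOn M V t) (ht' : IsBasisOn N V t') :
    IsBasisOn (CohB1.tensorMod M N) V (tm M N V t t') := by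
  intro W hW
  have h1 := ht W hW
  have h2 := tm_basis_bijective M N V t' ht' W hW
  have e : (fun r : Γ(X, W) => r • mres (CohB1.tensorMod M N) hW (tm M N V t t')) =
      (fun m : Γ(M, W) => tm M N W m (mres N hW t')) ∘ (fun r : Γ(X, W) => r • mres M hW t) := by
    funext r
    simp only [Function.comp_apply]
    rw [tm_res, tm_smul_left]
  rw [e]
  exact h2.comp h1

theorem isBasisOn_one (V : X.Opens) : IsBasisOn (Coh.structureModule X) V (toO V 1) := by
  intro W hW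
  have e : (fun r : Γ(X, W) => r • mres (Coh.structureModule X) hW (toO V 1)) =
      fun r : Γ(X, W) => toO W r := by
    funext r
    have h1 : mres (Coh.structureModule X) hW (toO V 1) = toO W 1 := by
      rw [mres_apply]
      exact (toO_res hW 1).trans (by rw [map_one])
    rw [h1, toO_smul, mul_one]
  rw [e]
  exact ⟨fun a b h => h, fun b => ⟨b, rfl⟩⟩

/-- the `n`-th tensor power of a local section. -/
noncomputable def powSec (L : X.Modules) (V : X.Opens) (t : Γ(L, V)) :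
    ∀ n : ℕ, Γ(CohB1.tensorPow L n, V)
  | 0 => toO V 1
  | n + 1 => tm (CohB1.tensorPow L n) L V (powSec L V t n) t

theorem isBasisOn_powSec {L : X.Modules} {V : X.Opens} {t : Γ(L, V)} (ht : IsBasisOn L V t) :
    ∀ n : ℕ, IsBasisOn (CohB1.tensorPow L n) V (powSec L V t n)
  | 0 => isBasisOn_one V
  | n + 1 => isBasisOn_tm (isBasisOn_powSec ht n) ht

/-- (C3) a basis on `V` gives a trivialization over `V` (no quasi-coherence needed). -/
theorem nonempty_iso_of_isBasisOn {M : X.Modules} {V : X.Opens} {τ : Γ(M, V)}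
    (ht : IsBasisOn M V τ) :
    Nonempty (M.restrict V.ι ≅ Coh.structureModule (V : Scheme.{u})) := by
  have hle : V.ι ''ᵁ ⊤ ≤ V := le_of_eq V.ι_image_top
  have hb : IsBasisOn (M.restrict V.ι) ⊤ (show Γ(M.restrict V.ι, ⊤) from mres M hle τ) :=
    isBasisOn_restrict V ⊤ (mres M hle τ) (ht.mono hle)
  let s : Coh.structureModule (V : Scheme.{u}) ⟶ M.restrict V.ι :=
    homOfSection (M.restrict V.ι) (show Γ(M.restrict V.ι, ⊤) from mres M hle τ)
  have hs : IsIso s := by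
    rw [Scheme.Modules.Hom.isIso_iff_isIso_app]
    intro W''
    rw [isIso_app_iff_bijective, sec_homOfSection]
    exact hb W'' le_top
  exact ⟨(asIso s).symm⟩

theorem isInvertible_of_forall_exists_isBasisOn {M : X.Modules}
    (h : ∀ x : X, ∃ V : X.Opens, x ∈ V ∧ ∃ τ : Γ(M, V), IsBasisOn M V τ) :
    PicF.IsInvertible M := by
  intro x
  obtain ⟨V, hxV, τ, hτ⟩ := h x
  exact ⟨V, hxV, nonempty_iso_of_isBasisOn hτ⟩

theorem isInvertible_tensorPow {L : X.Modules} (hL : PicF.IsInvertible L) (n : ℕ) :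
    PicF.IsInvertible (CohB1.tensorPow L n) := by
  apply isInvertible_of_forall_exists_isBasisOn
  intro x
  obtain ⟨V, hxV, t, ht⟩ := exists_isBasisOn_of_isInvertible hL x
  exact ⟨V, hxV, _, isBasisOn_powSec ht n⟩

theorem isInvertible_tensorMod {L L' : X.Modules} (hL : PicF.IsInvertible L)
    (hL' : PicF.IsInvertible L') : PicF.IsInvertible (CohB1.tensorMod L L') := by
  apply isInvertible_of_forall_exists_isBasisOn
  intro x
  obtain ⟨V, hxV, t, ht⟩ := exists_isBasisOn_of_isInvertible hL x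
  obtain ⟨V', hxV', t', ht'⟩ := exists_isBasisOn_of_isInvertible hL' x
  exact ⟨V ⊓ V', ⟨hxV, hxV'⟩, _, isBasisOn_tm (ht.mono inf_le_left) (ht'.mono inf_le_right)⟩

/-- an `X_s` contained in an affine open is affine (`L` invertible). -/
theorem isAffineOpen_genLocus_of_le {L : X.Modules} (hL : PicF.IsInvertible L)
    (s : Coh.structureModule X ⟶ L) {A : X.Opens} (hA : IsAffineOpen A)
    (hGA : CohB1.genLocus L s ≤ A) : IsAffineOpen (CohB1.genLocus L s) := by
  have := isAffineHom_genLocus_ι hL s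
  have h1 : IsAffineOpen ((CohB1.genLocus L s).ι ⁻¹ᵁ A) := hA.preimage (CohB1.genLocus L s).ι
  rw [← Scheme.Hom.isAffineOpen_iff_of_isOpenImmersion (CohB1.genLocus L s).ι,
    (CohB1.genLocus L s).ι.image_preimage_eq_opensRange_inf, (CohB1.genLocus L s).opensRange_ι,
    inf_eq_left.mpr hGA] at h1
  exact h1

theorem sec_eq_val {L : X.Modules} (s : Coh.structureModule X ⟶ L) (U : X.Opens) :
    sec s U = SecTwist.val s U := rfl

theorem sec_tmulHom {M N : X.Modules} (a : Coh.structureModule X ⟶ M)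
    (b : Coh.structureModule X ⟶ N) (U : X.Opens) :
    sec (SecTwist.tmulHom a b) U = tm M N U (sec a U) (sec b U) :=
  SecTwist.val_tmulHom a b U

/-- if `c • τ` is a basis where `τ` is a basis then `c` is a unit. -/
theorem isUnit_of_isBasisOn_smul {M : X.Modules} {V : X.Opens} {τ : Γ(M, V)}
    (hτ : IsBasisOn M V τ) (c : Γ(X, V)) (hc : IsBasisOn M V (c • τ)) : IsUnit c := by
  obtain ⟨d, hd⟩ := hc.exists_eq_smul τ
  have h2 : (d * c) • τ = (1 : Γ(X, V)) • τ := by rw [mul_smul, hd, one_smul]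
  have h3 := hτ.eq_of_smul_eq h2
  exact IsUnit.of_mul_eq_one _ ((mul_comm _ _).trans h3)

theorem genLocus_tmulHom (X : Scheme.{u}) (L L' : X.Modules) (hL : PicF.IsInvertible L)
    (hL' : PicF.IsInvertible L')
    (f : Coh.structureModule X ⟶ L) (g : Coh.structureModule X ⟶ L') :
    CohB1.genLocus (CohB1.tensorMod L L') (SecTwist.tmulHom f g) =
      CohB1.genLocus L f ⊓ CohB1.genLocus L' g := by
  apply le_antisymm
  · -- local argument
    intro x hx
    obtain ⟨V₁, hxV₁, t, ht⟩ := exists_isBasisOn_of_isInvertible hL x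
    obtain ⟨V₂, hxV₂, t', ht'⟩ := exists_isBasisOn_of_isInvertible hL' x
    set G := CohB1.genLocus (CohB1.tensorMod L L') (SecTwist.tmulHom f g) with hG
    let V : X.Opens := G ⊓ (V₁ ⊓ V₂)
    have hxV : x ∈ V := ⟨hx, hxV₁, hxV₂⟩
    have hV1 : V ≤ V₁ := inf_le_right.trans inf_le_left
    have hV2 : V ≤ V₂ := inf_le_right.trans inf_le_right
    have hbt := ht.mono hV1
    have hbt' := ht'.mono hV2
    obtain ⟨α, hα⟩ := hbt.exists_eq_smul (sec f V)
    obtain ⟨β, hβ⟩ := hbt'.exists_eq_smul (sec g V)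
    have hb : IsBasisOn (CohB1.tensorMod L L') V (sec (SecTwist.tmulHom f g) V) :=
      (le_genLocus_iff_isBasisOn _ V).mp inf_le_left
    rw [sec_tmulHom, ← hα, ← hβ, tm_smul_left, tm_smul_right, ← mul_smul] at hb
    have hu := isUnit_of_isBasisOn_smul (isBasisOn_tm hbt hbt') _ hb
    have hα' : IsUnit α := isUnit_of_mul_isUnit_left hu
    have hβ' : IsUnit β := isUnit_of_mul_isUnit_right hu
    have h1 : V ≤ CohB1.genLocus L f := by
      rw [le_genLocus_iff_isBasisOn, ← hα]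
      exact hbt.smul_unit _ hα'
    have h2 : V ≤ CohB1.genLocus L' g := by
      rw [le_genLocus_iff_isBasisOn, ← hβ]
      exact hbt'.smul_unit _ hβ'
    exact ⟨h1 hxV, h2 hxV⟩
  · rw [le_genLocus_iff_isBasisOn, sec_tmulHom]
    have h1 := (le_genLocus_iff_isBasisOn f _).mp (inf_le_left : CohB1.genLocus L f ⊓ CohB1.genLocus L' g ≤ _)
    have h2 := (le_genLocus_iff_isBasisOn g _).mp (inf_le_right : CohB1.genLocus L f ⊓ CohB1.genLocus L' g ≤ _)
    exact isBasisOn_tm h1 h2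

theorem tm_zero_left (M N : X.Modules) (W : X.Opens) (n : Γ(N, W)) : tm M N W 0 n = 0 := by
  have := tm_smul_left M N W (0 : Γ(X, W)) (0 : Γ(M, W)) n
  rwa [zero_smul, zero_smul] at this

/-- view an element of `M.val.obj (op V)` as an element of `Γ(M, V)`. -/
def toΓ (M : X.Modules) (V : X.Opens) (m : M.val.obj (op V)) : Γ(M, V) := m

/-- the powers of a section in terms of a local generator. -/
theorem pow_eq_smul_powSec {L : X.Modules} (s : Coh.structureModule X ⟶ L) (V : X.Opens)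
    (e : Γ(L, V)) (a : Γ(X, V)) (h : sec s V = a • e) (n : ℕ) :
    toΓ (CohB1.tensorPow L n) V (SecTwist.pow s n V) = a ^ n • powSec L V e n := by
  induction n with
  | zero =>
    rw [pow_zero, one_smul]
    rfl
  | succ n ih =>
    change tm (CohB1.tensorPow L n) L V (toΓ _ V (SecTwist.pow s n V)) (sec s V) = _
    rw [ih, h, tm_smul_left, tm_smul_right, ← mul_smul, ← pow_succ]
    rfl

/-- the twist in terms of a local generator. -/
theorem twist_eq_tm {L : X.Modules} (s : Coh.structureModule X ⟶ L) (F : X.Modules) (V : X.Opens)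
    (e : Γ(L, V)) (a : Γ(X, V)) (h : sec s V = a • e) (n : ℕ) (t : Γ(F, V)) :
    toΓ (CohB1.tensorMod F (CohB1.tensorPow L n)) V (SecTwist.twist s n F V t) =
      tm F (CohB1.tensorPow L n) V (a ^ n • t) (powSec L V e n) := by
  change tm F (CohB1.tensorPow L n) V t (toΓ _ V (SecTwist.pow s n V)) = _
  rw [pow_eq_smul_powSec s V e a h n, tm_smul_right, tm_smul_left]

theorem toΓ_twist_res {L : X.Modules} (s : Coh.structureModule X ⟶ L) (F : X.Modules) (n : ℕ)
    {U V : X.Opens} (h : V ≤ U) (t : Γ(F, U)) :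
    mres (CohB1.tensorMod F (CohB1.tensorPow L n)) h (toΓ _ U (SecTwist.twist s n F U t)) =
      toΓ _ V (SecTwist.twist s n F V (mres F h t)) :=
  SecTwist.map_twist s n F (homOfLE h) t

/-- local data for a section of an invertible module: near each point there is an affine open
`U`, a basis `e` of `L` on `U` and a function `a` with `s = a e`; then `X_s ∩ U = D(a)`. -/
theorem exists_local_data {L : X.Modules} (hL : PicF.IsInvertible L)
    (s : Coh.structureModule X ⟶ L) (x : X) :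
    ∃ (U : X.Opens) (e : Γ(L, U)) (a : Γ(X, U)), x ∈ U ∧ IsAffineOpen U ∧ IsBasisOn L U e ∧
      sec s U = a • e ∧ X.basicOpen a ≤ CohB1.genLocus L s := by
  obtain ⟨V, hxV, e₀, he₀⟩ := exists_isBasisOn_of_isInvertible hL x
  obtain ⟨_, ⟨U, hU, rfl⟩, hxU, hUV⟩ := X.isBasis_affineOpens.exists_subset_of_mem_open hxV V.2
  have he := he₀.mono hUV
  obtain ⟨a, ha⟩ := he.exists_eq_smul (sec s U)
  refine ⟨U, mres L hUV e₀, a, hxU, hU, he, ha.symm, ?_⟩
  rw [le_genLocus_iff_isBasisOn, ← sec_mres s (X.basicOpen_le a), ← ha, mres_smul]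
  exact (he.mono (X.basicOpen_le a)).smul_unit _ (RingedSpace.isUnit_res_basicOpen _ a)

theorem exists_twist_eq_zero (X : Scheme.{u}) [CompactSpace X] (L : X.Modules) (hL : PicF.IsInvertible L)
    (s : Coh.structureModule X ⟶ L) (F : X.Modules) [F.IsQuasicoherent]
    (t : Γ(F, ⊤)) (ht : mres F (le_top : CohB1.genLocus L s ≤ ⊤) t = 0) :
    ∃ n : ℕ, 0 < n ∧ toΓ _ ⊤ (SecTwist.twist s n F ⊤ t) = 0 := by
  classical
  have hloc : ∀ x : X, ∃ (U : X.Opens) (e : Γ(L, U)) (a : Γ(X, U)) (n : ℕ), x ∈ U ∧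
      sec s U = a • e ∧ a ^ n • mres F (le_top : U ≤ ⊤) t = 0 := by
    intro x
    obtain ⟨U, e, a, hxU, hU, -, hsec, hD⟩ := exists_local_data hL s x
    have h0 : mres F (X.basicOpen_le a) (mres F (le_top : U ≤ ⊤) t) = 0 := by
      rw [mres_mres]
      have := congrArg (mres F hD) ht
      rw [mres_mres, map_zero] at this
      exact this
    obtain ⟨n, hn⟩ := exists_pow_smul_eq_zero_of_isCompact F hU.isCompact a _ h0
    exact ⟨U, e, a, n, hxU, hsec, hn⟩
  choose U e a n hxU hsec hzero using hloc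
  obtain ⟨S, hS⟩ := isCompact_univ.elim_finite_subcover (fun x => ((U x : X.Opens) : Set X))
    (fun x => (U x).isOpen) (fun x _ => Set.mem_iUnion.mpr ⟨x, hxU x⟩)
  refine ⟨S.sup n + 1, Nat.succ_pos _, ?_⟩
  have hcov : (⊤ : X.Opens) ≤ ⨆ i : S, U i.1 := by
    intro x _
    obtain ⟨i, hi, hxi⟩ := Set.mem_iUnion₂.mp (hS (Set.mem_univ x))
    exact Opens.mem_iSup.mpr ⟨⟨i, hi⟩, hxi⟩
  apply TopCat.Sheaf.eq_of_locally_eq' ⟨(CohB1.tensorMod F (CohB1.tensorPow L (S.sup n + 1))).presheaf,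
    (CohB1.tensorMod F (CohB1.tensorPow L (S.sup n + 1))).isSheaf⟩ (fun i : S => U i.1) ⊤
    (fun i => homOfLE le_top) hcov
  intro i
  change mres _ (le_top : U i.1 ≤ ⊤) (toΓ _ ⊤ (SecTwist.twist s (S.sup n + 1) F ⊤ t)) =
    mres _ (le_top : U i.1 ≤ ⊤) 0
  rw [toΓ_twist_res, twist_eq_tm s F (U i.1) (e i.1) (a i.1) (hsec i.1),
    smul_pow_eq_zero_of_le (hzero i.1) ((Finset.le_sup i.2).trans (Nat.le_succ _)),
    tm_zero_left, map_zero]

theorem powSec_res (L : X.Modules) {V W : X.Opens} (h : W ≤ V) (e : Γ(L, V)) (n : ℕ) :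
    mres (CohB1.tensorPow L n) h (powSec L V e n) = powSec L W (mres L h e) n := by
  induction n with
  | zero =>
    change mres (Coh.structureModule X) h (toO V 1) = toO W 1
    rw [mres_apply]
    exact (toO_res h 1).trans (by rw [map_one])
  | succ n ih =>
    change mres (CohB1.tensorMod (CohB1.tensorPow L n) L) h
      (tm (CohB1.tensorPow L n) L V (powSec L V e n) e) = _
    rw [tm_res, ih]
    rfl

theorem powSec_smul (L : X.Modules) (V : X.Opens) (c : Γ(X, V)) (e : Γ(L, V)) (n : ℕ) :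
    powSec L V (c • e) n = c ^ n • powSec L V e n := by
  induction n with
  | zero =>
    rw [pow_zero, one_smul]
    rfl
  | succ n ih =>
    change tm (CohB1.tensorPow L n) L V (powSec L V (c • e) n) (c • e) = _
    rw [ih, tm_smul_left, tm_smul_right, ← mul_smul, ← pow_succ]
    rfl

theorem sec_eq_of_le {L : X.Modules} (s : Coh.structureModule X ⟶ L) {U V : X.Opens} (h : V ≤ U)
    (e : Γ(L, U)) (a : Γ(X, U)) (hs : sec s U = a • e) :
    sec s V = fres h a • mres L h e := by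
  rw [← sec_mres s h, hs, mres_smul]

/-- `X_s ∩ U ⊆ D(a)` when `s = a e` on `U` with `e` a basis. -/
theorem genLocus_inf_le_basicOpen {L : X.Modules} (s : Coh.structureModule X ⟶ L) {U : X.Opens}
    (e : Γ(L, U)) (he : IsBasisOn L U e) (a : Γ(X, U)) (hs : sec s U = a • e) :
    CohB1.genLocus L s ⊓ U ≤ X.basicOpen a := by
  have hb : IsBasisOn L (CohB1.genLocus L s ⊓ U) (sec s (CohB1.genLocus L s ⊓ U)) :=
    (le_genLocus_iff_isBasisOn s _).mp inf_le_left
  rw [sec_eq_of_le s inf_le_right e a hs] at hb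
  have hu := isUnit_of_isBasisOn_smul (he.mono inf_le_right) _ hb
  exact le_basicOpen_of_isUnit_res a inf_le_right hu

/-- the local model of sections of `F ⊗ L^N` on an open where `L` has a basis. -/
noncomputable def loc (L F : X.Modules) (N : ℕ) (W : X.Opens) (e : Γ(L, W)) (μ : Γ(F, W)) :
    Γ(CohB1.tensorMod F (CohB1.tensorPow L N), W) :=
  tm F (CohB1.tensorPow L N) W μ (powSec L W e N)

theorem loc_res (L F : X.Modules) (N : ℕ) {V W : X.Opens} (h : W ≤ V) (e : Γ(L, V))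
    (μ : Γ(F, V)) :
    mres _ h (loc L F N V e μ) = loc L F N W (mres L h e) (mres F h μ) := by
  rw [loc, tm_res, powSec_res]
  rfl

theorem loc_smul_basis (L F : X.Modules) (N : ℕ) (W : X.Opens) (c : Γ(X, W)) (e : Γ(L, W))
    (μ : Γ(F, W)) : loc L F N W (c • e) μ = loc L F N W e (c ^ N • μ) := by
  rw [loc, powSec_smul, tm_smul_right, ← tm_smul_left]
  rfl

theorem toΓ_twist_eq_loc {L : X.Modules} (s : Coh.structureModule X ⟶ L) (F : X.Modules)
    (N : ℕ) (W : X.Opens) (e : Γ(L, W)) (a : Γ(X, W)) (h : sec s W = a • e) (μ : Γ(F, W)) :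
    toΓ _ W (SecTwist.twist s N F W μ) = loc L F N W e (a ^ N • μ) :=
  twist_eq_tm s F W e a h N μ

/-- local data for a section `s` of an invertible module. -/
structure LD (L : X.Modules) (s : Coh.structureModule X ⟶ L) where
  U : X.Opens
  e : Γ(L, U)
  a : Γ(X, U)
  aff : IsAffineOpen U
  bas : IsBasisOn L U e
  hsec : sec s U = a • e
  hD : X.basicOpen a ≤ CohB1.genLocus L s

namespace LD

variable {L : X.Modules} {s : Coh.structureModule X ⟶ L}

theorem hGU (d : LD L s) : CohB1.genLocus L s ⊓ d.U ≤ X.basicOpen d.a :=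
  genLocus_inf_le_basicOpen s d.e d.bas d.a d.hsec

theorem exists_trans (d₁ d₂ : LD L s) :
    ∃ v : Γ(X, d₁.U ⊓ d₂.U), v • mres L inf_le_left d₁.e = mres L inf_le_right d₂.e ∧
      fres (inf_le_left : d₁.U ⊓ d₂.U ≤ d₁.U) d₁.a =
        fres (inf_le_right : d₁.U ⊓ d₂.U ≤ d₂.U) d₂.a * v := by
  obtain ⟨v, hv⟩ := (d₁.bas.mono (inf_le_left : d₁.U ⊓ d₂.U ≤ d₁.U)).exists_eq_smul
    (mres L inf_le_right d₂.e)
  refine ⟨v, hv, ?_⟩
  apply (d₁.bas.mono (inf_le_left : d₁.U ⊓ d₂.U ≤ d₁.U)).eq_of_smul_eq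
  rw [← sec_eq_of_le s inf_le_left d₁.e d₁.a d₁.hsec, mul_smul, hv,
    ← sec_eq_of_le s inf_le_right d₂.e d₂.a d₂.hsec]

/-- `τ` extends `a^n t`. -/
def Ext (d : LD L s) (F : X.Modules) (t : Γ(F, CohB1.genLocus L s)) (n : ℕ) (τ : Γ(F, d.U)) : Prop :=
  mres F (X.basicOpen_le d.a) τ = (fres (X.basicOpen_le d.a) d.a) ^ n • mres F d.hD t

theorem diff_vanish (d₁ d₂ : LD L s) (F : X.Modules) (t : Γ(F, CohB1.genLocus L s)) (n : ℕ)
    (τ₁ : Γ(F, d₁.U)) (τ₂ : Γ(F, d₂.U)) (h₁ : d₁.Ext F t n τ₁) (h₂ : d₂.Ext F t n τ₂)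
    (v : Γ(X, d₁.U ⊓ d₂.U))
    (hv : fres (inf_le_left : d₁.U ⊓ d₂.U ≤ d₁.U) d₁.a =
        fres (inf_le_right : d₁.U ⊓ d₂.U ≤ d₂.U) d₂.a * v) :
    mres F (X.basicOpen_le (fres (inf_le_left : d₁.U ⊓ d₂.U ≤ d₁.U) d₁.a))
      (mres F inf_le_left τ₁ - v ^ n • mres F inf_le_right τ₂) = 0 := by
  have hW : X.basicOpen (fres (inf_le_left : d₁.U ⊓ d₂.U ≤ d₁.U) d₁.a) =
      (d₁.U ⊓ d₂.U) ⊓ X.basicOpen d₁.a := basicOpen_fres _ _
  have hWi : X.basicOpen (fres (inf_le_left : d₁.U ⊓ d₂.U ≤ d₁.U) d₁.a) ≤ X.basicOpen d₁.a := by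
    rw [hW]; exact inf_le_right
  have hWj : X.basicOpen (fres (inf_le_left : d₁.U ⊓ d₂.U ≤ d₁.U) d₁.a) ≤ X.basicOpen d₂.a := by
    refine le_trans (le_inf (hWi.trans d₁.hD) ?_) d₂.hGU
    rw [hW]; exact inf_le_left.trans inf_le_right
  have h1 := congrArg (mres F hWi) h₁
  have h2 := congrArg (mres F hWj) h₂
  have h3 := congrArg (fres (X.basicOpen_le (fres (inf_le_left : d₁.U ⊓ d₂.U ≤ d₁.U) d₁.a))) hv
  simp only [mres_smul, mres_mres, map_pow, map_mul, fres_fres] at h1 h2 h3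
  rw [map_sub, mres_smul, mres_mres, mres_mres, map_pow, h1, h2, ← mul_smul, ← mul_pow,
    mul_comm, ← h3, sub_self]

theorem exists_kill [QuasiSeparatedSpace X] (d₁ d₂ : LD L s) (F : X.Modules) [F.IsQuasicoherent]
    (t : Γ(F, CohB1.genLocus L s)) (n : ℕ)
    (τ₁ : Γ(F, d₁.U)) (τ₂ : Γ(F, d₂.U)) (h₁ : d₁.Ext F t n τ₁) (h₂ : d₂.Ext F t n τ₂)
    (v : Γ(X, d₁.U ⊓ d₂.U))
    (hv : fres (inf_le_left : d₁.U ⊓ d₂.U ≤ d₁.U) d₁.a =
        fres (inf_le_right : d₁.U ⊓ d₂.U ≤ d₂.U) d₂.a * v) :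
    ∃ m₀ : ℕ, ∀ m, m₀ ≤ m → (fres (inf_le_left : d₁.U ⊓ d₂.U ≤ d₁.U) d₁.a) ^ m • mres F inf_le_left τ₁ =
      (fres (inf_le_left : d₁.U ⊓ d₂.U ≤ d₁.U) d₁.a) ^ m • v ^ n •
        mres F (inf_le_right : d₁.U ⊓ d₂.U ≤ d₂.U) τ₂ := by
  have hcpt : IsCompact ((d₁.U ⊓ d₂.U : X.Opens) : Set X) :=
    QuasiSeparatedSpace.inter_isCompact _ _ d₁.U.isOpen d₁.aff.isCompact d₂.U.isOpen
      d₂.aff.isCompact
  obtain ⟨m₀, hm₀⟩ := exists_pow_smul_eq_zero_of_isCompact F hcpt _ _
    (diff_vanish d₁ d₂ F t n τ₁ τ₂ h₁ h₂ v hv)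
  refine ⟨m₀, fun m hm => ?_⟩
  have := smul_pow_eq_zero_of_le hm₀ hm
  rw [smul_sub, sub_eq_zero] at this
  exact this

theorem compat (d₁ d₂ : LD L s) (F : X.Modules) (n m : ℕ)
    (τ₁ : Γ(F, d₁.U)) (τ₂ : Γ(F, d₂.U)) (v : Γ(X, d₁.U ⊓ d₂.U))
    (hve : v • mres L inf_le_left d₁.e = mres L inf_le_right d₂.e)
    (hv : fres (inf_le_left : d₁.U ⊓ d₂.U ≤ d₁.U) d₁.a =
        fres (inf_le_right : d₁.U ⊓ d₂.U ≤ d₂.U) d₂.a * v)
    (hk : (fres (inf_le_left : d₁.U ⊓ d₂.U ≤ d₁.U) d₁.a) ^ m • mres F inf_le_left τ₁ =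
      (fres (inf_le_left : d₁.U ⊓ d₂.U ≤ d₁.U) d₁.a) ^ m • v ^ n •
        mres F (inf_le_right : d₁.U ⊓ d₂.U ≤ d₂.U) τ₂) :
    mres _ (inf_le_left : d₁.U ⊓ d₂.U ≤ d₁.U) (loc L F (n + m + 1) d₁.U d₁.e (d₁.a ^ (m + 1) • τ₁)) =
      mres _ (inf_le_right : d₁.U ⊓ d₂.U ≤ d₂.U)
        (loc L F (n + m + 1) d₂.U d₂.e (d₂.a ^ (m + 1) • τ₂)) := by
  rw [loc_res, loc_res, ← hve, loc_smul_basis, mres_smul, mres_smul, map_pow, map_pow]
  congr 1
  rw [pow_succ, mul_smul, smul_comm, hk, ← mul_smul, ← mul_smul, ← mul_smul]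
  congr 1
  rw [hv]
  ring

theorem check (d : LD L s) (F : X.Modules) (t : Γ(F, CohB1.genLocus L s)) (n m : ℕ)
    (τ : Γ(F, d.U)) (h : d.Ext F t n τ) :
    mres _ (X.basicOpen_le d.a) (loc L F (n + m + 1) d.U d.e (d.a ^ (m + 1) • τ)) =
      mres _ d.hD (toΓ _ _ (SecTwist.twist s (n + m + 1) F (CohB1.genLocus L s) t)) := by
  rw [toΓ_twist_res, toΓ_twist_eq_loc s F (n + m + 1) (X.basicOpen d.a)
    (mres L (X.basicOpen_le d.a) d.e) (fres (X.basicOpen_le d.a) d.a)
    (sec_eq_of_le s (X.basicOpen_le d.a) d.e d.a d.hsec), loc_res, mres_smul, map_pow, h,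
    ← mul_smul, ← pow_add]
  congr 2
  ring

end LD

theorem exists_LD {L : X.Modules} (hL : PicF.IsInvertible L) (s : Coh.structureModule X ⟶ L)
    (x : X) : ∃ d : LD L s, x ∈ d.U := by
  obtain ⟨U, e, a, hxU, hU, he, hsec, hD⟩ := exists_local_data hL s x
  exact ⟨⟨U, e, a, hU, he, hsec, hD⟩, hxU⟩

theorem exists_twist_extends (X : Scheme.{u}) [CompactSpace X] [QuasiSeparatedSpace X] (L : X.Modules)
    (hL : PicF.IsInvertible L) (s : Coh.structureModule X ⟶ L) (F : X.Modules)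
    [F.IsQuasicoherent] (t : Γ(F, CohB1.genLocus L s)) :
    ∃ n : ℕ, 0 < n ∧ ∃ t' : Γ(CohB1.tensorMod F (CohB1.tensorPow L n), ⊤),
      mres _ (le_top : CohB1.genLocus L s ≤ ⊤) t' =
        toΓ _ _ (SecTwist.twist s n F (CohB1.genLocus L s) t) := by
  classical
  choose d hxd using fun x => exists_LD hL s x
  have h1 : ∀ x, ∃ (n : ℕ) (τ : Γ(F, (d x).U)), (d x).Ext F t n τ := fun x =>
    exists_restrict_eq_pow_smul_of_qcqs F (d x).aff.isCompact (d x).aff.isQuasiSeparated (d x).a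
      (mres F (d x).hD t)
  choose n₀ τ₀ hτ₀ using h1
  obtain ⟨S, hS⟩ := isCompact_univ.elim_finite_subcover (fun x => (((d x).U : X.Opens) : Set X))
    (fun x => (d x).U.isOpen) (fun x _ => Set.mem_iUnion.mpr ⟨x, hxd x⟩)
  obtain ⟨n₁, τ, hτ⟩ : ∃ (n₁ : ℕ) (τ : ∀ x, Γ(F, (d x).U)), ∀ x ∈ S, (d x).Ext F t n₁ (τ x) := by
    refine ⟨S.sup n₀, fun x => (d x).a ^ (S.sup n₀ - n₀ x) • τ₀ x, ?_⟩
    intro x hx
    have hle : n₀ x ≤ S.sup n₀ := Finset.le_sup hx
    have h0 := hτ₀ x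
    unfold LD.Ext at h0 ⊢
    rw [mres_smul, h0, map_pow, ← mul_smul, ← pow_add, Nat.sub_add_cancel hle]
  choose v hve hv using fun i j => LD.exists_trans (d i) (d j)
  have hk : ∀ i j, ∃ m₀ : ℕ, i ∈ S → j ∈ S → ∀ m, m₀ ≤ m →
      (fres (inf_le_left : (d i).U ⊓ (d j).U ≤ (d i).U) (d i).a) ^ m • mres F inf_le_left (τ i) =
      (fres (inf_le_left : (d i).U ⊓ (d j).U ≤ (d i).U) (d i).a) ^ m • (v i j) ^ n₁ •
        mres F (inf_le_right : (d i).U ⊓ (d j).U ≤ (d j).U) (τ j) := by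
    intro i j
    by_cases hij : i ∈ S ∧ j ∈ S
    · obtain ⟨m₀, h⟩ := LD.exists_kill (d i) (d j) F t n₁ (τ i) (τ j) (hτ i hij.1) (hτ j hij.2)
        (v i j) (hv i j)
      exact ⟨m₀, fun _ _ => h⟩
    · exact ⟨0, fun hi hj => absurd ⟨hi, hj⟩ hij⟩
  choose m₀ hm₀ using hk
  obtain ⟨m, hm⟩ : ∃ m : ℕ, ∀ i ∈ S, ∀ j ∈ S, m₀ i j ≤ m :=
    ⟨(S ×ˢ S).sup (fun p => m₀ p.1 p.2), fun i hi j hj =>
      Finset.le_sup (f := fun p : X × X => m₀ p.1 p.2) (Finset.mk_mem_product hi hj)⟩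
  have hcov : (⊤ : X.Opens) ≤ ⨆ i : S, (d i.1).U := by
    intro x _
    obtain ⟨i, hi, hxi⟩ := Set.mem_iUnion₂.mp (hS (Set.mem_univ x))
    exact Opens.mem_iSup.mpr ⟨⟨i, hi⟩, hxi⟩
  obtain ⟨t', ht', -⟩ := TopCat.Sheaf.existsUnique_gluing'
    ⟨(CohB1.tensorMod F (CohB1.tensorPow L (n₁ + m + 1))).presheaf,
      (CohB1.tensorMod F (CohB1.tensorPow L (n₁ + m + 1))).isSheaf⟩
    (fun i : S => (d i.1).U) ⊤ (fun i => homOfLE le_top) hcov
    (fun i => loc L F (n₁ + m + 1) (d i.1).U (d i.1).e ((d i.1).a ^ (m + 1) • τ i.1))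
    (fun i j => LD.compat (d i.1) (d j.1) F n₁ m (τ i.1) (τ j.1) (v i.1 j.1) (hve i.1 j.1)
      (hv i.1 j.1) (hm₀ i.1 j.1 i.2 j.2 m (hm i.1 i.2 j.1 j.2)))
  refine ⟨n₁ + m + 1, Nat.succ_pos _, t', ?_⟩
  have hcovG : CohB1.genLocus L s ≤ ⨆ i : S, X.basicOpen (d i.1).a := by
    intro x hx
    obtain ⟨i, hi, hxi⟩ := Set.mem_iUnion₂.mp (hS (Set.mem_univ x))
    exact Opens.mem_iSup.mpr ⟨⟨i, hi⟩, (d i).hGU ⟨hx, hxi⟩⟩
  apply TopCat.Sheaf.eq_of_locally_eq'
    ⟨(CohB1.tensorMod F (CohB1.tensorPow L (n₁ + m + 1))).presheaf,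
      (CohB1.tensorMod F (CohB1.tensorPow L (n₁ + m + 1))).isSheaf⟩
    (fun i : S => X.basicOpen (d i.1).a) (CohB1.genLocus L s) (fun i => homOfLE (d i.1).hD) hcovG
  intro i
  change mres _ (d i.1).hD (mres _ le_top t') = mres _ (d i.1).hD (toΓ _ _ _)
  rw [mres_mres, ← LD.check (d i.1) F t n₁ m (τ i.1) (hτ i.1 i.2)]
  have hti : mres _ (le_top : (d i.1).U ≤ ⊤) t' =
      loc L F (n₁ + m + 1) (d i.1).U (d i.1).e ((d i.1).a ^ (m + 1) • τ i.1) := ht' i
  rw [← hti, mres_mres]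

end Groth.Agent.Lib.Helper11.GenLocus
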