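import Mathlib
import Groth.Agent.Lib.Helper30.ModTensor
import Groth.Agent.Lib.Helper11.TensorBasis

/-! Helper library (helper11): associativity of `CohB1.tensorMod`, `L^{a+b} ≅ L^a ⊗ L^b`,
`(L^a)^b ≅ L^{ab}`; for an ample invertible module the opens `X_s` form a basis. -/

set_option autoImplicit false
universe u

open AlgebraicGeometry CategoryTheory Limits TopologicalSpace Opposite MonoidalCategory

namespace Groth.Agent.Lib.Helper11.GenLocus

open Groth.Agent.Lib.Helper45 Groth.Agent.Lib.Helper49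
open Groth.Agent.Lib.Helper30.ModTensor

variable {X : Scheme.{u}}

/-- associativity of `tensorMod`. -/
noncomputable def tensorModAssoc (A B C : X.Modules) :
    CohB1.tensorMod (CohB1.tensorMod A B) C ≅ CohB1.tensorMod A (CohB1.tensorMod B C) := by
  have h1 : IsIso ((shf X.sheaf).map
      (shfUnit (O := X.sheaf) (CohB1.toPMod A ⊗ CohB1.toPMod B) ▷ CohB1.toPMod C)) :=
    isIso_shf_map_whiskerRight _ _ (isIso_shf_map_unit _)
  have h2 : IsIso ((shf X.sheaf).map
      (CohB1.toPMod A ◁ shfUnit (O := X.sheaf) (CohB1.toPMod B ⊗ CohB1.toPMod C))) :=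
    isIso_shf_map_whiskerLeft _ _ (isIso_shf_map_unit _)
  exact (@asIso _ _ _ _ _ h1).symm ≪≫
    (shf X.sheaf).mapIso (α_ (CohB1.toPMod A) (CohB1.toPMod B) (CohB1.toPMod C)) ≪≫
    @asIso _ _ _ _ _ h2

noncomputable def tensorUnitIso (M : X.Modules) :
    CohB1.tensorMod M (Coh.structureModule X) ≅ M :=
  (CohB1.sheafifyMod X).mapIso
    (show (show X.PresheafOfModules from CohB1.tensorPre M (Coh.structureModule X)) ≅ M.val from
      (@MonoidalCategoryStruct.rightUnitor _ _
        (PresheafOfModules.monoidalCategoryStruct (R := X.sheaf.obj)) (CohB1.toPMod M))) ≪≫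
      shfValIso M

noncomputable def tensorPowAdd (L : X.Modules) (a : ℕ) : ∀ b : ℕ,
    CohB1.tensorPow L (a + b) ≅ CohB1.tensorMod (CohB1.tensorPow L a) (CohB1.tensorPow L b)
  | 0 => (tensorUnitIso (CohB1.tensorPow L a)).symm
  | b + 1 => tensorModCongr (tensorPowAdd L a b) (Iso.refl L) ≪≫
      tensorModAssoc (CohB1.tensorPow L a) (CohB1.tensorPow L b) L

noncomputable def tensorPowMul (L : X.Modules) (a : ℕ) : ∀ b : ℕ,
    CohB1.tensorPow (CohB1.tensorPow L a) b ≅ CohB1.tensorPow L (a * b)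
  | 0 => Iso.refl _
  | b + 1 => tensorModCongr (tensorPowMul L a b) (Iso.refl _) ≪≫ (tensorPowAdd L (a * b) a).symm

/-- the iso `(O ⊗ (L^{k+1})^{⊗ n}) ⊗ L^{k+1} ≅ L^{⊗ (N+1)}`. -/
theorem exists_pow_iso (L : X.Modules) (k n : ℕ) :
    ∃ N : ℕ, Nonempty (CohB1.tensorMod (CohB1.tensorMod (Coh.structureModule X)
      (CohB1.tensorPow (CohB1.tensorPow L (k + 1)) n)) (CohB1.tensorPow L (k + 1)) ≅
        CohB1.tensorPow L (N + 1)) := by
  obtain ⟨N, hN⟩ : ∃ N, (k + 1) * (n + 1) = N + 1 :=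
    Nat.exists_eq_succ_of_ne_zero (Nat.mul_ne_zero (Nat.succ_ne_zero _) (Nat.succ_ne_zero _))
  refine ⟨N, ⟨?_⟩⟩
  exact tensorModCongr (unitTensorIso _) (Iso.refl _) ≪≫
    tensorPowMul L (k + 1) (n + 1) ≪≫ eqToIso (congrArg (CohB1.tensorPow L) hN)

/-- key step for the basis theorem. -/
theorem exists_genLocus_le_of_affine_genLocus [CompactSpace X] [QuasiSeparatedSpace X]
    (L : X.Modules) (hL : PicF.IsInvertible L) (k : ℕ)
    (s : Coh.structureModule X ⟶ CohB1.tensorPow L (k + 1))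
    (hA : IsAffineOpen (CohB1.genLocus _ s)) (U : X.Opens) (x : X) (hxU : x ∈ U)
    (hxG : x ∈ CohB1.genLocus _ s) :
    ∃ (N : ℕ) (σ : Coh.structureModule X ⟶ CohB1.tensorPow L (N + 1)),
      x ∈ CohB1.genLocus _ σ ∧ CohB1.genLocus _ σ ≤ U ∧ IsAffineOpen (CohB1.genLocus _ σ) := by
  have hL' : PicF.IsInvertible (CohB1.tensorPow L (k + 1)) := isInvertible_tensorPow hL (k + 1)
  obtain ⟨f, hfU, hxf⟩ := hA.exists_basicOpen_le (V := U) ⟨x, hxU⟩ hxG
  obtain ⟨n, -, t', ht'⟩ := exists_twist_extends X (CohB1.tensorPow L (k + 1)) hL' s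
    (Coh.structureModule X) (toO _ f)
  have hbasis : IsBasisOn (CohB1.tensorPow L (k + 1)) (CohB1.genLocus _ s)
      (sec s (CohB1.genLocus _ s)) := (le_genLocus_iff_isBasisOn s _).mp le_rfl
  have hβ := isBasisOn_tm (isBasisOn_one (CohB1.genLocus _ s)) (isBasisOn_powSec hbasis n)
  have hM₀ : PicF.IsInvertible (CohB1.tensorMod (Coh.structureModule X)
      (CohB1.tensorPow (CohB1.tensorPow L (k + 1)) n)) :=
    isInvertible_tensorMod (isInvertible_structureModule X) (isInvertible_tensorPow hL' n)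
  -- the section σ₀
  have hσ₀ : sec (homOfSection _ t') (CohB1.genLocus _ s) =
      f • tm (Coh.structureModule X) (CohB1.tensorPow (CohB1.tensorPow L (k + 1)) n)
        (CohB1.genLocus _ s) (toO _ 1) (powSec _ _ (sec s (CohB1.genLocus _ s)) n) := by
    rw [sec_homOfSection, ht', toΓ_twist_eq_loc s (Coh.structureModule X) n _
      (sec s (CohB1.genLocus _ s)) 1 (one_smul _ _).symm, one_pow, one_smul, loc,
      ← tm_smul_left, toO_smul, mul_one]
  have h1 : CohB1.genLocus _ (homOfSection _ t') ⊓ CohB1.genLocus _ s = X.basicOpen f := by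
    apply le_antisymm
    · exact genLocus_inf_le_basicOpen (homOfSection _ t') _ hβ f hσ₀
    · refine le_inf ?_ (X.basicOpen_le f)
      rw [le_genLocus_iff_isBasisOn, ← sec_mres _ (X.basicOpen_le f), hσ₀, mres_smul]
      exact (hβ.mono (X.basicOpen_le f)).smul_unit _ (RingedSpace.isUnit_res_basicOpen _ f)
  have h2 := genLocus_tmulHom X _ _ hM₀ hL' (homOfSection _ t') s
  obtain ⟨N, ⟨ι⟩⟩ := exists_pow_iso L k n
  have h3 := genLocus_comp_iso (SecTwist.tmulHom (homOfSection _ t') s) ι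
  refine ⟨N, SecTwist.tmulHom (homOfSection _ t') s ≫ ι.hom, ?_, ?_, ?_⟩
  · rw [h3, h2, h1]; exact hxf
  · rw [h3, h2, h1]; exact hfU
  · rw [h3, h2, h1]; exact hA.basicOpen f

theorem quasiSeparatedSpace_of_isAmple {L : X.Modules} (hL : CohB1.IsAmple L) :
    QuasiSeparatedSpace X := by
  obtain ⟨hinv, hc, h⟩ := hL
  choose n s hx ha using h
  refine QuasiSeparatedSpace.of_isOpenCover (U := fun x => CohB1.genLocus _ (s x))
    (eq_top_iff.mpr fun x _ => Opens.mem_iSup.mpr ⟨x, hx x⟩) (fun x => ?_)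
    (fun x => (ha x).isQuasiSeparated)
  have := isAffineHom_genLocus_ι (isInvertible_tensorPow hinv (n x + 1)) (s x)
  exact IsRetrocompact_iff_isSpectralMap_subtypeVal.mpr (CohB1.genLocus _ (s x)).ι.isSpectralMap

theorem isAmple_iff_isBasis [CompactSpace X] (L : X.Modules) (hL : PicF.IsInvertible L) :
    CohB1.IsAmple L ↔
      TopologicalSpace.Opens.IsBasis
        {U : X.Opens | ∃ (n : ℕ) (s : Coh.structureModule X ⟶ CohB1.tensorPow L (n + 1)),
          U = CohB1.genLocus _ s} := by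
  constructor
  · intro hamp
    have := quasiSeparatedSpace_of_isAmple hamp
    rw [Opens.isBasis_iff_nbhd]
    intro U x hxU
    obtain ⟨k, s, hxG, hA⟩ := hamp.2.2 x
    obtain ⟨N, σ, hxσ, hσU, -⟩ := exists_genLocus_le_of_affine_genLocus L hL k s hA U x hxU hxG
    exact ⟨_, ⟨N, σ, rfl⟩, hxσ, hσU⟩
  · intro hB
    refine ⟨hL, inferInstance, fun x => ?_⟩
    rw [Opens.isBasis_iff_nbhd] at hB
    obtain ⟨_, ⟨A, hA, rfl⟩, hxA, -⟩ :=
      X.isBasis_affineOpens.exists_subset_of_mem_open (Set.mem_univ x) isOpen_univ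
    obtain ⟨G, ⟨n, s, rfl⟩, hxG, hGA⟩ := hB (U := A) hxA
    exact ⟨n, s, hxG, isAffineOpen_genLocus_of_le (isInvertible_tensorPow hL (n + 1)) s hA hGA⟩

theorem isAmple_iff_isTopologicalBasis [CompactSpace X] (L : X.Modules)
    (hL : PicF.IsInvertible L) :
    CohB1.IsAmple L ↔
      TopologicalSpace.IsTopologicalBasis
        {U : Set X | ∃ (n : ℕ) (s : Coh.structureModule X ⟶ CohB1.tensorPow L (n + 1)),
          U = (CohB1.genLocus (CohB1.tensorPow L (n + 1)) s : Set X)} := by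
  rw [isAmple_iff_isBasis L hL, Opens.IsBasis]
  have e : (SetLike.coe '' {U : X.Opens | ∃ (n : ℕ)
      (s : Coh.structureModule X ⟶ CohB1.tensorPow L (n + 1)), U = CohB1.genLocus _ s}) =
      {U : Set X | ∃ (n : ℕ) (s : Coh.structureModule X ⟶ CohB1.tensorPow L (n + 1)),
          U = (CohB1.genLocus (CohB1.tensorPow L (n + 1)) s : Set X)} := by
    ext V
    constructor
    · rintro ⟨_, ⟨n, s, rfl⟩, rfl⟩
      exact ⟨n, s, rfl⟩
    · rintro ⟨n, s, rfl⟩
      exact ⟨_, ⟨n, s, rfl⟩, rfl⟩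
  rw [e]

theorem genLocus_id (X : Scheme.{u}) :
    CohB1.genLocus (Coh.structureModule X) (𝟙 _) = ⊤ := by
  rw [eq_top_iff, le_genLocus_iff, CategoryTheory.Functor.map_id]
  infer_instance

theorem genLocus_powHom {L : X.Modules} (hL : PicF.IsInvertible L)
    (s : Coh.structureModule X ⟶ L) (m : ℕ) :
    CohB1.genLocus (CohB1.tensorPow L (m + 1)) (SecTwist.powHom s (m + 1)) =
      CohB1.genLocus L s := by
  induction m with
  | zero =>
    change CohB1.genLocus _ (SecTwist.tmulHom (𝟙 _) s) = _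
    rw [genLocus_tmulHom X _ _ (isInvertible_structureModule X) hL, genLocus_id, top_inf_eq]
  | succ m ih =>
    change CohB1.genLocus _ (SecTwist.tmulHom (SecTwist.powHom s (m + 1)) s) = _
    rw [genLocus_tmulHom X _ _ (isInvertible_tensorPow hL (m + 1)) hL, ih, inf_idem]

/-- `(L^a)^b ≅ (L^b)^a`. -/
noncomputable def tensorPowComm (L : X.Modules) (a b : ℕ) :
    CohB1.tensorPow (CohB1.tensorPow L a) b ≅ CohB1.tensorPow (CohB1.tensorPow L b) a :=
  tensorPowMul L a b ≪≫ eqToIso (congrArg (CohB1.tensorPow L) (Nat.mul_comm a b)) ≪≫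
    (tensorPowMul L b a).symm

noncomputable def tensorModBraid (A B : X.Modules) : CohB1.tensorMod A B ≅ CohB1.tensorMod B A :=
  (CohB1.sheafifyMod X).mapIso
    (show (show X.PresheafOfModules from CohB1.tensorPre A B) ≅
        (show X.PresheafOfModules from CohB1.tensorPre B A) from
      (@BraidedCategory.braiding _ _ _
        (PresheafOfModules.symmetricCategory (R := X.sheaf.obj)).toBraidedCategory
        (CohB1.toPMod A) (CohB1.toPMod B)))

/-- `(A ⊗ B) ⊗ (C ⊗ D) ≅ (A ⊗ C) ⊗ (B ⊗ D)`. -/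
noncomputable def tensorModInterchange (A B C D : X.Modules) :
    CohB1.tensorMod (CohB1.tensorMod A B) (CohB1.tensorMod C D) ≅
      CohB1.tensorMod (CohB1.tensorMod A C) (CohB1.tensorMod B D) :=
  tensorModAssoc A B (CohB1.tensorMod C D) ≪≫
    tensorModCongr (Iso.refl A) ((tensorModAssoc B C D).symm ≪≫
      tensorModCongr (tensorModBraid B C) (Iso.refl D) ≪≫ tensorModAssoc C B D) ≪≫
    (tensorModAssoc A C (CohB1.tensorMod B D)).symm

noncomputable def tensorPowTensor (L L' : X.Modules) : ∀ a : ℕ,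
    CohB1.tensorMod (CohB1.tensorPow L a) (CohB1.tensorPow L' a) ≅
      CohB1.tensorPow (CohB1.tensorMod L L') a
  | 0 => unitTensorIso _
  | a + 1 => tensorModInterchange (CohB1.tensorPow L a) L (CohB1.tensorPow L' a) L' ≪≫
      tensorModCongr (tensorPowTensor L L' a) (Iso.refl _)

end Groth.Agent.Lib.Helper11.GenLocus
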