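import Mathlib
import Groth.Agent.Lib.Helper11.AmpleBasis

/-! Helper library (helper11): restriction of `O`-modules along an open immersion commutes with
`CohB1.tensorMod` and `CohB1.tensorPow` (`restrictTensorIso`, `restrictTensorPowIso`); the restriction
of an ample module along a quasi-compact open immersion is ample (`isAmple_restrict`), ampleness is
invariant under isomorphisms of schemes (`isAmple_restrict_iff_of_isIso`). -/

set_option autoImplicit false
universe u

open AlgebraicGeometry CategoryTheory Limits TopologicalSpace Opposite TensorProduct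

namespace Groth.Agent.Lib.Helper11.GenLocus

open Groth.Agent.Lib.Helper45 Groth.Agent.Lib.Helper49
open Groth.Agent.Lib.Helper30.ModTensor

section algebra

variable {R S : Type u} [CommRing R] [CommRing S] (σ : R →+* S) (τ : S →+* R)
  {M N M' N' : Type u} [AddCommGroup M] [Module R M] [AddCommGroup N] [Module R N]
  [AddCommGroup M'] [Module S M'] [AddCommGroup N'] [Module S N']

theorem tmap_tmap (ρ : M →+ M') (hρ : ∀ a x, ρ (a • x) = σ a • ρ x)
    (ν : N →+ N') (hν : ∀ a n, ν (a • n) = σ a • ν n)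
    (ρ' : M' →+ M) (hρ' : ∀ a x, ρ' (a • x) = τ a • ρ' x)
    (ν' : N' →+ N) (hν' : ∀ a n, ν' (a • n) = τ a • ν' n)
    (h1 : ∀ x, ρ' (ρ x) = x) (h2 : ∀ x, ν' (ν x) = x) (z : M ⊗[R] N) :
    tmap τ ρ' hρ' ν' hν' (tmap σ ρ hρ ν hν z) = z := by
  induction z using TensorProduct.induction_on with
  | zero => simp
  | tmul m n => simp [h1, h2]
  | add x y hx hy => rw [map_add, map_add, hx, hy]

theorem tensor_addHom_ext {P : Type*} [AddCommMonoid P] (g h : M ⊗[R] N →+ P)
    (H : ∀ m n, g (m ⊗ₜ n) = h (m ⊗ₜ n)) : g = h := by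
  ext z
  induction z using TensorProduct.induction_on with
  | zero => rw [map_zero, map_zero]
  | tmul m n => exact H m n
  | add x y hx hy => rw [map_add, map_add, hx, hy]

end algebra

variable {X Y : Scheme.{u}} (f : X ⟶ Y) [IsOpenImmersion f] (A B : Y.Modules)

/-- the ring map `O_X(W) → O_Y(f W)`. -/
noncomputable def rtSigma (W : X.Opens) :
    (X.sheaf.obj ⋙ forget₂ CommRingCat RingCat).obj (op W) →+*
      (Y.sheaf.obj ⋙ forget₂ CommRingCat RingCat).obj (op (f ''ᵁ W)) :=
  (f.appIso W).inv.hom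

/-- the ring map `O_Y(f W) → O_X(W)`. -/
noncomputable def rtTau (W : X.Opens) :
    (Y.sheaf.obj ⋙ forget₂ CommRingCat RingCat).obj (op (f ''ᵁ W)) →+*
    (X.sheaf.obj ⋙ forget₂ CommRingCat RingCat).obj (op W) :=
  (f.appIso W).hom.hom

theorem rtTau_rσ (W : X.Opens) (r) : rtTau f W (rtSigma f W r) = r := by
  have := congrArg (fun g => g.hom r) (f.appIso W).inv_hom_id
  exact this

theorem rtSigma_rτ (W : X.Opens) (r) : rtSigma f W (rtTau f W r) = r := by
  have := congrArg (fun g => g.hom r) (f.appIso W).hom_inv_id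
  exact this

/-- identity map `A|_X (W) → A (f W)` -/
noncomputable def rtIdR (W : X.Opens) :
    (CohB1.toPMod (A.restrict f)).obj (op W) →+ (CohB1.toPMod A).obj (op (f ''ᵁ W)) :=
  AddMonoidHom.id _

noncomputable def rtIdL (W : X.Opens) :
    (CohB1.toPMod A).obj (op (f ''ᵁ W)) →+ (CohB1.toPMod (A.restrict f)).obj (op W) :=
  AddMonoidHom.id _

theorem rtIdR_smul (W : X.Opens) (r : (X.sheaf.obj ⋙ forget₂ CommRingCat RingCat).obj (op W))
    (m : (CohB1.toPMod (A.restrict f)).obj (op W)) :
    rtIdR f A W (r • m) = rtSigma f W r • rtIdR f A W m := rfl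

theorem rtIdL_smul (W : X.Opens) (r : (Y.sheaf.obj ⋙ forget₂ CommRingCat RingCat).obj (op (f ''ᵁ W)))
    (m : (CohB1.toPMod A).obj (op (f ''ᵁ W))) :
    rtIdL f A W (r • m) = rtTau f W r • rtIdL f A W m := by
  have h : rtSigma f W (rtTau f W r) • m = r • m := by rw [rtSigma_rτ]
  exact h.symm

/-- `A(fW) ⊗[O_X(W)] B(fW) → A(fW) ⊗[O_Y(fW)] B(fW)`. -/
noncomputable def rtER (W : X.Opens) :
    TensorProduct ((X.sheaf.obj ⋙ forget₂ CommRingCat RingCat).obj (op W))
      ((CohB1.toPMod (A.restrict f)).obj (op W)) ((CohB1.toPMod (B.restrict f)).obj (op W)) →+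
    TensorProduct ((Y.sheaf.obj ⋙ forget₂ CommRingCat RingCat).obj (op (f ''ᵁ W)))
      ((CohB1.toPMod A).obj (op (f ''ᵁ W))) ((CohB1.toPMod B).obj (op (f ''ᵁ W))) :=
  tmap (rtSigma f W) (rtIdR f A W) (rtIdR_smul f A W) (rtIdR f B W) (rtIdR_smul f B W)

noncomputable def rtEL (W : X.Opens) :
    TensorProduct ((Y.sheaf.obj ⋙ forget₂ CommRingCat RingCat).obj (op (f ''ᵁ W)))
      ((CohB1.toPMod A).obj (op (f ''ᵁ W))) ((CohB1.toPMod B).obj (op (f ''ᵁ W))) →+
    TensorProduct ((X.sheaf.obj ⋙ forget₂ CommRingCat RingCat).obj (op W))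
      ((CohB1.toPMod (A.restrict f)).obj (op W)) ((CohB1.toPMod (B.restrict f)).obj (op W)) :=
  tmap (rtTau f W) (rtIdL f A W) (rtIdL_smul f A W) (rtIdL f B W) (rtIdL_smul f B W)

theorem rtEL_eR (W : X.Opens) (z) : rtEL f A B W (rtER f A B W z) = z :=
  tmap_tmap _ _ _ _ _ _ _ _ _ _ (fun _ => rfl) (fun _ => rfl) z

theorem rtER_eL (W : X.Opens) (z) : rtER f A B W (rtEL f A B W z) = z :=
  tmap_tmap _ _ _ _ _ _ _ _ _ _ (fun _ => rfl) (fun _ => rfl) z

theorem rtER_map {W W' : X.Opens} (h : W' ≤ W)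
    (z : TensorProduct ((X.sheaf.obj ⋙ forget₂ CommRingCat RingCat).obj (op W))
      ((CohB1.toPMod (A.restrict f)).obj (op W)) ((CohB1.toPMod (B.restrict f)).obj (op W))) :
    rtER f A B W' ((CohB1.tensorPre (A.restrict f) (B.restrict f)).map (homOfLE h).op z) =
      (CohB1.tensorPre A B).map (homOfLE (f.image_mono h)).op (rtER f A B W z) := by
  exact DFunLike.congr_fun (tensor_addHom_ext
    ((rtER f A B W').comp (resAdd (CohB1.tensorPre (A.restrict f) (B.restrict f)) (homOfLE h)))
    ((resAdd (CohB1.tensorPre A B) (homOfLE (f.image_mono h))).comp (rtER f A B W))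
    (fun m n => rfl)) z

theorem rtER_smul (W : X.Opens) (r : (X.sheaf.obj ⋙ forget₂ CommRingCat RingCat).obj (op W))
    (z : TensorProduct ((X.sheaf.obj ⋙ forget₂ CommRingCat RingCat).obj (op W))
      ((CohB1.toPMod (A.restrict f)).obj (op W)) ((CohB1.toPMod (B.restrict f)).obj (op W))) :
    rtER f A B W (r • z) = rtSigma f W r • rtER f A B W z := by
  exact DFunLike.congr_fun (tensor_addHom_ext
    ((rtER f A B W).comp (DistribSMul.toAddMonoidHom _ r))
    ((DistribSMul.toAddMonoidHom _ (rtSigma f W r)).comp (rtER f A B W))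
    (fun m n => rfl)) z

/-- the comparison map on sections. -/
noncomputable def rtPsiapp (W : X.Opens) :
    TensorProduct ((X.sheaf.obj ⋙ forget₂ CommRingCat RingCat).obj (op W))
      ((CohB1.toPMod (A.restrict f)).obj (op W)) ((CohB1.toPMod (B.restrict f)).obj (op W)) →+
    (CohB1.toPMod ((CohB1.tensorMod A B).restrict f)).obj (op W) :=
  (AddMonoidHomClass.toAddMonoidHom ((SecTwist.toTensor A B).app (op (f ''ᵁ W))).hom).comp
    (rtER f A B W)

theorem rtPsiapp_apply (W : X.Opens) (z) :
    rtPsiapp f A B W z = ((SecTwist.toTensor A B).app (op (f ''ᵁ W))).hom (rtER f A B W z) := rfl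

theorem rtPsiapp_map {W W' : X.Opens} (h : W' ≤ W)
    (z : TensorProduct ((X.sheaf.obj ⋙ forget₂ CommRingCat RingCat).obj (op W))
      ((CohB1.toPMod (A.restrict f)).obj (op W)) ((CohB1.toPMod (B.restrict f)).obj (op W))) :
    rtPsiapp f A B W' ((CohB1.tensorPre (A.restrict f) (B.restrict f)).map (homOfLE h).op z) =
      (CohB1.toPMod ((CohB1.tensorMod A B).restrict f)).map (homOfLE h).op (rtPsiapp f A B W z) := by
  have h1 := congrArg (fun q => ((SecTwist.toTensor A B).app (op (f ''ᵁ W'))).hom q)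
    (rtER_map f A B h z)
  exact h1.trans (PresheafOfModules.naturality_apply (SecTwist.toTensor A B)
    (homOfLE (f.image_mono h)).op (rtER f A B W z))

theorem rtPsiapp_smul (W : X.Opens) (r : (X.sheaf.obj ⋙ forget₂ CommRingCat RingCat).obj (op W))
    (z : TensorProduct ((X.sheaf.obj ⋙ forget₂ CommRingCat RingCat).obj (op W))
      ((CohB1.toPMod (A.restrict f)).obj (op W)) ((CohB1.toPMod (B.restrict f)).obj (op W))) :
    rtPsiapp f A B W (r • z) = r • rtPsiapp f A B W z := by
  have h1 := congrArg (fun q => ((SecTwist.toTensor A B).app (op (f ''ᵁ W))).hom q)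
    (rtER_smul f A B W r z)
  exact h1.trans
    (((SecTwist.toTensor A B).app (op (f ''ᵁ W))).hom.map_smul (rtSigma f W r) (rtER f A B W z))

/-- the comparison morphism of presheaves of modules. -/
noncomputable def rtPsi : CohB1.tensorPre (A.restrict f) (B.restrict f) ⟶
    CohB1.toPMod ((CohB1.tensorMod A B).restrict f) :=
  PresheafOfModules.homMk
    { app := fun W => AddCommGrpCat.ofHom (rtPsiapp f A B W.unop)
      naturality := by
        intro W W' g
        ext z
        have h : W'.unop ≤ W.unop := g.unop.le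
        have e : g = (homOfLE h).op := rfl
        rw [e]
        exact rtPsiapp_map f A B h z }
    (fun W r m => rtPsiapp_smul f A B W.unop r m)

theorem rtPsi_app (W : X.Opens) (z) : ((rtPsi f A B).app (op W)).hom z = rtPsiapp f A B W z := rfl

theorem preimage_le_of_le_image {W : X.Opens} {V : Y.Opens} (hV : V ≤ f ''ᵁ W) : f ⁻¹ᵁ V ≤ W := by
  have := f.preimage_mono hV
  rwa [f.preimage_image_eq] at this

theorem rtPsi_locSurj :
    PresheafOfModules.IsLocallySurjective (Opens.grothendieckTopology X) (rtPsi f A B) := by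
  refine ⟨fun {W} y => ?_⟩
  intro x hx
  obtain ⟨V, hV, hxV, q, hq⟩ := toTensor_locSurj A B (f ''ᵁ W) y (f.base x) ⟨x, hx, rfl⟩
  have hle : f ⁻¹ᵁ V ≤ W := preimage_le_of_le_image f hV
  have himg : f ''ᵁ (f ⁻¹ᵁ V) ≤ V := f.image_preimage_le V
  refine ⟨f ⁻¹ᵁ V, homOfLE hle,
    ⟨rtEL f A B _ ((CohB1.tensorPre A B).map (homOfLE himg).op q), ?_⟩, hxV⟩
  have h0 := congrArg (fun t => ((SecTwist.toTensor A B).app (op (f ''ᵁ (f ⁻¹ᵁ V)))).hom t)
    (rtER_eL f A B (f ⁻¹ᵁ V) ((CohB1.tensorPre A B).map (homOfLE himg).op q))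
  refine h0.trans ?_
  have h1 := PresheafOfModules.naturality_apply (SecTwist.toTensor A B) (homOfLE himg).op q
  refine h1.trans ?_
  have h2 := congrArg (fun t => (CohB1.tensorMod A B).val.map (homOfLE himg).op t) hq
  refine h2.trans ?_
  exact mres_mres (CohB1.tensorMod A B) himg hV y

theorem rtER_injective (W : X.Opens) : Function.Injective (rtER f A B W) :=
  Function.LeftInverse.injective (rtEL_eR f A B W)

theorem rtPsi_locInj :
    PresheafOfModules.IsLocallyInjective (Opens.grothendieckTopology X) (rtPsi f A B) := by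
  refine ⟨fun {W} p q hpq => ?_⟩
  intro x hx
  obtain ⟨V, hV, hxV, hVeq⟩ := toTensor_locInj A B (f ''ᵁ W.unop) (rtER f A B W.unop p)
    (rtER f A B W.unop q) hpq (f.base x) ⟨x, hx, rfl⟩
  have hle : f ⁻¹ᵁ V ≤ W.unop := preimage_le_of_le_image f hV
  have himg : f ''ᵁ (f ⁻¹ᵁ V) ≤ V := f.image_preimage_le V
  refine ⟨f ⁻¹ᵁ V, homOfLE hle, ?_, hxV⟩
  apply rtER_injective f A B (f ⁻¹ᵁ V)
  refine (rtER_map f A B hle p).trans (Eq.trans ?_ (rtER_map f A B hle q).symm)
  have e : (homOfLE (f.image_mono hle)).op = (homOfLE hV).op ≫ (homOfLE himg).op := rfl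
  rw [e]
  refine (PresheafOfModules.map_comp_apply (CohB1.tensorPre A B) (homOfLE hV).op
    (homOfLE himg).op _).trans
    (Eq.trans ?_ (PresheafOfModules.map_comp_apply (CohB1.tensorPre A B) (homOfLE hV).op
      (homOfLE himg).op _).symm)
  exact congrArg (fun t => (CohB1.tensorPre A B).map (homOfLE himg).op t) hVeq

/-- restriction along an open immersion commutes with the tensor product. -/
noncomputable def restrictTensorIso :
    CohB1.tensorMod (A.restrict f) (B.restrict f) ≅ (CohB1.tensorMod A B).restrict f := by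
  have h : IsIso ((shf X.sheaf).map (rtPsi f A B)) :=
    (isIso_shf_map_iff _).mpr ⟨rtPsi_locInj f A B, rtPsi_locSurj f A B⟩
  exact @asIso _ _ _ _ _ h ≪≫ shfValIso _

/-- restriction along an open immersion commutes with tensor powers. -/
noncomputable def restrictTensorPowIso (L : Y.Modules) : ∀ n : ℕ,
    CohB1.tensorPow (L.restrict f) n ≅ (CohB1.tensorPow L n).restrict f
  | 0 => (Scheme.Modules.restrictUnitIso f).symm
  | n + 1 => tensorModCongr (restrictTensorPowIso L n) (Iso.refl _) ≪≫ restrictTensorIso f _ _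

theorem isBasisOn_restrict' {L : Y.Modules} (A' : X.Opens)
    (t : Γ(L, f ''ᵁ A')) (ht : IsBasisOn L (f ''ᵁ A') t) :
    IsBasisOn (L.restrict f) A' (show Γ(L.restrict f, A') from t) := by
  intro W'' hW''
  have h1 := ht (f ''ᵁ W'') (f.image_mono hW'')
  have h2 : Function.Bijective (f.appIso W'').inv.hom :=
    ConcreteCategory.bijective_of_isIso (f.appIso W'').inv
  have e : (fun r : Γ(X, W'') =>
      r • mres (L.restrict f) hW'' (show Γ(L.restrict f, A') from t)) =
      (fun r' : Γ(Y, f ''ᵁ W'') => r' • mres L (f.image_mono hW'') t) ∘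
        (f.appIso W'').inv.hom := by
    funext r
    rfl
  rw [e]
  exact h1.comp h2

theorem isInvertible_restrict' {L : Y.Modules} (hL : PicF.IsInvertible L) :
    PicF.IsInvertible (L.restrict f) := by
  have := isQuasicoherent_of_isInvertible hL
  have hq : (L.restrict f).IsQuasicoherent := inferInstance
  intro y
  obtain ⟨W, hxW, t, ht⟩ := exists_isBasisOn_of_isInvertible hL (f.base y)
  obtain ⟨_, ⟨A', hA', rfl⟩, hyA', hA'W⟩ :=
    X.isBasis_affineOpens.exists_subset_of_mem_open
      (show y ∈ ((f ⁻¹ᵁ W : X.Opens) : Set _) from hxW) (f ⁻¹ᵁ W).2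
  have hle : f ''ᵁ A' ≤ W := by
    rintro _ ⟨z, hz, rfl⟩
    exact hA'W hz
  have hb := isBasisOn_restrict' f A' (mres L hle t) (ht.mono hle)
  exact ⟨A', hyA', hb.nonempty_iso hA'⟩

theorem genLocus_restrict' {L : Y.Modules} (s : Coh.structureModule Y ⟶ L) :
    CohB1.genLocus (L.restrict f)
      ((Scheme.Modules.restrictUnitIso f).inv ≫ (Scheme.Modules.restrictFunctor f).map s) =
      f ⁻¹ᵁ CohB1.genLocus L s := by
  have key : ∀ V' : X.Opens,
      IsIso (((Scheme.Modules.restrictUnitIso f).inv ≫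
        (Scheme.Modules.restrictFunctor f).map s).app V') ↔ IsIso (s.app (f ''ᵁ V')) := by
    intro V'
    exact isIso_comp_app_iff (X := X) (Scheme.Modules.restrictUnitIso f).symm
      ((Scheme.Modules.restrictFunctor f).map s) V'
  have himg : ∀ V' : X.Opens,
      f ''ᵁ V' ≤ CohB1.genLocus L s ↔ V' ≤ f ⁻¹ᵁ CohB1.genLocus L s := by
    intro V'
    constructor
    · intro h
      have := f.preimage_mono h
      rwa [f.preimage_image_eq] at this
    · intro h
      exact (f.image_mono h).trans (f.image_preimage_le _)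
  have main : ∀ V' : X.Opens,
      V' ≤ CohB1.genLocus (L.restrict f)
        ((Scheme.Modules.restrictUnitIso f).inv ≫ (Scheme.Modules.restrictFunctor f).map s) ↔
      V' ≤ f ⁻¹ᵁ CohB1.genLocus L s := by
    intro V'
    rw [← himg, le_genLocus_iff_app, le_genLocus_iff_app]
    constructor
    · intro h V hV
      have hVW : V ≤ f.opensRange := hV.trans (f.image_le_opensRange V')
      have e : f ''ᵁ (f ⁻¹ᵁ V) = V := by
        rw [f.image_preimage_eq_opensRange_inf, inf_eq_right.mpr hVW]
      have h1 : f ⁻¹ᵁ V ≤ V' := by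
        have := f.preimage_mono hV
        rwa [f.preimage_image_eq] at this
      have h2 := (key _).mp (h _ h1)
      rwa [e] at h2
    · intro h V'' hV''
      exact (key _).mpr (h _ (f.image_mono hV''))
  exact le_antisymm ((main _).mp le_rfl) ((main _).mpr le_rfl)

/-- the restriction of a section of `L^{⊗ n}` as a section of `(L|_X)^{⊗ n}`. -/
noncomputable def restrictPowSection (L : Y.Modules) (n : ℕ)
    (s : Coh.structureModule Y ⟶ CohB1.tensorPow L n) :
    Coh.structureModule X ⟶ CohB1.tensorPow (L.restrict f) n :=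
  ((Scheme.Modules.restrictUnitIso f).inv ≫ (Scheme.Modules.restrictFunctor f).map s) ≫
    (restrictTensorPowIso f L n).inv

theorem genLocus_restrictPowSection (L : Y.Modules) (n : ℕ)
    (s : Coh.structureModule Y ⟶ CohB1.tensorPow L n) :
    CohB1.genLocus _ (restrictPowSection f L n s) = f ⁻¹ᵁ CohB1.genLocus _ s := by
  exact (genLocus_comp_iso _ (restrictTensorPowIso f L n).symm).trans (genLocus_restrict' f s)

/-- the restriction of an ample module to a quasi-compact open is ample. -/
theorem isAmple_restrict [CompactSpace X] {L : Y.Modules} (hL : CohB1.IsAmple L) :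
    CohB1.IsAmple (L.restrict f) := by
  have hqs := quasiSeparatedSpace_of_isAmple hL
  obtain ⟨hinv, hc, h⟩ := hL
  refine ⟨isInvertible_restrict' f hinv, inferInstance, fun x => ?_⟩
  obtain ⟨k, s, hxs, hsA⟩ := h (f.base x)
  obtain ⟨N, σ, hxσ, hσU, hσA⟩ := exists_genLocus_le_of_affine_genLocus L hinv k s hsA
    f.opensRange (f.base x) ⟨x, rfl⟩ hxs
  refine ⟨N, restrictPowSection f L (N + 1) σ, ?_, ?_⟩
  · rw [genLocus_restrictPowSection]
    exact hxσ
  · rw [genLocus_restrictPowSection, ← Scheme.Hom.isAffineOpen_iff_of_isOpenImmersion f,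
      f.image_preimage_eq_opensRange_inf, inf_eq_right.mpr hσU]
    exact hσA

/-- ampleness can be checked after restriction along an isomorphism. -/
theorem isAmple_of_isAmple_restrict_of_isIso [IsIso f] {L : Y.Modules}
    (h : CohB1.IsAmple (L.restrict f)) : CohB1.IsAmple L := by
  have hcX : CompactSpace X := h.2.1
  have hc : CompactSpace Y := f.homeomorph.compactSpace
  have h1 := isAmple_restrict (inv f) h
  have e : (L.restrict f).restrict (inv f) ≅ L :=
    ((Scheme.Modules.restrictFunctorComp (inv f) f).app L).symm ≪≫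
      (Scheme.Modules.restrictFunctorCongr (IsIso.inv_hom_id f)).app L ≪≫
      Scheme.Modules.restrictFunctorId.app L
  exact isAmple_of_iso e h1

theorem isAmple_restrict_iff_of_isIso [IsIso f] (L : Y.Modules) :
    CohB1.IsAmple (L.restrict f) ↔ CohB1.IsAmple L := by
  constructor
  · exact isAmple_of_isAmple_restrict_of_isIso f
  · intro h
    have hcY : CompactSpace Y := h.2.1
    have hc : CompactSpace X := f.homeomorph.symm.compactSpace
    exact isAmple_restrict f h


end Groth.Agent.Lib.Helper11.GenLocus
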