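import Mathlib
import Groth.Agent.Lib.Helper11.RestrictTensor

/-! Helper library (helper11): ampleness of restrictions only depends on the range of the open
immersion (`isAmple_restrict_congr`, `isAmple_restrict_restrict_iff`, `isAmple_restrict_of_le`);
ampleness is local on the base: `isAmple_of_basicOpen_cover`,
`isAmple_restrict_preimage_of_basicOpen_cover`. -/

set_option autoImplicit false
universe u

open AlgebraicGeometry CategoryTheory Limits TopologicalSpace Opposite TensorProduct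

namespace Groth.Agent.Lib.Helper11.GenLocus

open Groth.Agent.Lib.Helper45 Groth.Agent.Lib.Helper49

/-- ampleness of a restriction along an open immersion only depends on the range. -/
theorem isAmple_restrict_congr {X Z Z' : Scheme.{u}} (j : Z ⟶ X) (j' : Z' ⟶ X)
    [IsOpenImmersion j] [IsOpenImmersion j'] (hr : Set.range j = Set.range j') (L : X.Modules) :
    CohB1.IsAmple (L.restrict j) ↔ CohB1.IsAmple (L.restrict j') := by
  let e := IsOpenImmersion.isoOfRangeEq j j' hr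
  have he : e.hom ≫ j' = j := IsOpenImmersion.isoOfRangeEq_hom_fac j j' hr
  have i1 : L.restrict j ≅ (L.restrict j').restrict e.hom :=
    (Scheme.Modules.restrictFunctorCongr he.symm).app L ≪≫
      (Scheme.Modules.restrictFunctorComp e.hom j').app L
  rw [← isAmple_restrict_iff_of_isIso e.hom (L.restrict j')]
  exact ⟨isAmple_of_iso i1, isAmple_of_iso i1.symm⟩

/-- iterated restriction. -/
theorem isAmple_restrict_restrict_iff {X Z Z' Z'' : Scheme.{u}} (a : Z ⟶ Z') (b : Z' ⟶ X)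
    (c : Z'' ⟶ X) [IsOpenImmersion a] [IsOpenImmersion b] [IsOpenImmersion c]
    (h : Set.range (a ≫ b) = Set.range c) (L : X.Modules) :
    CohB1.IsAmple ((L.restrict b).restrict a) ↔ CohB1.IsAmple (L.restrict c) := by
  rw [← isAmple_restrict_congr (a ≫ b) c h L]
  have i1 : (L.restrict b).restrict a ≅ L.restrict (a ≫ b) :=
    ((Scheme.Modules.restrictFunctorComp a b).app L).symm
  exact ⟨isAmple_of_iso i1, isAmple_of_iso i1.symm⟩

/-- the restriction of `L|_{U'}` ample to a quasi-compact open `U ≤ U'`. -/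
theorem isAmple_restrict_of_le {X : Scheme.{u}} {U U' : X.Opens} (hUU' : U ≤ U')
    (hU : IsCompact (U : Set X)) (L : X.Modules) (h : CohB1.IsAmple (L.restrict U'.ι)) :
    CohB1.IsAmple (L.restrict U.ι) := by
  have hc : CompactSpace ((U : X.Opens) : Scheme.{u}) := isCompact_iff_compactSpace.mp hU
  have h1 := isAmple_restrict (X.homOfLE hUU') h
  refine (isAmple_restrict_restrict_iff (X.homOfLE hUU') U'.ι U.ι ?_ L).mp h1
  rw [X.homOfLE_ι]

theorem isBasisOn_of_restrict {X Y : Scheme.{u}} (f : X ⟶ Y) [IsOpenImmersion f] {L : Y.Modules}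
    (A' : X.Opens) (t : Γ(L, f ''ᵁ A'))
    (ht : IsBasisOn (L.restrict f) A' (show Γ(L.restrict f, A') from t)) :
    IsBasisOn L (f ''ᵁ A') t := by
  intro W hW
  obtain ⟨W'', rfl⟩ : ∃ W'' : X.Opens, W = f ''ᵁ W'' := ⟨f ⁻¹ᵁ W, by
    rw [f.image_preimage_eq_opensRange_inf,
      inf_eq_right.mpr (hW.trans (f.image_le_opensRange A'))]⟩
  have hW'' : W'' ≤ A' := by
    have := f.preimage_mono hW
    rwa [f.preimage_image_eq, f.preimage_image_eq] at this
  have h1 := ht W'' hW''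
  have h2 : Function.Bijective (f.appIso W'').hom.hom :=
    ConcreteCategory.bijective_of_isIso (f.appIso W'').hom
  have e : (fun r' : Γ(Y, f ''ᵁ W'') => r' • mres L hW t) =
      (fun r : Γ(X, W'') => r • mres (L.restrict f) hW'' (show Γ(L.restrict f, A') from t)) ∘
        (f.appIso W'').hom.hom := by
    funext r'
    have h3 : (f.appIso W'').inv.hom ((f.appIso W'').hom.hom r') = r' :=
      congrArg (fun g => g.hom r') (f.appIso W'').hom_inv_id
    have h4 : (f.appIso W'').inv.hom ((f.appIso W'').hom.hom r') • mres L hW t =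
        r' • mres L hW t := by rw [h3]
    exact h4.symm
  rw [e]
  exact h1.comp h2

theorem exists_genLocus_eq_of_basicOpen {W : Scheme.{u}} [CompactSpace W] [QuasiSeparatedSpace W]
    {F : W.Modules} (hF : PicF.IsInvertible F) (h : Γ(W, ⊤)) (σ : Γ(F, W.basicOpen h))
    (G : W.Opens) (hGU : G ≤ W.basicOpen h) (h1 : IsBasisOn F G (mres F hGU σ))
    (h2 : ∀ (V : W.Opens) (hV : V ≤ W.basicOpen h), IsBasisOn F V (mres F hV σ) → V ≤ G) :
    ∃ t : Coh.structureModule W ⟶ F, CohB1.genLocus F t = G := by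
  have := isQuasicoherent_of_isInvertible hF
  obtain ⟨N, y, hy⟩ := exists_restrict_eq_pow_smul_of_qcqs F (U := ⊤)
    (by simpa using isCompact_univ) (by simpa using isQuasiSeparated_univ) h σ
  have key : ∀ (V : W.Opens) (hV : V ≤ W.basicOpen h),
      mres F (le_top : V ≤ ⊤) (h • y) =
        (fres (le_top : V ≤ ⊤) h) ^ (N + 1) • mres F hV σ := by
    intro V hV
    have e1 : mres F (le_top : V ≤ ⊤) y = mres F hV (mres F (W.basicOpen_le h) y) :=
      (mres_mres F hV (W.basicOpen_le h) y).symm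
    rw [mres_smul, e1, hy, mres_smul, map_pow, fres_fres, pow_succ', mul_smul]
  refine ⟨homOfSection F (h • y), le_antisymm ?_ ?_⟩
  · set V := CohB1.genLocus F (homOfSection F (h • y)) with hVdef
    have hb : IsBasisOn F V (sec (homOfSection F (h • y)) V) :=
      (le_genLocus_iff_isBasisOn _ V).mp le_rfl
    rw [sec_homOfSection] at hb
    have hb0 := hb
    rw [mres_smul] at hb
    obtain ⟨d, hd⟩ := hb.exists_eq_smul (mres F (le_top : V ≤ ⊤) y)
    have hu : IsUnit (fres (le_top : V ≤ ⊤) h) := by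
      have h3 : (fres (le_top : V ≤ ⊤) h * d) •
            (fres (le_top : V ≤ ⊤) h • mres F (le_top : V ≤ ⊤) y) =
          (1 : Γ(W, V)) • (fres (le_top : V ≤ ⊤) h • mres F (le_top : V ≤ ⊤) y) := by
        rw [mul_smul, hd, one_smul]
      exact IsUnit.of_mul_eq_one _ (hb.eq_of_smul_eq h3)
    have hV : V ≤ W.basicOpen h := le_basicOpen_of_isUnit_res h le_top hu
    apply h2 V hV
    rw [key V hV] at hb0
    have h4 := hb0.smul_unit ((↑(hu.unit⁻¹) : Γ(W, V)) ^ (N + 1)) ((Units.isUnit _).pow _)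
    rw [smul_smul, ← mul_pow, IsUnit.val_inv_mul, one_pow, one_smul] at h4
    exact h4
  · rw [le_genLocus_iff_isBasisOn, sec_homOfSection, key G hGU]
    exact h1.smul_unit _ ((isUnit_res_of_le_basicOpen h hGU).pow _)

/-- a section of `F|_U` over `V'` viewed as a section of `F` over `U.ι ''ᵁ V'`. -/
def ofRes {W : Scheme.{u}} {F : W.Modules} (U : W.Opens) (V' : (U : Scheme.{u}).Opens)
    (t : Γ(F.restrict U.ι, V')) : Γ(F, U.ι ''ᵁ V') := t

theorem ofRes_sec {W : Scheme.{u}} {F : W.Modules} (U : W.Opens)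
    (s'' : Coh.structureModule (U : Scheme.{u}) ⟶ F.restrict U.ι) (V' : (U : Scheme.{u}).Opens) :
    ofRes U V' (sec s'' V') =
      mres F (U.ι.image_mono (le_top : V' ≤ ⊤)) (ofRes U ⊤ (sec s'' ⊤)) :=
  (sec_mres s'' (le_top : V' ≤ ⊤)).symm

theorem isBasisOn_congr_section {W : Scheme.{u}} {F : W.Modules} {V : W.Opens} {t t' : Γ(F, V)}
    (e : t = t') (h : IsBasisOn F V t) : IsBasisOn F V t' := e ▸ h

theorem exists_local_gen_data {W : Scheme.{u}} (M : W.Modules) (U : W.Opens)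
    (hamp : CohB1.IsAmple (M.restrict U.ι)) (x : W) (hxU : x ∈ U) :
    ∃ (n : ℕ) (G : W.Opens) (hGU : G ≤ U) (σ : Γ(CohB1.tensorPow M (n + 1), U)),
      x ∈ G ∧ IsAffineOpen G ∧ IsBasisOn (CohB1.tensorPow M (n + 1)) G (mres _ hGU σ) ∧
      ∀ (V : W.Opens) (hV : V ≤ U),
        IsBasisOn (CohB1.tensorPow M (n + 1)) V (mres _ hV σ) → V ≤ G := by
  obtain ⟨n, s', hx, haff⟩ := hamp.2.2 ⟨x, hxU⟩
  obtain ⟨s'', hg⟩ : ∃ s'' : Coh.structureModule (U : Scheme.{u}) ⟶
      (CohB1.tensorPow M (n + 1)).restrict U.ι, CohB1.genLocus _ s'' = CohB1.genLocus _ s' :=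
    ⟨s' ≫ (restrictTensorPowIso U.ι M (n + 1)).hom, genLocus_comp_iso s' _⟩
  rw [← hg] at hx haff
  have hle0 : U ≤ U.ι ''ᵁ ⊤ := le_of_eq U.ι_image_top.symm
  refine ⟨n, U.ι ''ᵁ CohB1.genLocus _ s'', U.ι_image_le _,
    mres _ hle0 (ofRes U ⊤ (sec s'' ⊤)),
    ⟨⟨x, hxU⟩, hx, rfl⟩, haff.image_of_isOpenImmersion U.ι, ?_, ?_⟩
  · have hb := (le_genLocus_iff_isBasisOn s'' (CohB1.genLocus _ s'')).mp le_rfl
    have hb2 : IsBasisOn (CohB1.tensorPow M (n + 1)) (U.ι ''ᵁ CohB1.genLocus _ s'')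
        (ofRes U _ (sec s'' (CohB1.genLocus _ s''))) :=
      isBasisOn_of_restrict U.ι (CohB1.genLocus _ s'') _ hb
    rw [ofRes_sec] at hb2
    rw [mres_mres]
    exact hb2
  · intro V hV hbV
    have e : U.ι ''ᵁ (U.ι ⁻¹ᵁ V) = V := by
      rw [U.ι.image_preimage_eq_opensRange_inf, U.opensRange_ι, inf_eq_right.mpr hV]
    have hb1 := hbV.congr_open e.symm
    rw [mres_mres, mres_mres] at hb1
    have hb2 := isBasisOn_restrict' U.ι (U.ι ⁻¹ᵁ V) _ hb1
    have h3 : U.ι ⁻¹ᵁ V ≤ CohB1.genLocus _ s'' := by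
      rw [le_genLocus_iff_isBasisOn]
      exact isBasisOn_congr_section (F := (CohB1.tensorPow M (n + 1)).restrict U.ι)
        (ofRes_sec U s'' (U.ι ⁻¹ᵁ V)).symm hb2
    exact e ▸ U.ι.image_mono h3

/-- **ampleness is local on the base (basic open version)**. -/
theorem isAmple_of_basicOpen_cover {W : Scheme.{u}} [CompactSpace W] (M : W.Modules) {ι : Type*}
    (h : ι → Γ(W, ⊤)) (hcov : ∀ x : W, ∃ i, x ∈ W.basicOpen (h i))
    (hamp : ∀ i, CohB1.IsAmple (M.restrict (W.basicOpen (h i)).ι)) : CohB1.IsAmple M := by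
  have hinv : PicF.IsInvertible M := by
    apply isInvertible_of_forall_exists_isBasisOn
    intro x
    obtain ⟨i, hxi⟩ := hcov x
    obtain ⟨V', hxV', τ, hτ⟩ := exists_isBasisOn_of_isInvertible (hamp i).1 ⟨x, hxi⟩
    exact ⟨(W.basicOpen (h i)).ι ''ᵁ V', ⟨⟨x, hxi⟩, hxV', rfl⟩, ofRes _ V' τ,
      isBasisOn_of_restrict _ V' _ hτ⟩
  have hqs : QuasiSeparatedSpace W := by
    refine QuasiSeparatedSpace.of_isOpenCover (U := fun i => W.basicOpen (h i))
      (eq_top_iff.mpr fun x _ => Opens.mem_iSup.mpr (hcov x))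
      (fun i => isRetrocompact_basicOpen (h i)) (fun i => ?_)
    have := quasiSeparatedSpace_of_isAmple (hamp i)
    exact (isQuasiSeparated_iff_quasiSeparatedSpace _ (W.basicOpen (h i)).2).mpr this
  refine ⟨hinv, inferInstance, fun x => ?_⟩
  obtain ⟨i, hxi⟩ := hcov x
  obtain ⟨n, G, hGU, σ, hxG, hGaff, h1, h2⟩ :=
    exists_local_gen_data M (W.basicOpen (h i)) (hamp i) x hxi
  obtain ⟨t, ht⟩ := exists_genLocus_eq_of_basicOpen (isInvertible_tensorPow hinv (n + 1))
    (h i) σ G hGU h1 h2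
  exact ⟨n, t, ht ▸ hxG, ht ▸ hGaff⟩

theorem range_ι_comp_ι {X : Scheme.{u}} (U : X.Opens) (U' : (U : Scheme.{u}).Opens) :
    Set.range (U'.ι ≫ U.ι) = ((U.ι ''ᵁ U' : X.Opens) : Set X) := by
  ext x
  constructor
  · rintro ⟨z, rfl⟩
    exact ⟨U'.ι.base z, z.2, rfl⟩
  · rintro ⟨z, hz, rfl⟩
    exact ⟨⟨z, hz⟩, rfl⟩

/-- ampleness over an open `V` of the base can be checked on a cover of `V` by basic opens. -/
theorem isAmple_restrict_preimage_of_basicOpen_cover {X Y : Scheme.{u}} (f : X ⟶ Y) (L : X.Modules)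
    (V : Y.Opens) (hc : IsCompact ((f ⁻¹ᵁ V : X.Opens) : Set X)) {ι : Type*} (g : ι → Γ(Y, V))
    (hcov : ∀ y ∈ V, ∃ i, y ∈ Y.basicOpen (g i))
    (hamp : ∀ i, CohB1.IsAmple (L.restrict (f ⁻¹ᵁ Y.basicOpen (g i)).ι)) :
    CohB1.IsAmple (L.restrict (f ⁻¹ᵁ V).ι) := by
  have : CompactSpace ((f ⁻¹ᵁ V : X.Opens) : Scheme.{u}) := isCompact_iff_compactSpace.mp hc
  have himg : ∀ i, (f ⁻¹ᵁ V).ι ''ᵁ
      ((f ⁻¹ᵁ V).toScheme.basicOpen ((f ⁻¹ᵁ V).topIso.inv (f.app V (g i)))) =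
      f ⁻¹ᵁ Y.basicOpen (g i) := by
    intro i
    rw [Scheme.Opens.ι_image_basicOpen_topIso_inv, Scheme.preimage_basicOpen]
  apply isAmple_of_basicOpen_cover _ (fun i => (f ⁻¹ᵁ V).topIso.inv (f.app V (g i)))
  · intro x
    obtain ⟨i, hi⟩ := hcov (f.base x.1) x.2
    refine ⟨i, ?_⟩
    have h1 : (f ⁻¹ᵁ V).ι.base x ∈ (f ⁻¹ᵁ V).ι ''ᵁ
        ((f ⁻¹ᵁ V).toScheme.basicOpen ((f ⁻¹ᵁ V).topIso.inv (f.app V (g i)))) := by
      rw [himg]; exact hi
    obtain ⟨x', hx', e⟩ := h1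
    have h2 := (f ⁻¹ᵁ V).ι.isOpenEmbedding.injective e
    exact h2 ▸ hx'
  · intro i
    refine (isAmple_restrict_restrict_iff
      ((f ⁻¹ᵁ V).toScheme.basicOpen ((f ⁻¹ᵁ V).topIso.inv (f.app V (g i)))).ι (f ⁻¹ᵁ V).ι
      (f ⁻¹ᵁ Y.basicOpen (g i)).ι ?_ L).mpr (hamp i)
    rw [range_ι_comp_ι, himg, Scheme.Opens.range_ι]

theorem subsingleton_of_eq_bot {W : Scheme.{u}} {O : W.Opens} (h : O = ⊥) : Subsingleton Γ(W, O) := by
  subst h; infer_instance

/-- a clopen decomposition gives an idempotent function. -/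
theorem exists_basicOpen_eq_of_isCompl {W : Scheme.{u}} (A B : W.Opens) (hsup : A ⊔ B = ⊤)
    (hinf : A ⊓ B = ⊥) : ∃ e : Γ(W, ⊤), W.basicOpen e = A := by
  let U : Bool → W.Opens := fun b => if b then A else B
  have hcov : (⊤ : W.Opens) ≤ iSup U := by
    rw [← hsup]
    exact sup_le (le_iSup U true) (le_iSup U false)
  obtain ⟨e, he, -⟩ := TopCat.Sheaf.existsUnique_gluing' W.sheaf U ⊤ (fun i => homOfLE le_top) hcov
    (fun b => if b then 1 else 0) (by
      intro i j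
      cases i <;> cases j
      · rfl
      · have : Subsingleton Γ(W, U false ⊓ U true) :=
          subsingleton_of_eq_bot (by simp only [U]; rw [inf_comm]; exact hinf)
        exact this.elim _ _
      · have : Subsingleton Γ(W, U true ⊓ U false) := subsingleton_of_eq_bot hinf
        exact this.elim _ _
      · rfl)
  refine ⟨e, ?_⟩
  have h1 : W.presheaf.map (homOfLE (le_top : A ≤ ⊤)).op e = 1 := he true
  have h0 : W.presheaf.map (homOfLE (le_top : B ≤ ⊤)).op e = 0 := he false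
  have hA : A ≤ W.basicOpen e := by
    have := W.basicOpen_res e (homOfLE (le_top : A ≤ ⊤)).op
    rw [h1, Scheme.basicOpen_of_isUnit _ isUnit_one] at this
    exact (inf_eq_left.mp this.symm)
  have hB : B ⊓ W.basicOpen e = ⊥ := by
    have := W.basicOpen_res e (homOfLE (le_top : B ≤ ⊤)).op
    rw [h0, Scheme.basicOpen_zero] at this
    exact this.symm
  apply le_antisymm _ hA
  intro x hx
  have hx' : x ∈ A ⊔ B := hsup ▸ trivial
  rcases hx' with hxA | hxB
  · exact hxA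
  · have : x ∈ B ⊓ W.basicOpen e := ⟨hxB, hx⟩
    rw [hB] at this
    exact absurd this (by simp)

/-- ampleness on a disjoint union of two opens. -/
theorem isAmple_of_isCompl {W : Scheme.{u}} [CompactSpace W] (M : W.Modules) (A B : W.Opens)
    (hsup : A ⊔ B = ⊤) (hinf : A ⊓ B = ⊥)
    (hA : CohB1.IsAmple (M.restrict A.ι)) (hB : CohB1.IsAmple (M.restrict B.ι)) :
    CohB1.IsAmple M := by
  obtain ⟨e, he⟩ := exists_basicOpen_eq_of_isCompl A B hsup hinf
  obtain ⟨e', he'⟩ := exists_basicOpen_eq_of_isCompl B A (by rw [sup_comm]; exact hsup)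
    (by rw [inf_comm]; exact hinf)
  apply isAmple_of_basicOpen_cover M (fun b : Bool => if b then e else e')
  · intro x
    have hx : x ∈ A ⊔ B := hsup ▸ trivial
    rcases hx with h | h
    · exact ⟨true, by rw [if_pos rfl, he]; exact h⟩
    · exact ⟨false, by rw [if_neg (by simp), he']; exact h⟩
  · intro b
    cases b
    · exact (isAmple_restrict_congr _ B.ι (by
        rw [Scheme.Opens.range_ι, Scheme.Opens.range_ι, if_neg (by simp), he']) M).mpr hB
    · exact (isAmple_restrict_congr _ A.ι (by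
        rw [Scheme.Opens.range_ι, Scheme.Opens.range_ι, if_pos rfl, he]) M).mpr hA

theorem isAmple_restrict_of_isCompl {X : Scheme.{u}} (L : X.Modules) (W A B : X.Opens)
    (hc : IsCompact (W : Set X)) (hsup : A ⊔ B = W) (hinf : A ⊓ B = ⊥)
    (hA : CohB1.IsAmple (L.restrict A.ι)) (hB : CohB1.IsAmple (L.restrict B.ι)) :
    CohB1.IsAmple (L.restrict W.ι) := by
  have : CompactSpace ((W : X.Opens) : Scheme.{u}) := isCompact_iff_compactSpace.mp hc
  have hAW : A ≤ W := hsup ▸ le_sup_left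
  have hBW : B ≤ W := hsup ▸ le_sup_right
  have eA : W.ι ''ᵁ (W.ι ⁻¹ᵁ A) = A := by
    rw [W.ι.image_preimage_eq_opensRange_inf, W.opensRange_ι, inf_eq_right.mpr hAW]
  have eB : W.ι ''ᵁ (W.ι ⁻¹ᵁ B) = B := by
    rw [W.ι.image_preimage_eq_opensRange_inf, W.opensRange_ι, inf_eq_right.mpr hBW]
  apply isAmple_of_isCompl (L.restrict W.ι) (W.ι ⁻¹ᵁ A) (W.ι ⁻¹ᵁ B)
  · rw [← Scheme.Hom.preimage_sup, hsup]
    exact W.ι_preimage_self
  · rw [← Scheme.Hom.preimage_inf, hinf]
    rfl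
  · exact (isAmple_restrict_restrict_iff (W.ι ⁻¹ᵁ A).ι W.ι A.ι (by
      rw [range_ι_comp_ι, eA, Scheme.Opens.range_ι]) L).mpr hA
  · exact (isAmple_restrict_restrict_iff (W.ι ⁻¹ᵁ B).ι W.ι B.ι (by
      rw [range_ι_comp_ι, eB, Scheme.Opens.range_ι]) L).mpr hB

theorem range_ι_comp {X Z : Scheme.{u}} (j : Z ⟶ X) [IsOpenImmersion j] (U : Z.Opens) :
    Set.range (U.ι ≫ j) = ((j ''ᵁ U : X.Opens) : Set X) := by
  ext x
  constructor
  · rintro ⟨z, rfl⟩
    exact ⟨U.ι.base z, z.2, rfl⟩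
  · rintro ⟨z, hz, rfl⟩
    exact ⟨⟨z, hz⟩, rfl⟩

theorem isAmple_pullback_restrict_iff {X Z : Scheme.{u}} (j : Z ⟶ X) [IsOpenImmersion j]
    (L : X.Modules) (U : Z.Opens) :
    CohB1.IsAmple (((Scheme.Modules.pullback j).obj L).restrict U.ι) ↔
      CohB1.IsAmple (L.restrict (j ''ᵁ U).ι) := by
  have i1 : ((Scheme.Modules.pullback j).obj L).restrict U.ι ≅ (L.restrict j).restrict U.ι :=
    (Scheme.Modules.restrictFunctor U.ι).mapIso
      ((Scheme.Modules.restrictFunctorIsoPullback j).app L).symm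
  rw [← isAmple_restrict_restrict_iff U.ι j (j ''ᵁ U).ι (by
    rw [range_ι_comp, Scheme.Opens.range_ι]) L]
  exact ⟨isAmple_of_iso i1, isAmple_of_iso i1.symm⟩

end Groth.Agent.Lib.Helper11.GenLocus
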