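import Mathlib
import Groth.Agent.Lib.Helper11.AmpleLocal

/-! Helper library (helper11): sums of sections of invertible modules (`mem_genLocus_add`); a finite
set of points of a scheme with an ample module lies in some `X_t` (`exists_section_of_finite`,
homogeneous prime avoidance); basic opens of functions on `X_s` are of the form `X_σ`
(`exists_genLocus_eq_basicOpen_of_section`). -/

set_option autoImplicit false
universe u

open AlgebraicGeometry CategoryTheory Limits TopologicalSpace Opposite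

namespace Groth.Agent.Lib.Helper11.GenLocus

open Groth.Agent.Lib.Helper45 Groth.Agent.Lib.Helper49

variable {X : Scheme.{u}}

theorem sec_add {P : X.Modules} (s₁ s₂ : Coh.structureModule X ⟶ P) (V : X.Opens) :
    sec (s₁ + s₂) V = sec s₁ V + sec s₂ V := rfl

/-- `D(a) ⊆ X_s` when `s = a e` on `U` with `e` a basis. -/
theorem basicOpen_le_genLocus {P : X.Modules} (s : Coh.structureModule X ⟶ P) {U : X.Opens}
    (e : Γ(P, U)) (he : IsBasisOn P U e) (a : Γ(X, U)) (hs : sec s U = a • e) :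
    X.basicOpen a ≤ CohB1.genLocus P s := by
  rw [le_genLocus_iff_isBasisOn, sec_eq_of_le s (X.basicOpen_le a) e a hs]
  exact (he.mono (X.basicOpen_le a)).smul_unit _ (RingedSpace.isUnit_res_basicOpen _ a)

theorem mem_genLocus_add {P : X.Modules} (hP : PicF.IsInvertible P)
    (s₁ s₂ : Coh.structureModule X ⟶ P) (x : X)
    (h1 : x ∈ CohB1.genLocus P s₁) (h2 : x ∉ CohB1.genLocus P s₂) :
    x ∈ CohB1.genLocus P (s₁ + s₂) := by
  obtain ⟨V, hxV, e, he⟩ := exists_isBasisOn_of_isInvertible hP x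
  obtain ⟨a₁, ha₁⟩ := he.exists_eq_smul (sec s₁ V)
  obtain ⟨a₂, ha₂⟩ := he.exists_eq_smul (sec s₂ V)
  have hx1 : x ∈ X.basicOpen a₁ := genLocus_inf_le_basicOpen s₁ e he a₁ ha₁.symm ⟨h1, hxV⟩
  have hx2 : x ∉ X.basicOpen a₂ := fun h => h2 (basicOpen_le_genLocus s₂ e he a₂ ha₂.symm h)
  have hsum : sec (s₁ + s₂) V = (a₁ + a₂) • e := by rw [sec_add, ← ha₁, ← ha₂, add_smul]
  apply basicOpen_le_genLocus (s₁ + s₂) e he (a₁ + a₂) hsum
  rw [X.mem_basicOpen _ x hxV] at hx1 hx2 ⊢
  rw [map_add]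
  by_contra hnu
  have h3 : X.presheaf.germ V x hxV a₁ ∈ nonunits (X.presheaf.stalk x) := by
    have : X.presheaf.germ V x hxV a₁ = (X.presheaf.germ V x hxV a₁ + X.presheaf.germ V x hxV a₂) +
        (-(X.presheaf.germ V x hxV a₂)) := by ring
    rw [this]
    exact IsLocalRing.nonunits_add hnu (by simpa using hx2)
  exact h3 hx1

theorem exists_pow_section {L : X.Modules} (hL : PicF.IsInvertible L) (k j N : ℕ)
    (hN : (k + 1) * (j + 1) = N + 1) (s : Coh.structureModule X ⟶ CohB1.tensorPow L (k + 1)) :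
    ∃ σ : Coh.structureModule X ⟶ CohB1.tensorPow L (N + 1),
      CohB1.genLocus _ σ = CohB1.genLocus _ s := by
  refine ⟨SecTwist.powHom s (j + 1) ≫ (tensorPowMul L (k + 1) (j + 1) ≪≫
    eqToIso (congrArg (CohB1.tensorPow L) hN)).hom, ?_⟩
  rw [genLocus_comp_iso, genLocus_powHom (isInvertible_tensorPow hL (k + 1)) s j]

/-- a finite antichain (for specialization) lies in some `X_t`. -/
theorem exists_section_of_antichain [CompactSpace X] {L : X.Modules} (hL : CohB1.IsAmple L)
    (T : Finset X) (hT : ∀ x ∈ T, ∀ z ∈ T, z ⤳ x → z = x) :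
    ∃ (m : ℕ) (t : Coh.structureModule X ⟶ CohB1.tensorPow L (m + 1)),
      (T : Set X) ⊆ CohB1.genLocus _ t := by
  classical
  have hqs := quasiSeparatedSpace_of_isAmple hL
  induction T using Finset.induction_on with
  | empty => exact ⟨0, 0, by simp⟩
  | insert z T' hz ih =>
    obtain ⟨m₁, t₁, ht₁⟩ := ih (fun x hx y hy => hT x (Finset.mem_insert_of_mem hx) y
      (Finset.mem_insert_of_mem hy))
    by_cases hz1 : z ∈ CohB1.genLocus _ t₁
    · refine ⟨m₁, t₁, ?_⟩
      intro x hx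
      rcases Finset.mem_insert.mp hx with rfl | hx
      · exact hz1
      · exact ht₁ hx
    · -- the closed set `C`
      let C : Set X := ⋃ z' ∈ T', closure {z'}
      have hC : IsClosed C := T'.finite_toSet.isClosed_biUnion (fun _ _ => isClosed_closure)
      have hzC : z ∉ C := by
        intro h
        obtain ⟨z', hz', hzz'⟩ := Set.mem_iUnion₂.mp h
        have hsp : z' ⤳ z := specializes_iff_mem_closure.mpr hzz'
        have := hT z (Finset.mem_insert_self z T') z' (Finset.mem_insert_of_mem hz') hsp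
        exact hz (this ▸ hz')
      have hTC : (T' : Set X) ⊆ C := fun x hx =>
        Set.mem_iUnion₂.mpr ⟨x, hx, subset_closure rfl⟩
      obtain ⟨k₀, s₀, hzs₀, hA₀⟩ := hL.2.2 z
      obtain ⟨k, t₂, hzt₂, ht₂C, -⟩ := exists_genLocus_le_of_affine_genLocus L hL.1 k₀ s₀ hA₀
        ⟨Cᶜ, hC.isOpen_compl⟩ z hzC hzs₀
      obtain ⟨N, hN⟩ : ∃ N, (m₁ + 1) * (k + 1) = N + 1 :=
        Nat.exists_eq_succ_of_ne_zero (Nat.mul_ne_zero (Nat.succ_ne_zero _) (Nat.succ_ne_zero _))
      obtain ⟨σ₁, hσ₁⟩ := exists_pow_section hL.1 m₁ k N hN t₁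
      obtain ⟨σ₂, hσ₂⟩ := exists_pow_section hL.1 k m₁ N ((mul_comm _ _).trans hN) t₂
      have hP := isInvertible_tensorPow hL.1 (N + 1)
      refine ⟨N, σ₁ + σ₂, ?_⟩
      intro x hx
      rcases Finset.mem_insert.mp hx with rfl | hx
      · rw [add_comm σ₁ σ₂]
        exact mem_genLocus_add hP σ₂ σ₁ _ (hσ₂ ▸ hzt₂) (hσ₁ ▸ hz1)
      · refine mem_genLocus_add hP σ₁ σ₂ x (hσ₁ ▸ ht₁ hx) ?_
        rw [hσ₂]
        intro hx2
        exact ht₂C hx2 (hTC hx)

theorem exists_section_of_finite [CompactSpace X] {L : X.Modules} (hL : CohB1.IsAmple L)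
    (Z : Set X) (hZ : Z.Finite) :
    ∃ (m : ℕ) (t : Coh.structureModule X ⟶ CohB1.tensorPow L (m + 1)),
      Z ⊆ CohB1.genLocus _ t := by
  obtain ⟨T, hTZ, hTanti, hTsp⟩ := exists_special_of_finite Z hZ
  obtain ⟨m, t, ht⟩ := exists_section_of_antichain hL T hTanti
  refine ⟨m, t, fun e he => ?_⟩
  obtain ⟨x, hxT, hex⟩ := hTsp e he
  exact hex.mem_open (CohB1.genLocus _ t).2 (ht hxT)

/-- every basic open of a function on `X_s` is of the form `X_σ`. -/
theorem exists_genLocus_eq_basicOpen_of_section [CompactSpace X] [QuasiSeparatedSpace X]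
    (L : X.Modules) (hL : PicF.IsInvertible L) (k : ℕ)
    (s : Coh.structureModule X ⟶ CohB1.tensorPow L (k + 1)) (f : Γ(X, CohB1.genLocus _ s)) :
    ∃ (N : ℕ) (σ : Coh.structureModule X ⟶ CohB1.tensorPow L (N + 1)),
      CohB1.genLocus _ σ = X.basicOpen f := by
  have hL' : PicF.IsInvertible (CohB1.tensorPow L (k + 1)) := isInvertible_tensorPow hL (k + 1)
  obtain ⟨n, -, t', ht'⟩ := exists_twist_extends X (CohB1.tensorPow L (k + 1)) hL' s
    (Coh.structureModule X) (toO _ f)
  have hbasis : IsBasisOn (CohB1.tensorPow L (k + 1)) (CohB1.genLocus _ s)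
      (sec s (CohB1.genLocus _ s)) := (le_genLocus_iff_isBasisOn s _).mp le_rfl
  have hβ := isBasisOn_tm (isBasisOn_one (CohB1.genLocus _ s)) (isBasisOn_powSec hbasis n)
  have hM₀ : PicF.IsInvertible (CohB1.tensorMod (Coh.structureModule X)
      (CohB1.tensorPow (CohB1.tensorPow L (k + 1)) n)) :=
    isInvertible_tensorMod (isInvertible_structureModule X) (isInvertible_tensorPow hL' n)
  have hσ₀ : sec (homOfSection _ t') (CohB1.genLocus _ s) =
      f • tm (Coh.structureModule X) (CohB1.tensorPow (CohB1.tensorPow L (k + 1)) n)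
        (CohB1.genLocus _ s) (toO _ 1) (powSec _ _ (sec s (CohB1.genLocus _ s)) n) := by
    rw [sec_homOfSection, ht', toΓ_twist_eq_loc s (Coh.structureModule X) n _
      (sec s (CohB1.genLocus _ s)) 1 (one_smul _ _).symm, one_pow, one_smul, loc,
      ← tm_smul_left, toO_smul, mul_one]
  have h1 : CohB1.genLocus _ (homOfSection _ t') ⊓ CohB1.genLocus _ s = X.basicOpen f := by
    apply le_antisymm
    · exact genLocus_inf_le_basicOpen (homOfSection _ t') _ hβ f hσ₀
    · refine le_inf ?_ (X.basicOpen_le f)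
      rw [le_genLocus_iff_isBasisOn, ← sec_mres _ (X.basicOpen_le f), hσ₀, mres_smul]
      exact (hβ.mono (X.basicOpen_le f)).smul_unit _ (RingedSpace.isUnit_res_basicOpen _ f)
  have h2 := genLocus_tmulHom X _ _ hM₀ hL' (homOfSection _ t') s
  obtain ⟨N, ⟨ι⟩⟩ := exists_pow_iso L k n
  have h3 := genLocus_comp_iso (SecTwist.tmulHom (homOfSection _ t') s) ι
  refine ⟨N, SecTwist.tmulHom (homOfSection _ t') s ≫ ι.hom, ?_⟩
  rw [h3, h2, h1]

end Groth.Agent.Lib.Helper11.GenLocus
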