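import Mathlib
import Groth.Agent.Lib.Helper11.AmpleFinite
import Groth.Agent.Lib.Helper49.QCohLocal
import Groth.Agent.Lib.Helper49.FiniteTypeLocal
import Groth.Agent.Lib.Helper49.FiniteTypeAffine
import Groth.Agent.S4407
import Groth.Prelude.Def_Curv2

/-! Helper library (helper11): twists `F ⊗ L^n` of a quasi-coherent module of finite type by an
ample module are generated by global sections for `n` large (`eventually_genOn_top`,
`isGloballyGenerated_of_genOn_top`); `F ⊗ N` is quasi-coherent / of finite type if `F` is and `N` is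
invertible; `exists_twist_extends_ge`; invertible modules are of finite type. -/

set_option autoImplicit false
universe u

open AlgebraicGeometry CategoryTheory Limits TopologicalSpace Opposite

namespace Groth.Agent.Lib.Helper11.GenLocus

open Groth.Agent.Lib.Helper45 Groth.Agent.Lib.Helper49

variable {X : Scheme.{u}}

/-- `F ⊗ N` restricted to an open where `N` is trivial is `F` restricted. -/
noncomputable def restrictTensorTrivIso (F N : X.Modules) (U : X.Opens)
    (e : N.restrict U.ι ≅ Coh.structureModule (U : Scheme.{u})) :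
    (CohB1.tensorMod F N).restrict U.ι ≅ F.restrict U.ι :=
  (restrictTensorIso U.ι F N).symm ≪≫ tensorModCongr (Iso.refl _) e ≪≫ tensorUnitIso _

theorem isQuasicoherent_tensorMod_of_isInvertible (F N : X.Modules) [F.IsQuasicoherent]
    (hN : PicF.IsInvertible N) : (CohB1.tensorMod F N).IsQuasicoherent := by
  choose U hxU he using hN
  refine isQuasicoherent_of_forall_restrict _ (ι := X) (fun x => ((U x : X.Opens) : Scheme.{u}))
    (fun x => (U x).ι) (fun x => ⟨x, ⟨⟨x, hxU x⟩, rfl⟩⟩) (fun x => ?_)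
  obtain ⟨e⟩ := he x
  exact isQuasicoherent_of_iso (restrictTensorTrivIso F N (U x) e).symm inferInstance

theorem isFiniteType_tensorMod_of_isInvertible (F N : X.Modules)
    (hF : SheafOfModules.IsFiniteType (R := X.ringCatSheaf) F)
    (hN : PicF.IsInvertible N) :
    SheafOfModules.IsFiniteType (R := X.ringCatSheaf) (CohB1.tensorMod F N) := by
  choose U hxU he using hN
  refine isFiniteType_of_forall_restrict _ (ι := X) (fun x => ((U x : X.Opens) : Scheme.{u}))
    (fun x => (U x).ι) (fun x => ⟨x, ⟨⟨x, hxU x⟩, rfl⟩⟩) (fun x => ?_)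
  obtain ⟨e⟩ := he x
  exact isFiniteType_of_iso (restrictTensorTrivIso F N (U x) e).symm
    (isFiniteType_restrict F (U x).ι hF)

/-- global sections of `T` generate `T` at all points of `U`. -/
def GenOn (T : X.Modules) (U : X.Opens) : Prop :=
  ∀ (V : X.Opens) (_ : V ≤ U) (a : Γ(T, V)) (x : X), x ∈ V →
    ∃ (W : X.Opens) (hWV : W ≤ V), x ∈ W ∧
      mres T hWV a ∈ Submodule.span Γ(X, W)
        (Set.range fun t : Γ(T, ⊤) => mres T (le_top : W ≤ ⊤) t)

theorem GenOn.of_iso {T T' : X.Modules} (φ : T ≅ T') {U : X.Opens} (h : GenOn T U) :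
    GenOn T' U := by
  intro V hV a' x hx
  obtain ⟨W, hWV, hxW, hmem⟩ := h V hV ((φ.inv.app V).hom a') x hx
  refine ⟨W, hWV, hxW, ?_⟩
  have key : ∀ b ∈ Submodule.span Γ(X, W)
      (Set.range fun t : Γ(T, ⊤) => mres T (le_top : W ≤ ⊤) t),
      (φ.hom.app W).hom b ∈ Submodule.span Γ(X, W)
        (Set.range fun t : Γ(T', ⊤) => mres T' (le_top : W ≤ ⊤) t) := by
    intro b hb
    induction hb using Submodule.span_induction with
    | mem b hb =>
      obtain ⟨t, rfl⟩ := hb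
      refine Submodule.subset_span ⟨(φ.hom.app ⊤).hom t, ?_⟩
      exact app_res φ.hom (le_top : W ≤ ⊤) t
    | zero => rw [map_zero]; exact Submodule.zero_mem _
    | add b c _ _ hb hc => rw [map_add]; exact Submodule.add_mem _ hb hc
    | smul r b _ hb =>
      rw [Scheme.Modules.Hom.app_smul]
      exact Submodule.smul_mem _ _ hb
  have h1 := key _ hmem
  have h2 : (φ.hom.app W).hom (mres T hWV ((φ.inv.app V).hom a')) = mres T' hWV a' := by
    have := congrArg (fun ψ : T' ⟶ T' => (ψ.app V).hom a') φ.inv_hom_id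
    exact (app_res φ.hom hWV _).symm.trans (congrArg (mres T' hWV) this)
  rwa [h2] at h1

theorem exists_twist_extends_ge (X : Scheme.{u}) [CompactSpace X] [QuasiSeparatedSpace X]
    (L : X.Modules) (hL : PicF.IsInvertible L) (s : Coh.structureModule X ⟶ L) (F : X.Modules)
    [F.IsQuasicoherent] (t : Γ(F, CohB1.genLocus L s)) :
    ∃ N₀ : ℕ, ∀ N, N₀ ≤ N → ∃ t' : Γ(CohB1.tensorMod F (CohB1.tensorPow L N), ⊤),
      mres _ (le_top : CohB1.genLocus L s ≤ ⊤) t' =
        toΓ _ _ (SecTwist.twist s N F (CohB1.genLocus L s) t) := by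
  classical
  choose d hxd using fun x => exists_LD hL s x
  have h1 : ∀ x, ∃ (n : ℕ) (τ : Γ(F, (d x).U)), (d x).Ext F t n τ := fun x =>
    exists_restrict_eq_pow_smul_of_qcqs F (d x).aff.isCompact (d x).aff.isQuasiSeparated (d x).a
      (mres F (d x).hD t)
  choose n₀ τ₀ hτ₀ using h1
  obtain ⟨S, hS⟩ := isCompact_univ.elim_finite_subcover (fun x => (((d x).U : X.Opens) : Set X))
    (fun x => (d x).U.isOpen) (fun x _ => Set.mem_iUnion.mpr ⟨x, hxd x⟩)
  obtain ⟨n₁, τ, hτ⟩ : ∃ (n₁ : ℕ) (τ : ∀ x, Γ(F, (d x).U)), ∀ x ∈ S, (d x).Ext F t n₁ (τ x) := by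
    refine ⟨S.sup n₀, fun x => (d x).a ^ (S.sup n₀ - n₀ x) • τ₀ x, ?_⟩
    intro x hx
    have hle : n₀ x ≤ S.sup n₀ := Finset.le_sup hx
    have h0 := hτ₀ x
    unfold LD.Ext at h0 ⊢
    rw [mres_smul, h0, map_pow, ← mul_smul, ← pow_add, Nat.sub_add_cancel hle]
  choose v hve hv using fun i j => LD.exists_trans (d i) (d j)
  have hk : ∀ i j, ∃ m₀ : ℕ, i ∈ S → j ∈ S → ∀ m, m₀ ≤ m →
      (fres (inf_le_left : (d i).U ⊓ (d j).U ≤ (d i).U) (d i).a) ^ m • mres F inf_le_left (τ i) =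
      (fres (inf_le_left : (d i).U ⊓ (d j).U ≤ (d i).U) (d i).a) ^ m • (v i j) ^ n₁ •
        mres F (inf_le_right : (d i).U ⊓ (d j).U ≤ (d j).U) (τ j) := by
    intro i j
    by_cases hij : i ∈ S ∧ j ∈ S
    · obtain ⟨m₀, h⟩ := LD.exists_kill (d i) (d j) F t n₁ (τ i) (τ j) (hτ i hij.1) (hτ j hij.2)
        (v i j) (hv i j)
      exact ⟨m₀, fun _ _ => h⟩
    · exact ⟨0, fun hi hj => absurd ⟨hi, hj⟩ hij⟩
  choose m₀ hm₀ using hk
  obtain ⟨mmin, hmmin⟩ : ∃ m : ℕ, ∀ i ∈ S, ∀ j ∈ S, m₀ i j ≤ m :=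
    ⟨(S ×ˢ S).sup (fun p => m₀ p.1 p.2), fun i hi j hj =>
      Finset.le_sup (f := fun p : X × X => m₀ p.1 p.2) (Finset.mk_mem_product hi hj)⟩
  have hcov : (⊤ : X.Opens) ≤ ⨆ i : S, (d i.1).U := by
    intro x _
    obtain ⟨i, hi, hxi⟩ := Set.mem_iUnion₂.mp (hS (Set.mem_univ x))
    exact Opens.mem_iSup.mpr ⟨⟨i, hi⟩, hxi⟩
  have hcovG : CohB1.genLocus L s ≤ ⨆ i : S, X.basicOpen (d i.1).a := by
    intro x hx
    obtain ⟨i, hi, hxi⟩ := Set.mem_iUnion₂.mp (hS (Set.mem_univ x))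
    exact Opens.mem_iSup.mpr ⟨⟨i, hi⟩, (d i).hGU ⟨hx, hxi⟩⟩
  refine ⟨n₁ + mmin + 1, fun N hN => ?_⟩
  obtain ⟨m, rfl, hm'⟩ : ∃ m, N = n₁ + m + 1 ∧ mmin ≤ m := ⟨N - n₁ - 1, by omega, by omega⟩
  have hm : ∀ i ∈ S, ∀ j ∈ S, m₀ i j ≤ m := fun i hi j hj => (hmmin i hi j hj).trans hm'
  obtain ⟨t', ht', -⟩ := TopCat.Sheaf.existsUnique_gluing'
    ⟨(CohB1.tensorMod F (CohB1.tensorPow L (n₁ + m + 1))).presheaf,
      (CohB1.tensorMod F (CohB1.tensorPow L (n₁ + m + 1))).isSheaf⟩
    (fun i : S => (d i.1).U) ⊤ (fun i => homOfLE le_top) hcov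
    (fun i => loc L F (n₁ + m + 1) (d i.1).U (d i.1).e ((d i.1).a ^ (m + 1) • τ i.1))
    (fun i j => LD.compat (d i.1) (d j.1) F n₁ m (τ i.1) (τ j.1) (v i.1 j.1) (hve i.1 j.1)
      (hv i.1 j.1) (hm₀ i.1 j.1 i.2 j.2 m (hm i.1 i.2 j.1 j.2)))
  refine ⟨t', ?_⟩
  apply TopCat.Sheaf.eq_of_locally_eq'
    ⟨(CohB1.tensorMod F (CohB1.tensorPow L (n₁ + m + 1))).presheaf,
      (CohB1.tensorMod F (CohB1.tensorPow L (n₁ + m + 1))).isSheaf⟩
    (fun i : S => X.basicOpen (d i.1).a) (CohB1.genLocus L s) (fun i => homOfLE (d i.1).hD) hcovG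
  intro i
  change mres _ (d i.1).hD (mres _ le_top t') = mres _ (d i.1).hD (toΓ _ _ _)
  rw [mres_mres, ← LD.check (d i.1) F t n₁ m (τ i.1) (hτ i.1 i.2)]
  have hti : mres _ (le_top : (d i.1).U ≤ ⊤) t' =
      loc L F (n₁ + m + 1) (d i.1).U (d i.1).e ((d i.1).a ^ (m + 1) • τ i.1) := ht' i
  rw [← hti, mres_mres]

theorem genOn_twist_of_affine [CompactSpace X] [QuasiSeparatedSpace X] (G P : X.Modules)
    [G.IsQuasicoherent] (hG : SheafOfModules.IsFiniteType (R := X.ringCatSheaf) G)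
    (hP : PicF.IsInvertible P) (s : Coh.structureModule X ⟶ P)
    (hA : IsAffineOpen (CohB1.genLocus P s)) :
    ∃ K : ℕ, ∀ k, K ≤ k →
      GenOn (CohB1.tensorMod G (CohB1.tensorPow P k)) (CohB1.genLocus P s) := by
  classical
  have hfin : Module.Finite Γ(X, CohB1.genLocus P s) Γ(G, CohB1.genLocus P s) :=
    finite_sections_of_isFiniteType G hG hA
  obtain ⟨r, g, hg⟩ := Module.Finite.exists_fin (R := Γ(X, CohB1.genLocus P s))
    (M := Γ(G, CohB1.genLocus P s))
  choose N₀ hN₀ using fun j => exists_twist_extends_ge X P hP s G (g j)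
  refine ⟨Finset.univ.sup N₀, fun k hk => ?_⟩
  have hk' : ∀ j, N₀ j ≤ k := fun j => (Finset.le_sup (Finset.mem_univ j)).trans hk
  choose t ht using fun j => hN₀ j k (hk' j)
  have hbasis : IsBasisOn P (CohB1.genLocus P s) (sec s (CohB1.genLocus P s)) :=
    (le_genLocus_iff_isBasisOn s _).mp le_rfl
  have hτ := isBasisOn_powSec hbasis k
  have ht' : ∀ j, mres _ (le_top : CohB1.genLocus P s ≤ ⊤) (t j) =
      tm G (CohB1.tensorPow P k) (CohB1.genLocus P s) (g j)
        (powSec P (CohB1.genLocus P s) (sec s (CohB1.genLocus P s)) k) := by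
    intro j
    rw [ht j, toΓ_twist_eq_loc s G k _ (sec s (CohB1.genLocus P s)) 1 (one_smul _ _).symm,
      one_pow, one_smul]
    rfl
  intro V hV a x hxV
  obtain ⟨f, hfV, hxf⟩ := hA.exists_basicOpen_le (V := V) ⟨x, hxV⟩ (hV hxV)
  have hWU : X.basicOpen f ≤ CohB1.genLocus P s := X.basicOpen_le f
  refine ⟨X.basicOpen f, hfV, hxf, ?_⟩
  obtain ⟨b, hb⟩ := tm_basis_surjective G (CohB1.tensorPow P k) _ _ hτ V hV a
  obtain ⟨n, β, hβ⟩ := exists_restrict_eq_pow_smul_of_qcqs G hA.isCompact hA.isQuasiSeparated f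
    (mres G hfV b)
  have key : ∀ β' ∈ Submodule.span Γ(X, CohB1.genLocus P s) (Set.range g),
      tm G (CohB1.tensorPow P k) (X.basicOpen f) (mres G hWU β')
        (mres _ hWU (powSec P (CohB1.genLocus P s) (sec s (CohB1.genLocus P s)) k)) ∈
      Submodule.span Γ(X, X.basicOpen f)
        (Set.range fun t : Γ(CohB1.tensorMod G (CohB1.tensorPow P k), ⊤) =>
          mres _ (le_top : X.basicOpen f ≤ ⊤) t) := by
    intro β' hβ'
    induction hβ' using Submodule.span_induction with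
    | mem β' h =>
      obtain ⟨j, rfl⟩ := h
      refine Submodule.subset_span ⟨t j, ?_⟩
      have := congrArg (mres _ hWU) (ht' j)
      rw [mres_mres, tm_res] at this
      exact this
    | zero =>
      rw [map_zero, tm_zero_left]
      exact Submodule.zero_mem _
    | add β₁ β₂ _ _ h₁ h₂ =>
      rw [map_add, tm_add_left]
      exact Submodule.add_mem _ h₁ h₂
    | smul c β' _ h =>
      rw [mres_smul, tm_smul_left]
      exact Submodule.smul_mem _ _ h
  have hβmem : β ∈ Submodule.span Γ(X, CohB1.genLocus P s) (Set.range g) := hg ▸ Submodule.mem_top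
  have h3 := key β hβmem
  have h4 : mres _ hfV a = tm G _ (X.basicOpen f) (mres G hfV b)
      (mres _ hWU (powSec P (CohB1.genLocus P s) (sec s (CohB1.genLocus P s)) k)) := by
    rw [← hb, tm_res, mres_mres]
  have hunit : IsUnit (fres (X.basicOpen_le f) f) := RingedSpace.isUnit_res_basicOpen _ f
  obtain ⟨u, hu⟩ := hunit.pow n
  have h5 : mres G hfV b = (↑u⁻¹ : Γ(X, X.basicOpen f)) • mres G hWU β := by
    have hβ' : mres G hWU β = (↑u : Γ(X, X.basicOpen f)) • mres G hfV b := by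
      rw [hu]; exact hβ
    rw [hβ', smul_smul, Units.inv_mul, one_smul]
  rw [h4, h5, tm_smul_left]
  exact Submodule.smul_mem _ _ h3

theorem genOn_tensorPow_of_affine [CompactSpace X] [QuasiSeparatedSpace X] (F L : X.Modules)
    [F.IsQuasicoherent] (hF : SheafOfModules.IsFiniteType (R := X.ringCatSheaf) F)
    (hL : PicF.IsInvertible L) (d : ℕ) (s : Coh.structureModule X ⟶ CohB1.tensorPow L (d + 1))
    (hA : IsAffineOpen (CohB1.genLocus _ s)) :
    ∃ n₀ : ℕ, ∀ n, n₀ ≤ n →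
      GenOn (CohB1.tensorMod F (CohB1.tensorPow L n)) (CohB1.genLocus _ s) := by
  classical
  have hP := isInvertible_tensorPow hL (d + 1)
  have hex : ∀ ρ : Fin (d + 1), ∃ K : ℕ, ∀ k, K ≤ k →
      GenOn (CohB1.tensorMod (CohB1.tensorMod F (CohB1.tensorPow L ρ))
        (CohB1.tensorPow (CohB1.tensorPow L (d + 1)) k)) (CohB1.genLocus _ s) := by
    intro ρ
    have hq := isQuasicoherent_tensorMod_of_isInvertible F (CohB1.tensorPow L ρ)
      (isInvertible_tensorPow hL ρ)
    exact genOn_twist_of_affine (CohB1.tensorMod F (CohB1.tensorPow L ρ))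
      (CohB1.tensorPow L (d + 1))
      (isFiniteType_tensorMod_of_isInvertible F _ hF (isInvertible_tensorPow hL ρ)) hP s hA
  choose K hK using hex
  refine ⟨(d + 1) * (Finset.univ.sup K + 1), fun n hn => ?_⟩
  have hρ : n % (d + 1) < d + 1 := Nat.mod_lt _ (Nat.succ_pos d)
  have hk : K ⟨n % (d + 1), hρ⟩ ≤ n / (d + 1) := by
    have h1 : K ⟨n % (d + 1), hρ⟩ ≤ Finset.univ.sup K := Finset.le_sup (Finset.mem_univ _)
    have h2 : Finset.univ.sup K + 1 ≤ n / (d + 1) := by
      rw [Nat.le_div_iff_mul_le (Nat.succ_pos d), mul_comm]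
      exact hn
    omega
  have hgen := hK ⟨n % (d + 1), hρ⟩ (n / (d + 1)) hk
  have hn' : n % (d + 1) + (d + 1) * (n / (d + 1)) = n := Nat.mod_add_div n (d + 1)
  exact hgen.of_iso (tensorModAssoc F (CohB1.tensorPow L (n % (d + 1)))
      (CohB1.tensorPow (CohB1.tensorPow L (d + 1)) (n / (d + 1))) ≪≫
    tensorModCongr (Iso.refl F)
      (tensorModCongr (Iso.refl _) (tensorPowMul L (d + 1) (n / (d + 1))) ≪≫
        (tensorPowAdd L (n % (d + 1)) ((d + 1) * (n / (d + 1)))).symm ≪≫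
        eqToIso (congrArg (CohB1.tensorPow L) hn')))

theorem isGloballyGenerated_of_genOn_top {T : X.Modules} (h : GenOn T ⊤) :
    Curv2.IsGloballyGenerated T := by
  refine ⟨Γ(T, ⊤), Sigma.desc (fun t : Γ(T, ⊤) => homOfSection T t), ?_⟩
  apply Groth.Agent.S4407.epi_sigma_desc
  intro V a x hxV
  obtain ⟨W, hWV, hxW, hmem⟩ := h V le_top a x hxV
  refine ⟨W, hWV, hxW, ?_⟩
  have e : (fun t : Γ(T, ⊤) => sec (homOfSection T t) W) =
      fun t : Γ(T, ⊤) => mres T (le_top : W ≤ ⊤) t := by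
    funext t
    exact sec_homOfSection T t W
  rw [e]
  exact hmem

theorem eventually_genOn_top (X : Scheme.{u}) [CompactSpace X] (L : X.Modules)
    (hL : CohB1.IsAmple L) (F : X.Modules) (hF : Coh.IsCoh F) :
    ∃ n₀ : ℕ, ∀ n, n₀ ≤ n → GenOn (CohB1.tensorMod F (CohB1.tensorPow L n)) ⊤ := by
  classical
  have hqs := quasiSeparatedSpace_of_isAmple hL
  have hq : F.IsQuasicoherent := hF.1
  choose d s hx hA using hL.2.2
  choose n₀ hn₀ using fun x => genOn_tensorPow_of_affine F L hF.2 hL.1 (d x) (s x) (hA x)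
  obtain ⟨S, hS⟩ := isCompact_univ.elim_finite_subcover
    (fun x => ((CohB1.genLocus _ (s x) : X.Opens) : Set X))
    (fun x => (CohB1.genLocus _ (s x)).isOpen) (fun x _ => Set.mem_iUnion.mpr ⟨x, hx x⟩)
  refine ⟨S.sup n₀, fun n hn => ?_⟩
  intro V _ a x hxV
  obtain ⟨i, hi, hxi⟩ := Set.mem_iUnion₂.mp (hS (Set.mem_univ x))
  have hgen := hn₀ i n ((Finset.le_sup hi).trans hn)
  obtain ⟨W, hWV, hxW, hmem⟩ := hgen (V ⊓ CohB1.genLocus _ (s i)) inf_le_right
    (mres _ inf_le_left a) x ⟨hxV, hxi⟩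
  refine ⟨W, hWV.trans inf_le_left, hxW, ?_⟩
  rw [mres_mres] at hmem
  exact hmem

/-- an invertible module generated by global sections: every point lies in some `X_s`. -/
theorem exists_mem_genLocus_of_genOn {T : X.Modules} (hT : PicF.IsInvertible T) (h : GenOn T ⊤)
    (x : X) : ∃ s : Coh.structureModule X ⟶ T, x ∈ CohB1.genLocus T s := by
  by_contra hne
  simp only [not_exists] at hne
  obtain ⟨V, hxV, e, he⟩ := exists_isBasisOn_of_isInvertible hT x
  obtain ⟨W, hWV, hxW, hmem⟩ := h V le_top e x hxV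
  have heW := he.mono hWV
  have key : ∀ b ∈ Submodule.span Γ(X, W)
      (Set.range fun t : Γ(T, ⊤) => mres T (le_top : W ≤ ⊤) t),
      ∃ c : Γ(X, W), c • mres T hWV e = b ∧ x ∉ X.basicOpen c := by
    intro b hb
    induction hb using Submodule.span_induction with
    | mem b hb =>
      obtain ⟨t, rfl⟩ := hb
      obtain ⟨c, hc⟩ := heW.exists_eq_smul (mres T (le_top : W ≤ ⊤) t)
      refine ⟨c, hc, fun hxc => hne (homOfSection T t) ?_⟩
      exact basicOpen_le_genLocus (homOfSection T t) _ heW c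
        ((sec_homOfSection T t W).trans hc.symm) hxc
    | zero =>
      refine ⟨0, zero_smul _ _, ?_⟩
      rw [Scheme.basicOpen_zero]
      exact fun h => h
    | add b₁ b₂ _ _ h₁ h₂ =>
      obtain ⟨c₁, hc₁, hx₁⟩ := h₁
      obtain ⟨c₂, hc₂, hx₂⟩ := h₂
      refine ⟨c₁ + c₂, by rw [add_smul, hc₁, hc₂], ?_⟩
      rw [X.mem_basicOpen _ x hxW] at hx₁ hx₂ ⊢
      rw [map_add]
      exact IsLocalRing.nonunits_add hx₁ hx₂
    | smul r b _ hb =>
      obtain ⟨c, hc, hxc⟩ := hb
      refine ⟨r * c, by rw [mul_smul, hc], ?_⟩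
      rw [X.mem_basicOpen _ x hxW] at hxc ⊢
      rw [map_mul]
      exact mul_mem_nonunits_right hxc
  obtain ⟨c, hc, hxc⟩ := key _ hmem
  have h1 : c = 1 := heW.eq_of_smul_eq (hc.trans (one_smul _ _).symm)
  rw [h1, Scheme.basicOpen_of_isUnit _ isUnit_one] at hxc
  exact hxc hxW

/-- The structure sheaf is an `O_X`-module of finite type (as in `Helper49.StalkNbhd2`). -/
theorem isFiniteType_structureModule (X : Scheme.{u}) :
    SheafOfModules.IsFiniteType (R := X.ringCatSheaf) (SheafOfModules.unit X.ringCatSheaf) := by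
  let e : SheafOfModules.free (R := X.ringCatSheaf) PUnit.{u+1} ≅
      SheafOfModules.unit X.ringCatSheaf :=
    Limits.coproductUniqueIso (fun _ : PUnit.{u+1} => SheafOfModules.unit X.ringCatSheaf)
  let G : (SheafOfModules.unit X.ringCatSheaf).GeneratingSections :=
    { I := PUnit.{u+1}
      s := (SheafOfModules.unit X.ringCatSheaf).freeHomEquiv e.hom
      epi := by
        rw [Equiv.symm_apply_apply]
        infer_instance }
  have : G.IsFiniteType := ⟨inferInstanceAs (Finite PUnit.{u+1})⟩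
  exact isFiniteType_of_generatingSections (X := X) G

theorem isFiniteType_of_isInvertible {N : X.Modules} (hN : PicF.IsInvertible N) :
    SheafOfModules.IsFiniteType (R := X.ringCatSheaf) N := by
  choose U hxU he using hN
  refine isFiniteType_of_forall_restrict _ (ι := X) (fun x => ((U x : X.Opens) : Scheme.{u}))
    (fun x => (U x).ι) (fun x => ⟨x, ⟨⟨x, hxU x⟩, rfl⟩⟩) (fun x => ?_)
  obtain ⟨e⟩ := he x
  exact isFiniteType_of_iso e.symm (isFiniteType_structureModule _)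

end Groth.Agent.Lib.Helper11.GenLocus
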