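import Mathlib
import Groth.Agent.Lib.Helper11.AmpleFinite
import Groth.Agent.Lib.Helper11.GlobalGen

/-! Helper library (helper11): for an ample `A` and an invertible `L` on a quasi-compact scheme and
finitely many points, `L ⊗ A^N` has, for all `N ≫ 0`, a global section generating it at all the
points (`exists_sections_generating_finite`). -/

set_option autoImplicit false
universe u

open AlgebraicGeometry CategoryTheory Limits TopologicalSpace Opposite

namespace Groth.Agent.Lib.Helper11.GenLocus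
open Groth.Agent.Lib.Helper45 Groth.Agent.Lib.Helper49

variable {X : Scheme.{u}}

/-- sections of `L ⊗ A^N`, `N ≫ 0`, generating `L ⊗ A^N` at all points of a finite antichain. -/
theorem exists_sections_generating_antichain [CompactSpace X] {A : X.Modules}
    (hA : CohB1.IsAmple A) (L : X.Modules) (hL : PicF.IsInvertible L)
    (T : Finset X) (hT : ∀ x ∈ T, ∀ z ∈ T, z ⤳ x → z = x) :
    ∃ N₀ : ℕ, ∀ N, N₀ ≤ N →
      ∃ s : Coh.structureModule X ⟶ CohB1.tensorMod L (CohB1.tensorPow A N),
        (T : Set X) ⊆ CohB1.genLocus _ s := by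
  classical
  have hqs := quasiSeparatedSpace_of_isAmple hA
  induction T using Finset.induction_on with
  | empty => exact ⟨0, fun N _ => ⟨0, by simp⟩⟩
  | insert z T' hz ih =>
    obtain ⟨N₁, hN₁⟩ := ih (fun x hx y hy => hT x (Finset.mem_insert_of_mem hx) y
      (Finset.mem_insert_of_mem hy))
    obtain ⟨n₀, hn₀⟩ := eventually_genOn_top X A hA L
      ⟨isQuasicoherent_of_isInvertible hL, isFiniteType_of_isInvertible hL⟩
    let C : Set X := ⋃ z' ∈ T', closure {z'}
    have hC : IsClosed C := T'.finite_toSet.isClosed_biUnion (fun _ _ => isClosed_closure)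
    have hzC : z ∉ C := by
      intro h
      obtain ⟨z', hz', hzz'⟩ := Set.mem_iUnion₂.mp h
      have hsp : z' ⤳ z := specializes_iff_mem_closure.mpr hzz'
      have := hT z (Finset.mem_insert_self z T') z' (Finset.mem_insert_of_mem hz') hsp
      exact hz (this ▸ hz')
    have hTC : (T' : Set X) ⊆ C := fun x hx =>
      Set.mem_iUnion₂.mpr ⟨x, hx, subset_closure rfl⟩
    obtain ⟨k₀, s₀, hzs₀, hA₀⟩ := hA.2.2 z
    obtain ⟨k, u, hzu, huC, -⟩ := exists_genLocus_le_of_affine_genLocus A hA.1 k₀ s₀ hA₀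
      ⟨Cᶜ, hC.isOpen_compl⟩ z hzC hzs₀
    refine ⟨max N₁ (n₀ + (k + 1)), fun N hN => ?_⟩
    obtain ⟨s₁, hs₁⟩ := hN₁ N ((le_max_left _ _).trans hN)
    by_cases hz1 : z ∈ CohB1.genLocus _ s₁
    · refine ⟨s₁, ?_⟩
      intro x hx
      rcases Finset.mem_insert.mp hx with rfl | hx
      · exact hz1
      · exact hs₁ hx
    · obtain ⟨N', rfl⟩ : ∃ N', N = N' + (k + 1) :=
        Nat.exists_eq_add_of_le' (((le_max_right _ _).trans hN).trans' (Nat.le_add_left _ _))
      have hN' : n₀ ≤ N' := by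
        have := (le_max_right N₁ (n₀ + (k + 1))).trans hN
        omega
      have hP' : PicF.IsInvertible (CohB1.tensorMod L (CohB1.tensorPow A N')) :=
        isInvertible_tensorMod hL (isInvertible_tensorPow hA.1 N')
      obtain ⟨σ, hσ⟩ := exists_mem_genLocus_of_genOn hP' (hn₀ N' hN') z
      let e : CohB1.tensorMod (CohB1.tensorMod L (CohB1.tensorPow A N')) (CohB1.tensorPow A (k + 1)) ≅
          CohB1.tensorMod L (CohB1.tensorPow A (N' + (k + 1))) :=
        tensorModAssoc L (CohB1.tensorPow A N') (CohB1.tensorPow A (k + 1)) ≪≫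
          tensorModCongr (Iso.refl L) (tensorPowAdd A N' (k + 1)).symm
      let s₂ : Coh.structureModule X ⟶ CohB1.tensorMod L (CohB1.tensorPow A (N' + (k + 1))) :=
        SecTwist.tmulHom σ u ≫ e.hom
      have hs₂ : CohB1.genLocus _ s₂ = CohB1.genLocus _ σ ⊓ CohB1.genLocus _ u := by
        rw [genLocus_comp_iso, genLocus_tmulHom X _ _ hP' (isInvertible_tensorPow hA.1 (k + 1))]
      have hP : PicF.IsInvertible (CohB1.tensorMod L (CohB1.tensorPow A (N' + (k + 1)))) :=
        isInvertible_tensorMod hL (isInvertible_tensorPow hA.1 _)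
      refine ⟨s₁ + s₂, ?_⟩
      intro x hx
      rcases Finset.mem_insert.mp hx with rfl | hx
      · rw [add_comm s₁ s₂]
        exact mem_genLocus_add hP s₂ s₁ _ (hs₂ ▸ ⟨hσ, hzu⟩) hz1
      · refine mem_genLocus_add hP s₁ s₂ x (hs₁ hx) ?_
        rw [hs₂]
        intro hx2
        exact huC hx2.2 (hTC hx)

/-- sections of `L ⊗ A^N`, `N ≫ 0`, generating `L ⊗ A^N` at finitely many given points. -/
theorem exists_sections_generating_finite [CompactSpace X] {A : X.Modules}
    (hA : CohB1.IsAmple A) (L : X.Modules) (hL : PicF.IsInvertible L)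
    (Z : Set X) (hZ : Z.Finite) :
    ∃ N₀ : ℕ, ∀ N, N₀ ≤ N →
      ∃ s : Coh.structureModule X ⟶ CohB1.tensorMod L (CohB1.tensorPow A N),
        Z ⊆ CohB1.genLocus _ s := by
  obtain ⟨T, hTZ, hTanti, hTsp⟩ := exists_special_of_finite Z hZ
  obtain ⟨N₀, h⟩ := exists_sections_generating_antichain hA L hL T hTanti
  refine ⟨N₀, fun N hN => ?_⟩
  obtain ⟨s, hs⟩ := h N hN
  refine ⟨s, fun e he => ?_⟩
  obtain ⟨x, hxT, hex⟩ := hTsp e he
  exact hex.mem_open (CohB1.genLocus _ s).2 (hs hxT)

/-- over an open inside `X_s`, the module is trivial. -/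
noncomputable def trivOfLeGenLocus (P : X.Modules) (s : Coh.structureModule X ⟶ P) (U : X.Opens)
    (hU : U ≤ CohB1.genLocus P s) :
    P.restrict U.ι ≅ Coh.structureModule (U : Scheme.{u}) :=
  haveI : IsIso ((Scheme.Modules.restrictFunctor U.ι).map s) := (le_genLocus_iff P s U).mp hU
  (asIso ((Scheme.Modules.restrictFunctor U.ι).map s)).symm ≪≫ Scheme.Modules.restrictUnitIso _

/-- an invertible module on a scheme with an ample module is trivial on an open neighbourhood of
any finite set of points. -/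
theorem exists_trivializing_open_of_finite [CompactSpace X] {A : X.Modules} (hA : CohB1.IsAmple A)
    (L : X.Modules) (hL : PicF.IsInvertible L) (Z : Set X) (hZ : Z.Finite) :
    ∃ U : X.Opens, Z ⊆ U ∧ Nonempty (L.restrict U.ι ≅ Coh.structureModule (U : Scheme.{u})) := by
  obtain ⟨N₁, h₁⟩ := exists_sections_generating_finite hA L hL Z hZ
  obtain ⟨N₂, h₂⟩ := exists_sections_generating_finite hA (Coh.structureModule X)
    (fun _ => ⟨⊤, trivial, ⟨Scheme.Modules.restrictUnitIso _⟩⟩) Z hZ
  obtain ⟨s, hs⟩ := h₁ (max N₁ N₂) (le_max_left _ _)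
  obtain ⟨t, ht⟩ := h₂ (max N₁ N₂) (le_max_right _ _)
  let U : X.Opens := CohB1.genLocus _ s ⊓ CohB1.genLocus _ t
  refine ⟨U, fun z hz => ⟨hs hz, ht hz⟩, ⟨?_⟩⟩
  let P := CohB1.tensorPow A (max N₁ N₂)
  have e1 : (CohB1.tensorMod L P).restrict U.ι ≅ Coh.structureModule (U : Scheme.{u}) :=
    trivOfLeGenLocus _ s U inf_le_left
  have e2 : (CohB1.tensorMod (Coh.structureModule X) P).restrict U.ι ≅
      Coh.structureModule (U : Scheme.{u}) := trivOfLeGenLocus _ t U inf_le_right
  have e3 : P.restrict U.ι ≅ Coh.structureModule (U : Scheme.{u}) :=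
    (Scheme.Modules.restrictFunctor U.ι).mapIso (unitTensorIso P).symm ≪≫ e2
  exact (tensorUnitIso (L.restrict U.ι)).symm ≪≫ tensorModCongr (Iso.refl _) e3.symm ≪≫
    restrictTensorIso U.ι L P ≪≫ e1

end Groth.Agent.Lib.Helper11.GenLocus
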