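import Mathlib
import Groth.Agent.Lib.Helper11.GenPoints
import Groth.Agent.Lib.Helper11.AmpleFinite
import Groth.Agent.Lib.Helper11.RestrictTensor
import Groth.Agent.S2327
import Groth.Agent.Lib.Helper69.SepAffine
import Groth.Prelude.Def_LCI2

/-! Helper library (helper11): on a scheme with an ample module every finite set of points lies in
an affine open (`exists_isAffineOpen_of_finite`); a scheme covered by affine `X_s` is separated
(`isSeparated_of_cover_by_affine_genLocus`); a morphism with a relatively ample module is separated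
(`isSeparated_of_isRelAmple`). Uses `Helper69.isSeparated_of_forall_exists_isAffineOpen`. -/

set_option autoImplicit false
universe u
open AlgebraicGeometry CategoryTheory Limits TopologicalSpace Opposite

namespace Groth.Agent.Lib.Helper11.AmpleSeparated
open Groth.Agent.Lib.Helper11 Groth.Agent.Lib.Helper45 Groth.Agent.Lib.Helper49
  Groth.Agent.Lib.Helper11.GenLocus

variable {X : Scheme.{u}}

/-- on a scheme with an ample module, every finite set of points lies in an affine open. -/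
theorem exists_isAffineOpen_of_finite [CompactSpace X] {L : X.Modules} (hL : CohB1.IsAmple L)
    (Z : Set X) (hZ : Z.Finite) : ∃ U : X.Opens, IsAffineOpen U ∧ Z ⊆ U := by
  obtain ⟨m, t, hZt⟩ := exists_section_of_finite hL Z hZ
  have hP : PicF.IsInvertible (CohB1.tensorPow L (m + 1)) := isInvertible_tensorPow hL.1 (m + 1)
  have haff : IsAffineHom (CohB1.genLocus _ t).ι := isAffineHom_genLocus_ι hP t
  have hcG : CompactSpace ((CohB1.genLocus _ t : X.Opens) : Scheme.{u}) :=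
    QuasiCompact.compactSpace_of_compactSpace (CohB1.genLocus _ t).ι
  have h1 : CohB1.IsAmple (L.restrict (CohB1.genLocus _ t).ι) :=
    isAmple_restrict (CohB1.genLocus _ t).ι hL
  have h2 : CohB1.IsAmple (CohB1.tensorPow (L.restrict (CohB1.genLocus _ t).ι) (m + 1)) :=
    (Groth.Agent.S2327.main_S2327 _ _ (isInvertible_restrict' (CohB1.genLocus _ t).ι hL.1) (m + 1)
      (Nat.succ_pos m)).mp h1
  have h3 : CohB1.IsAmple ((CohB1.tensorPow L (m + 1)).restrict (CohB1.genLocus _ t).ι) :=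
    isAmple_of_iso (restrictTensorPowIso (CohB1.genLocus _ t).ι L (m + 1)) h2
  have h4 : CohB1.IsAmple (Coh.structureModule ((CohB1.genLocus _ t : X.Opens) : Scheme.{u})) :=
    isAmple_of_iso (trivOfLeGenLocus _ t _ le_rfl) h3
  have hqa : ((CohB1.genLocus _ t : X.Opens) : Scheme.{u}).IsQuasiAffine :=
    (isQuasiAffine_iff_isAmple_structureModule _).mpr h4
  obtain ⟨r, hr, hE, -⟩ := exists_basicOpen_of_finite
    (X := ((CohB1.genLocus _ t : X.Opens) : Scheme.{u})) ⊤ ((CohB1.genLocus _ t).ι ⁻¹' Z)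
    (hZ.preimage (CohB1.genLocus _ t).ι.isOpenEmbedding.injective.injOn) (fun _ _ => trivial)
  refine ⟨(CohB1.genLocus _ t).ι ''ᵁ (Scheme.basicOpen _ r),
    hr.image_of_isOpenImmersion (CohB1.genLocus _ t).ι, fun z hz => ?_⟩
  exact ⟨⟨z, hZt hz⟩, hE hz, rfl⟩

/-- two points lying in affine opens of the form `X_s` (sections of positive powers of an
invertible `L`) lie in a common affine open. -/
theorem exists_isAffineOpen_of_pair {L : X.Modules} (hL : PicF.IsInvertible L) (x y : X)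
    (n₁ : ℕ) (s₁ : Coh.structureModule X ⟶ CohB1.tensorPow L (n₁ + 1))
    (hx : x ∈ CohB1.genLocus _ s₁) (hA₁ : IsAffineOpen (CohB1.genLocus _ s₁))
    (n₂ : ℕ) (s₂ : Coh.structureModule X ⟶ CohB1.tensorPow L (n₂ + 1))
    (hy : y ∈ CohB1.genLocus _ s₂) (hA₂ : IsAffineOpen (CohB1.genLocus _ s₂)) :
    ∃ W : X.Opens, IsAffineOpen W ∧ x ∈ W ∧ y ∈ W := by
  let U : X.Opens := CohB1.genLocus _ s₁ ⊔ CohB1.genLocus _ s₂
  have hcU : CompactSpace (U : Scheme.{u}) :=
    isCompact_iff_compactSpace.mp (hA₁.isCompact.union hA₂.isCompact)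
  have key : ∀ (n : ℕ) (s : Coh.structureModule X ⟶ CohB1.tensorPow L (n + 1))
      (_ : IsAffineOpen (CohB1.genLocus _ s)) (_ : CohB1.genLocus _ s ≤ U) (z : U)
      (_ : z.1 ∈ CohB1.genLocus _ s),
      ∃ (n : ℕ) (s' : Coh.structureModule (U : Scheme.{u}) ⟶
        CohB1.tensorPow (L.restrict U.ι) (n + 1)),
        z ∈ CohB1.genLocus _ s' ∧ IsAffineOpen (CohB1.genLocus _ s') := by
    intro n s hA hle z hz
    refine ⟨n, restrictPowSection U.ι L (n + 1) s, ?_, ?_⟩
    · rw [genLocus_restrictPowSection]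
      exact hz
    · rw [genLocus_restrictPowSection, ← Scheme.Hom.isAffineOpen_iff_of_isOpenImmersion U.ι,
        U.ι.image_preimage_eq_opensRange_inf, U.opensRange_ι, inf_eq_right.mpr hle]
      exact hA
  have hample : CohB1.IsAmple (L.restrict U.ι) := by
    refine ⟨isInvertible_restrict' U.ι hL, inferInstance, fun z => ?_⟩
    rcases z.2 with hz | hz
    · exact key n₁ s₁ hA₁ le_sup_left z hz
    · exact key n₂ s₂ hA₂ le_sup_right z hz
  obtain ⟨W', hW', hZ⟩ := exists_isAffineOpen_of_finite hample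
    {⟨x, Or.inl hx⟩, ⟨y, Or.inr hy⟩} (Set.toFinite _)
  refine ⟨U.ι ''ᵁ W', hW'.image_of_isOpenImmersion U.ι, ?_, ?_⟩
  · exact ⟨⟨x, Or.inl hx⟩, hZ (Set.mem_insert _ _), rfl⟩
  · exact ⟨⟨y, Or.inr hy⟩, hZ (Set.mem_insert_of_mem _ rfl), rfl⟩

theorem isSeparated_of_cover_by_affine_genLocus (X : Scheme.{u}) (L : X.Modules) (hL : PicF.IsInvertible L)
    (h : ∀ x : X, ∃ (n : ℕ) (s : Coh.structureModule X ⟶ CohB1.tensorPow L (n + 1)),
      x ∈ CohB1.genLocus _ s ∧ IsAffineOpen (CohB1.genLocus _ s)) :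
    X.IsSeparated := by
  refine ⟨Groth.Agent.Lib.Helper69.isSeparated_of_forall_exists_isAffineOpen _ fun x y _ => ?_⟩
  obtain ⟨n₁, s₁, hx, hA₁⟩ := h x
  obtain ⟨n₂, s₂, hy, hA₂⟩ := h y
  exact exists_isAffineOpen_of_pair hL x y n₁ s₁ hx hA₁ n₂ s₂ hy hA₂

theorem isSeparated_of_isRelAmple {X S : Scheme.{u}} (f : X ⟶ S) (L : X.Modules)
    (hL : RelAmple.IsRelAmple f L) : IsSeparated f := by
  refine Groth.Agent.Lib.Helper69.isSeparated_of_forall_exists_isAffineOpen f fun x y hxy => ?_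
  obtain ⟨_, ⟨V, hV, rfl⟩, hxV, -⟩ :=
    S.isBasis_affineOpens.exists_subset_of_mem_open (Set.mem_univ (f.base x)) isOpen_univ
  have hample := hL.2 ⟨V, hV⟩
  have hc : CompactSpace ((f ⁻¹ᵁ V : X.Opens) : Scheme.{u}) := hample.2.1
  have hx' : x ∈ f ⁻¹ᵁ V := hxV
  have hy' : y ∈ f ⁻¹ᵁ V := by
    change f.base y ∈ V
    rw [← hxy]
    exact hxV
  obtain ⟨W', hW', hZ⟩ := exists_isAffineOpen_of_finite hample
    {⟨x, hx'⟩, ⟨y, hy'⟩} (Set.toFinite _)
  exact ⟨(f ⁻¹ᵁ V).ι ''ᵁ W', hW'.image_of_isOpenImmersion _,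
    ⟨⟨x, hx'⟩, hZ (Set.mem_insert _ _), rfl⟩,
    ⟨⟨y, hy'⟩, hZ (Set.mem_insert_of_mem _ rfl), rfl⟩⟩

end Groth.Agent.Lib.Helper11.AmpleSeparated
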