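import Mathlib
import Groth.Agent.Lib.Helper11.QuasiAffine
import Groth.Agent.Lib.Helper11.GenLocus
import Groth.Agent.Lib.Helper45.IdealModSections
import Groth.Agent.Lib.Helper45.RefHullBasic
import Groth.Agent.Lib.Helper93.FiniteTypeExtend
import Groth.Agent.Lib.Helper49.FiniteTypeAffine
import Groth.Prelude.Def_Curv2

/-! Helper library (helper11): the ideal module of a finite type ideal sheaf is of finite type;
morphisms out of `O_X` and out of free modules; `X` quasi-compact quasi-separated such that every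
finite type quasi-coherent ideal is globally generated is quasi-affine (EGA II 5.1.2 (e') ⇒ (a)). -/

set_option autoImplicit false
universe u
open AlgebraicGeometry CategoryTheory Limits TopologicalSpace Opposite

namespace Groth.Agent.Lib.Helper11.IdealGen
open Groth.Agent.Lib.Helper11 Groth.Agent.Lib.Helper45 Groth.Agent.Lib.Helper49 Groth.Agent.Lib.Helper45.RefHullBasic

variable {X : Scheme.{u}}

/-- a morphism out of `O_X` vanishing on the global section `1` is zero. -/
theorem unit_hom_eq_zero {N : X.Modules} (φ : Coh.structureModule X ⟶ N)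
    (h : φ.app ⊤ (1 : Γ(X, ⊤)) = 0) : φ = 0 := by
  apply Scheme.Modules.hom_ext
  intro W
  ext a
  refine (unit_app_eq φ W a).trans ?_
  rw [h, map_zero, smul_zero]
  rfl

/-- sections of the ideal module over an affine open form the ideal. -/
theorem finite_sections_idealMod (I : X.IdealSheafData) (U : X.affineOpens)
    (hI : (I.ideal U).FG) : Module.Finite Γ(X, U.1) Γ(ClSub.idealMod I, U.1) := by
  let φ : Γ(ClSub.idealMod I, U.1) →ₗ[Γ(X, U.1)] Γ(X, U.1) :=
    { toFun := fun s => (ClSub.idealModι I).app U.1 s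
      map_add' := fun s t => map_add _ s t
      map_smul' := fun r s => idealModι_app_smul I U.1 r s }
  have hinj : Function.Injective φ := idealModι_app_injective I U.1
  have hrange : LinearMap.range φ = I.ideal U := by
    ext a
    exact (mem_ideal_iff_exists_section I U a).symm
  have e : Γ(ClSub.idealMod I, U.1) ≃ₗ[Γ(X, U.1)] LinearMap.range φ :=
    LinearEquiv.ofInjective φ hinj
  have : Module.Finite Γ(X, U.1) (LinearMap.range φ) := by
    rw [hrange]
    exact Module.Finite.of_fg hI
  exact Module.Finite.equiv e.symm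

theorem isFiniteType_idealMod (I : X.IdealSheafData) (hI : BlowUp.IsFiniteTypeIdeal I) :
    SheafOfModules.IsFiniteType (R := X.ringCatSheaf) (ClSub.idealMod I) :=
  isFiniteType_of_finite_sections _ fun U => finite_sections_idealMod I U (hI U)

/-- the `j`-th inclusion `O_X ⟶ O_X^(ι)`, as a morphism of `X.Modules`. -/
noncomputable def freeInj (ι : Type u) (j : ι) :
    Coh.structureModule X ⟶ (SheafOfModules.free ι : X.Modules) :=
  SheafOfModules.ιFree j

theorem free_hom_ext {ι : Type u} {N : X.Modules} {a b : (SheafOfModules.free ι : X.Modules) ⟶ N}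
    (h : ∀ j, freeInj ι j ≫ a = freeInj ι j ≫ b) : a = b :=
  Cofan.IsColimit.hom_ext (SheafOfModules.isColimitFreeCofan ι) _ _ h

theorem fromSpecResidueField_app_top_eq_zero (x : X) (f : Γ(X, ⊤)) (hx : x ∉ X.basicOpen f) :
    (X.fromSpecResidueField x).app ⊤ f = 0 := by
  have h1 := Scheme.preimage_basicOpen (X.fromSpecResidueField x) f
  have h2 : (X.fromSpecResidueField x) ⁻¹ᵁ (X.basicOpen f) = ⊥ := by
    ext s
    simp only [Opens.coe_bot, Set.mem_empty_iff_false, iff_false]
    intro hs
    have hs' : X.fromSpecResidueField x s ∈ X.basicOpen f := hs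
    rw [Scheme.fromSpecResidueField_apply] at hs'
    exact hx hs'
  rw [h2] at h1
  exact (basicOpen_eq_bot_iff _).mp h1.symm

theorem isQuasiAffine_of_subideals_globallyGenerated (X : Scheme.{u}) [CompactSpace X]
    [QuasiSeparatedSpace X]
    (h : ∀ (J : X.Modules) (i : J ⟶ Coh.structureModule X), Mono i → Coh.IsQCoh J → CohB1.IsFT J →
      Curv2.IsGloballyGenerated J) :
    X.IsQuasiAffine := by
  refine isQuasiAffine_of_forall_exists_mem_basicOpen X fun x => ?_
  obtain ⟨_, ⟨U, hU, rfl⟩, hxU, -⟩ :=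
    X.isBasis_affineOpens.exists_subset_of_mem_open (Set.mem_univ x) isOpen_univ
  obtain ⟨I, hI, hsupp⟩ := Groth.Agent.Lib.Helper93.FiniteTypeExtend.exists_isFiniteTypeIdeal_support_eq
    (X := X) (U : Set X)ᶜ U.2.isClosed_compl (by rw [compl_compl]; exact hU.isCompact)
  obtain ⟨ι, p, hp⟩ := h (ClSub.idealMod I) (ClSub.idealModι I) inferInstance inferInstance
    (isFiniteType_idealMod I hI)
  have hIU : I.ideal ⟨U, hU⟩ = ⊤ := by
    have h1 : hU.fromSpec '' PrimeSpectrum.zeroLocus (I.ideal ⟨U, hU⟩ : Set Γ(X, U)) = ∅ := by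
      rw [hU.fromSpec_image_zeroLocus, ← Scheme.IdealSheafData.coe_support_inter I ⟨U, hU⟩, hsupp]
      exact Set.compl_inter_self _
    exact PrimeSpectrum.zeroLocus_empty_iff_eq_top.mp (Set.image_eq_empty.mp h1)
  obtain ⟨s₁, hs₁⟩ := (mem_ideal_iff_exists_section I ⟨U, hU⟩ 1).mp (hIU ▸ Submodule.mem_top)
  let t : ι → Γ(ClSub.idealMod I, ⊤) := fun j => (freeInj ι j ≫ p).app ⊤ (1 : Γ(X, ⊤))
  let f : ι → Γ(X, ⊤) := fun j => (ClSub.idealModι I).app ⊤ (t j)
  have key : ∃ j, x ∈ X.basicOpen (f j) := by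
    by_contra hne
    simp only [not_exists] at hne
    let hx := X.fromSpecResidueField x
    let ψ : ClSub.idealMod I ⟶ (Scheme.Modules.pushforward hx).obj (Coh.structureModule _) :=
      ClSub.idealModι I ≫ ClSub.unitToPush hx
    have h0 : p ≫ ψ = 0 := by
      refine free_hom_ext fun j => ?_
      refine Eq.trans ?_ comp_zero.symm
      have e : freeInj ι j ≫ p ≫ ψ = (freeInj ι j ≫ p ≫ ClSub.idealModι I) ≫ ClSub.unitToPush hx := by
        simp only [ψ, Category.assoc]
      refine e.trans ?_
      apply unit_hom_eq_zero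
      exact fromSpecResidueField_app_top_eq_zero x (f j) (hne j)
    have hψ : ψ = 0 := (cancel_epi p).mp (h0.trans comp_zero.symm)
    have h1 : (show Γ(Spec (X.residueField x), hx ⁻¹ᵁ U) from ψ.app U s₁) = 0 := by
      rw [hψ]; rfl
    have h2 : (show Γ(Spec (X.residueField x), hx ⁻¹ᵁ U) from ψ.app U s₁) = 1 := by
      change (hx.app U) ((ClSub.idealModι I).app U s₁) = 1
      rw [hs₁, map_one]
    have hne' : Nonempty (hx ⁻¹ᵁ U : (Spec (X.residueField x)).Opens) := by
      obtain ⟨s⟩ : Nonempty (Spec (X.residueField x)) := inferInstance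
      refine ⟨⟨s, ?_⟩⟩
      change hx s ∈ U
      rw [Scheme.fromSpecResidueField_apply]
      exact hxU
    have : Nontrivial Γ(Spec (X.residueField x), hx ⁻¹ᵁ U) := inferInstance
    exact one_ne_zero (h2.symm.trans h1)
  obtain ⟨j, hj⟩ := key
  have hle : X.basicOpen (f j) ≤ U := by
    intro z hz
    by_contra hzU
    have hzs : z ∈ I.support := by
      rw [← SetLike.mem_coe, hsupp]; exact hzU
    obtain ⟨_, ⟨V, hV, rfl⟩, hzV, -⟩ :=
      X.isBasis_affineOpens.exists_subset_of_mem_open (Set.mem_univ z) isOpen_univ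
    rw [Scheme.IdealSheafData.mem_support_iff_of_mem (U := ⟨V, hV⟩) hzV] at hzs
    have hmem := idealModι_app_mem I ⟨V, hV⟩
      ((ClSub.idealMod I).presheaf.map (homOfLE (le_top : V ≤ ⊤)).op (t j))
    have hres := Groth.Agent.Lib.Helper11.GenLocus.app_res (ClSub.idealModι I)
      (le_top : V ≤ ⊤) (t j)
    have hmem' : X.presheaf.map (homOfLE (le_top : V ≤ ⊤)).op (f j) ∈ I.ideal ⟨V, hV⟩ :=
      hres ▸ hmem
    have := (X.mem_zeroLocus_iff _ z).mp hzs _ hmem'
    rw [Scheme.basicOpen_res] at this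
    exact this ⟨hzV, hz⟩
  have haff : IsAffineOpen (X.basicOpen (f j)) := by
    have := hU.basicOpen (X.presheaf.map (homOfLE (le_top : U ≤ ⊤)).op (f j))
    rwa [Scheme.basicOpen_res, inf_eq_right.mpr hle] at this
  have : IsAffine (X.basicOpen (f j) : Scheme.{u}) := haff
  exact ⟨f j, inferInstance, hj⟩

end Groth.Agent.Lib.Helper11.IdealGen
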