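import Mathlib
import Groth.Agent.Lib.Helper11.IdealGen
import Groth.Agent.Lib.Helper11.TensorBasis
import Groth.Agent.Lib.Helper11.AmpleFinite
import Groth.Agent.Lib.Helper11.AmpleBasis

/-! Helper library (helper11): a globally generated invertible module `L` (epi from a free module on
any index type): every point lies in `X_s` for one of the generating sections
(`exists_mem_genLocus_of_epi`, `exists_mem_genLocus_of_isGloballyGenerated`); iterated tensor
products `tensorList`; enough globally generated invertible modules with affine `X_s` give an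
ample module (`exists_isAmple_of_enough_globallyGenerated`). -/

set_option autoImplicit false
universe u
open AlgebraicGeometry CategoryTheory Limits TopologicalSpace Opposite MonoidalCategory TensorProduct

namespace Groth.Agent.Lib.Helper11.GGInvertible
open Groth.Agent.Lib.Helper11 Groth.Agent.Lib.Helper45 Groth.Agent.Lib.Helper49
  Groth.Agent.Lib.Helper45.RefHullBasic Groth.Agent.Lib.Helper11.GenLocus
  Groth.Agent.Lib.Helper11.IdealGen

variable {X : Scheme.{u}}

theorem exists_mem_genLocus_of_epi_of_basis {Z : Scheme.{u}} {N : Z.Modules} (e : Γ(N, ⊤))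
    (he : IsBasisOn N ⊤ e) {ι : Type u} (p : (SheafOfModules.free ι : Z.Modules) ⟶ N) [Epi p]
    (z : Z) : ∃ j, z ∈ CohB1.genLocus N (freeInj ι j ≫ p) := by
  by_contra hne
  simp only [not_exists] at hne
  have hc : ∀ j, ∃ c : Γ(Z, ⊤), c • e = sec (freeInj ι j ≫ p) ⊤ := fun j => he.exists_eq_smul _
  choose c hc using hc
  have hcz : ∀ j, z ∉ Z.basicOpen (c j) := fun j hz =>
    hne j (basicOpen_le_genLocus _ e he (c j) (hc j).symm hz)
  let hx := Z.fromSpecResidueField z
  let s : Coh.structureModule Z ⟶ N := homOfSection N e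
  have hs : IsIso s := by
    rw [Scheme.Modules.Hom.isIso_iff_isIso_app]
    intro W
    rw [isIso_app_iff_bijective, sec_homOfSection]
    exact he W le_top
  let ψ : N ⟶ (Scheme.Modules.pushforward hx).obj (Coh.structureModule _) :=
    inv s ≫ ClSub.unitToPush hx
  have hinv : ∀ y : Γ(Coh.structureModule Z, ⊤), ((inv s).app ⊤).hom ((s.app ⊤).hom y) = y := by
    intro y
    have := congrArg (fun φ : Coh.structureModule Z ⟶ Coh.structureModule Z => (φ.app ⊤).hom y)
      (IsIso.hom_inv_id s)
    exact this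
  have h0 : p ≫ ψ = 0 := by
    refine free_hom_ext fun j => ?_
    refine Eq.trans ?_ comp_zero.symm
    have e1 : freeInj ι j ≫ p ≫ ψ = (freeInj ι j ≫ p) ≫ ψ := by simp only [Category.assoc]
    refine e1.trans ?_
    apply unit_hom_eq_zero
    have h1 : ((freeInj ι j ≫ p).app ⊤).hom (toO ⊤ 1) = (s.app ⊤).hom (toO ⊤ (c j)) := by
      rw [app_eq_smul_sec s ⊤ (c j), sec_homOfSection]
      have : mres N (le_top : (⊤ : Z.Opens) ≤ ⊤) e = e := by
        rw [mres_apply]
        have h3 : homOfLE (le_top : (⊤ : Z.Opens) ≤ ⊤) = 𝟙 _ := Subsingleton.elim _ _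
        rw [h3]
        simp
      rw [this, hc j]
      rfl
    change (ClSub.unitToPush hx).app ⊤ (((inv s).app ⊤).hom (((freeInj ι j ≫ p).app ⊤).hom (toO ⊤ 1))) = 0
    rw [h1, hinv]
    exact fromSpecResidueField_app_top_eq_zero z (c j) (hcz j)
  have hψ : ψ = 0 := (cancel_epi p).mp (h0.trans comp_zero.symm)
  have hu : ClSub.unitToPush hx = 0 := by
    have : s ≫ ψ = ClSub.unitToPush hx := by simp [ψ]
    rw [← this, hψ, comp_zero]
  have h1 : (show Γ(Spec (Z.residueField z), hx ⁻¹ᵁ ⊤) from (ClSub.unitToPush hx).app ⊤ (1 : Γ(Z, ⊤))) = 0 := by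
    rw [hu]; rfl
  have h2 : (show Γ(Spec (Z.residueField z), hx ⁻¹ᵁ ⊤) from (ClSub.unitToPush hx).app ⊤ (1 : Γ(Z, ⊤))) = 1 := by
    change (hx.app ⊤) 1 = 1
    rw [map_one]
  have hne' : Nonempty (hx ⁻¹ᵁ ⊤ : (Spec (Z.residueField z)).Opens) := by
    obtain ⟨s⟩ : Nonempty (Spec (Z.residueField z)) := inferInstance
    exact ⟨⟨s, trivial⟩⟩
  have : Nontrivial Γ(Spec (Z.residueField z), hx ⁻¹ᵁ ⊤) := inferInstance
  exact one_ne_zero (h2.symm.trans h1)

/-- a globally generated invertible module: every point lies in `X_s` for one of the generating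
sections. -/
theorem exists_mem_genLocus_of_epi {L : X.Modules} (hL : PicF.IsInvertible L) {ι : Type u}
    (p : (SheafOfModules.free ι : X.Modules) ⟶ L) [Epi p] (x : X) :
    ∃ j, x ∈ CohB1.genLocus L (freeInj ι j ≫ p) := by
  obtain ⟨V, hxV, τ, hτ⟩ := exists_isBasisOn_of_isInvertible hL x
  have hle : V.ι ''ᵁ ⊤ ≤ V := le_of_eq V.ι_image_top
  have hb : IsBasisOn (L.restrict V.ι) ⊤ (show Γ(L.restrict V.ι, ⊤) from mres L hle τ) :=
    isBasisOn_restrict V ⊤ (mres L hle τ) (hτ.mono hle)
  let F : X.Modules ⥤ (V : Scheme.{u}).Modules := Scheme.Modules.restrictFunctor V.ι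
  let p₀ : (∐ fun _ : ι => Coh.structureModule X) ⟶ L := p
  have hp₀ : Epi p₀ := ‹Epi p›
  let q : (∐ fun _ : ι => Coh.structureModule (V : Scheme.{u})) ⟶ L.restrict V.ι :=
    Limits.Sigma.map (fun _ : ι => (Scheme.Modules.restrictUnitIso V.ι).inv) ≫
      sigmaComparison F (fun _ : ι => Coh.structureModule X) ≫ F.map p₀
  have hq : Epi q := by
    have : IsIso (sigmaComparison F (fun _ : ι => Coh.structureModule X)) := inferInstance
    have : Epi (F.map p₀) := inferInstance
    exact epi_comp _ _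
  let p' : (SheafOfModules.free ι : (V : Scheme.{u}).Modules) ⟶ L.restrict V.ι := q
  have hp' : Epi p' := hq
  obtain ⟨j, hj⟩ := exists_mem_genLocus_of_epi_of_basis _ hb p' ⟨x, hxV⟩
  refine ⟨j, ?_⟩
  have e1 : freeInj ι j ≫ p' =
      (Scheme.Modules.restrictUnitIso V.ι).inv ≫ F.map (freeInj ι j ≫ p) := by
    change Sigma.ι (fun _ : ι => Coh.structureModule (V : Scheme.{u})) j ≫ q =
      (Scheme.Modules.restrictUnitIso V.ι).inv ≫
        F.map (Sigma.ι (fun _ : ι => Coh.structureModule X) j ≫ p₀)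
    simp only [q, Limits.Sigma.ι_map_assoc, Functor.map_comp]
    congr 1
    exact ι_comp_sigmaComparison_assoc F (fun _ : ι => Coh.structureModule X) j (F.map p₀)
  rw [e1, genLocus_restrict] at hj
  exact hj

/-- iterated tensor product of a list of modules. -/
noncomputable def tensorList : List X.Modules → X.Modules
  | [] => Coh.structureModule X
  | L :: l => CohB1.tensorMod L (tensorList l)

theorem isInvertible_tensorList : ∀ l : List X.Modules, (∀ L ∈ l, PicF.IsInvertible L) →
    PicF.IsInvertible (tensorList l)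
  | [], _ => isInvertible_structureModule X
  | L :: l, h => isInvertible_tensorMod (h L List.mem_cons_self)
      (isInvertible_tensorList l fun M hM => h M (List.mem_cons_of_mem _ hM))

theorem exists_mem_genLocus_of_isGloballyGenerated {L : X.Modules} (hL : PicF.IsInvertible L)
    (hg : Curv2.IsGloballyGenerated L) (x : X) :
    ∃ s : Coh.structureModule X ⟶ L, x ∈ CohB1.genLocus L s := by
  obtain ⟨ι, p, hp⟩ := hg
  obtain ⟨j, hj⟩ := exists_mem_genLocus_of_epi hL p x
  exact ⟨_, hj⟩

theorem exists_section_tensorList (x : X) : ∀ l : List X.Modules,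
    (∀ L ∈ l, PicF.IsInvertible L ∧ Curv2.IsGloballyGenerated L) →
    ∀ A : X.Opens, (A = ⊤ ∨ ∃ L ∈ l, ∃ s : Coh.structureModule X ⟶ L,
      x ∈ CohB1.genLocus L s ∧ CohB1.genLocus L s ≤ A) →
    ∃ t : Coh.structureModule X ⟶ tensorList l,
      x ∈ CohB1.genLocus (tensorList l) t ∧ CohB1.genLocus (tensorList l) t ≤ A
  | [], _, A, hA => by
    rcases hA with rfl | ⟨L, hL, -⟩
    · refine ⟨𝟙 _, ?_, le_top⟩
      change x ∈ CohB1.genLocus (Coh.structureModule X) (𝟙 _)
      rw [genLocus_id]; trivial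
    · exact absurd hL List.not_mem_nil
  | M :: l, h, A, hA => by
    have hM := h M List.mem_cons_self
    have hl : ∀ L ∈ l, PicF.IsInvertible L ∧ Curv2.IsGloballyGenerated L :=
      fun L hL => h L (List.mem_cons_of_mem _ hL)
    have hil : PicF.IsInvertible (tensorList l) := isInvertible_tensorList l fun L hL => (hl L hL).1
    rcases hA with rfl | ⟨L, hL, s, hxs, hsA⟩
    · obtain ⟨u, hu⟩ := exists_mem_genLocus_of_isGloballyGenerated hM.1 hM.2 x
      obtain ⟨t, ht, -⟩ := exists_section_tensorList x l hl ⊤ (Or.inl rfl)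
      refine ⟨SecTwist.tmulHom u t, ?_, le_top⟩
      change x ∈ CohB1.genLocus (CohB1.tensorMod M (tensorList l)) _
      rw [genLocus_tmulHom X M (tensorList l) hM.1 hil]
      exact ⟨hu, ht⟩
    · rcases List.mem_cons.mp hL with rfl | hL'
      · obtain ⟨t, ht, -⟩ := exists_section_tensorList x l hl ⊤ (Or.inl rfl)
        refine ⟨SecTwist.tmulHom s t, ?_, ?_⟩
        · change x ∈ CohB1.genLocus (CohB1.tensorMod L (tensorList l)) _
          rw [genLocus_tmulHom X L (tensorList l) hM.1 hil]
          exact ⟨hxs, ht⟩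
        · change CohB1.genLocus (CohB1.tensorMod L (tensorList l)) _ ≤ A
          rw [genLocus_tmulHom X L (tensorList l) hM.1 hil]
          exact inf_le_left.trans hsA
      · obtain ⟨u, hu⟩ := exists_mem_genLocus_of_isGloballyGenerated hM.1 hM.2 x
        obtain ⟨t, ht, htA⟩ := exists_section_tensorList x l hl A (Or.inr ⟨L, hL', s, hxs, hsA⟩)
        refine ⟨SecTwist.tmulHom u t, ?_, ?_⟩
        · change x ∈ CohB1.genLocus (CohB1.tensorMod M (tensorList l)) _
          rw [genLocus_tmulHom X M (tensorList l) hM.1 hil]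
          exact ⟨hu, ht⟩
        · change CohB1.genLocus (CohB1.tensorMod M (tensorList l)) _ ≤ A
          rw [genLocus_tmulHom X M (tensorList l) hM.1 hil]
          exact inf_le_right.trans htA

theorem exists_isAmple_of_enough_globallyGenerated (X : Scheme.{u}) [CompactSpace X]
    (h : ∀ x : X, ∃ (L : X.Modules) (s : Coh.structureModule X ⟶ L), PicF.IsInvertible L ∧ Curv2.IsGloballyGenerated L ∧
      x ∈ CohB1.genLocus L s ∧ IsAffineOpen (CohB1.genLocus L s)) :
    ∃ M : X.Modules, CohB1.IsAmple M := by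
  classical
  choose L s hinv hgg hx haff using h
  obtain ⟨S, hS⟩ := isCompact_univ.elim_finite_subcover
    (fun x => ((CohB1.genLocus (L x) (s x) : X.Opens) : Set X))
    (fun x => (CohB1.genLocus _ (s x)).isOpen) (fun x _ => Set.mem_iUnion.mpr ⟨x, hx x⟩)
  let l : List X.Modules := S.toList.map L
  have hl : ∀ M ∈ l, PicF.IsInvertible M ∧ Curv2.IsGloballyGenerated M := by
    intro M hM
    obtain ⟨y, -, rfl⟩ := List.mem_map.mp hM
    exact ⟨hinv y, hgg y⟩
  have hil : PicF.IsInvertible (tensorList l) := isInvertible_tensorList l fun M hM => (hl M hM).1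
  refine ⟨tensorList l, hil, inferInstance, fun x => ?_⟩
  obtain ⟨i, hi, hxi⟩ := Set.mem_iUnion₂.mp (hS (Set.mem_univ x))
  obtain ⟨t, hxt, hle⟩ := exists_section_tensorList x l hl (CohB1.genLocus (L i) (s i))
    (Or.inr ⟨L i, List.mem_map.mpr ⟨i, Finset.mem_toList.mpr hi, rfl⟩, s i, hxi, le_rfl⟩)
  obtain ⟨s', hs'⟩ := exists_tensorPow_one_genLocus_eq t
  refine ⟨0, s', ?_, ?_⟩
  · rw [hs']; exact hxt
  · rw [hs']; exact isAffineOpen_genLocus_of_le hil t (haff i) hle

end Groth.Agent.Lib.Helper11.GGInvertible
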