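import Mathlib
import Groth.Agent.Lib.Helper11.GGInvertible
import Groth.Agent.Lib.Helper11.AmpleSeparated
import Groth.Agent.Lib.Helper11.RestrictTensor
import Groth.Agent.S2327

/-! Helper library (helper11): ample ⊗ (invertible with a globally generated positive power) is
ample (EGA II 4.5.6-type). -/

set_option autoImplicit false
universe u
open AlgebraicGeometry CategoryTheory Limits TopologicalSpace Opposite

namespace Groth.Agent.Lib.Helper11.AmpleTensorGG
open Groth.Agent.Lib.Helper11 Groth.Agent.Lib.Helper45 Groth.Agent.Lib.Helper49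
  Groth.Agent.Lib.Helper11.GenLocus Groth.Agent.Lib.Helper11.GGInvertible

variable {W : Scheme.{u}}

/-- ample ⊗ globally generated invertible is ample. -/
theorem isAmple_tensorMod_of_isGloballyGenerated [CompactSpace W] {A B : W.Modules}
    (hA : CohB1.IsAmple A) (hB : PicF.IsInvertible B) (hg : Curv2.IsGloballyGenerated B) :
    CohB1.IsAmple (CohB1.tensorMod A B) := by
  have hAB : PicF.IsInvertible (CohB1.tensorMod A B) := isInvertible_tensorMod hA.1 hB
  refine ⟨hAB, inferInstance, fun x => ?_⟩
  obtain ⟨m, s, hxs, hsA⟩ := hA.2.2 x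
  obtain ⟨t, hxt⟩ := exists_mem_genLocus_of_isGloballyGenerated hB hg x
  have hAm := isInvertible_tensorPow hA.1 (m + 1)
  have hBm := isInvertible_tensorPow hB (m + 1)
  have hloc : CohB1.genLocus _ (SecTwist.tmulHom s (SecTwist.powHom t (m + 1)) ≫
      (tensorPowTensor A B (m + 1)).hom) = CohB1.genLocus _ s ⊓ CohB1.genLocus B t := by
    rw [genLocus_comp_iso, genLocus_tmulHom W _ _ hAm hBm, genLocus_powHom hB]
  refine ⟨m, SecTwist.tmulHom s (SecTwist.powHom t (m + 1)) ≫ (tensorPowTensor A B (m + 1)).hom,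
    ?_, ?_⟩
  · rw [hloc]; exact ⟨hxs, hxt⟩
  · exact isAffineOpen_genLocus_of_le (isInvertible_tensorPow hAB (m + 1)) _ hsA
      (hloc.le.trans inf_le_left)

/-- ample ⊗ (invertible with a globally generated positive power) is ample. -/
theorem isAmple_tensorMod_of_pow_isGloballyGenerated [CompactSpace W] {A B : W.Modules}
    (hA : CohB1.IsAmple A) (hB : PicF.IsInvertible B) (n : ℕ) (hn : 0 < n)
    (hg : Curv2.IsGloballyGenerated (CohB1.tensorPow B n)) :
    CohB1.IsAmple (CohB1.tensorMod A B) := by
  have hAB : PicF.IsInvertible (CohB1.tensorMod A B) := isInvertible_tensorMod hA.1 hB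
  have h1 : CohB1.IsAmple (CohB1.tensorPow A n) :=
    (Groth.Agent.S2327.main_S2327 W A hA.1 n hn).mp hA
  have h2 := isAmple_tensorMod_of_isGloballyGenerated h1 (isInvertible_tensorPow hB n) hg
  have h3 := isAmple_of_iso (tensorPowTensor A B n) h2
  exact (Groth.Agent.S2327.main_S2327 W _ hAB n hn).mpr h3

end Groth.Agent.Lib.Helper11.AmpleTensorGG
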