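import Mathlib
import Groth.Agent.Lib.Helper11.GlobalGen
import Groth.Agent.Lib.Helper11.IdealGen
import Groth.Agent.Lib.Helper49.QcqsModules

/-! Helper library (helper11): `Opens.map f.base` is final; `pullbackUnitIso f : f^* O_Y ≅ O_X`;
the pullback of a globally generated module is globally generated; quasi-coherent modules on
quasi-affine schemes are globally generated; `pullbackRestrictIso : (f^*G)|_{f⁻¹V} ≅ (f|_V)^*(G|_V)`;
**key lemma** `isGloballyGenerated_restrict_of_epi_counit`: if `f^* f_* F ⟶ F` is epi (f qcqs, F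
quasi-coherent) then `F|_{f⁻¹V}` is globally generated for every affine open `V`. -/

set_option autoImplicit false
universe u
open AlgebraicGeometry CategoryTheory Limits TopologicalSpace Opposite

namespace Groth.Agent.Lib.Helper11.CounitEpi
open Groth.Agent.Lib.Helper11 Groth.Agent.Lib.Helper45 Groth.Agent.Lib.Helper49
  Groth.Agent.Lib.Helper11.GenLocus Groth.Agent.Lib.Helper11.IdealGen

variable {X Y : Scheme.{u}}

instance final_opensMap (f : X ⟶ Y) : (Opens.map f.base).Final := by
  apply Functor.final_of_exists_of_isFiltered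
  · intro d
    exact ⟨⊤, ⟨homOfLE le_top⟩⟩
  · intro d c s s'
    exact ⟨c, 𝟙 c, Subsingleton.elim _ _⟩

theorem isIso_pbu (f : X ⟶ Y) : IsIso (SheafOfModules.pullbackObjUnitToUnit f.toRingCatSheafHom) := inferInstance

/-- `f^* O_Y ≅ O_X`. -/
noncomputable def pullbackUnitIso (f : X ⟶ Y) :
    (Scheme.Modules.pullback f).obj (Coh.structureModule Y) ≅ Coh.structureModule X where
  hom := SheafOfModules.pullbackObjUnitToUnit f.toRingCatSheafHom
  inv := @inv _ _ _ _ (SheafOfModules.pullbackObjUnitToUnit f.toRingCatSheafHom) (isIso_pbu f)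
  hom_inv_id := @IsIso.hom_inv_id _ _ _ _ (SheafOfModules.pullbackObjUnitToUnit f.toRingCatSheafHom) (isIso_pbu f)
  inv_hom_id := @IsIso.inv_hom_id _ _ _ _ (SheafOfModules.pullbackObjUnitToUnit f.toRingCatSheafHom) (isIso_pbu f)

/-- the pullback of a globally generated module is globally generated. -/
theorem isGloballyGenerated_pullback (f : X ⟶ Y) (G : Y.Modules)
    (hG : Curv2.IsGloballyGenerated G) :
    Curv2.IsGloballyGenerated ((Scheme.Modules.pullback f).obj G) := by
  obtain ⟨I, q, hq⟩ := hG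
  let q₀ : (∐ fun _ : I => Coh.structureModule Y) ⟶ G := q
  have hq₀ : Epi q₀ := hq
  let r : (∐ fun _ : I => Coh.structureModule X) ⟶ (Scheme.Modules.pullback f).obj G :=
    Limits.Sigma.map (fun _ : I => (pullbackUnitIso f).inv) ≫
      sigmaComparison (Scheme.Modules.pullback f) (fun _ : I => Coh.structureModule Y) ≫
        (Scheme.Modules.pullback f).map q₀
  have h1 : IsIso (sigmaComparison (Scheme.Modules.pullback f)
      (fun _ : I => Coh.structureModule Y)) := inferInstance
  have h2 : Epi ((Scheme.Modules.pullback f).map q₀) := inferInstance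
  have hr : Epi r := epi_comp _ _
  exact ⟨I, r, hr⟩

theorem IsGloballyGenerated.of_iso {A B : X.Modules} (e : A ≅ B)
    (h : Curv2.IsGloballyGenerated A) : Curv2.IsGloballyGenerated B := by
  obtain ⟨I, q, hq⟩ := h
  exact ⟨I, q ≫ e.hom, @epi_comp _ _ _ _ _ q hq e.hom inferInstance⟩

theorem IsGloballyGenerated.of_epi {A B : X.Modules} (p : A ⟶ B) (hp : Epi p)
    (h : Curv2.IsGloballyGenerated A) : Curv2.IsGloballyGenerated B := by
  obtain ⟨I, q, hq⟩ := h
  exact ⟨I, q ≫ p, @epi_comp _ _ _ _ _ q hq p hp⟩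

/-- quasi-coherent modules on a quasi-affine scheme are generated by global sections. -/
theorem genOn_top_of_isQuasiAffine (W : Scheme.{u}) [W.IsQuasiAffine] (G : W.Modules)
    [G.IsQuasicoherent] : GenOn G ⊤ := by
  intro V' _ a x hxV'
  obtain ⟨r, hr, hxr, hrV'⟩ := exists_basicOpen_of_finite V' {x} (Set.finite_singleton x)
    (by simpa using hxV')
  have hc : IsCompact ((⊤ : W.Opens) : Set W) := isCompact_univ
  have hqs : IsQuasiSeparated ((⊤ : W.Opens) : Set W) :=
    isQuasiSeparated_univ_iff.mpr inferInstance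
  obtain ⟨n, t, ht⟩ := exists_restrict_eq_pow_smul_of_qcqs G hc hqs r (mres G hrV' a)
  refine ⟨W.basicOpen r, hrV', hxr rfl, ?_⟩
  have hu : IsUnit (fres (W.basicOpen_le r) r) := RingedSpace.isUnit_res_basicOpen _ r
  obtain ⟨v, hv⟩ := (hu.pow n).exists_left_inv
  have h1 : mres G hrV' a = v • mres G (le_top : W.basicOpen r ≤ ⊤) t := by
    have h2 : mres G (le_top : W.basicOpen r ≤ ⊤) t = mres G (W.basicOpen_le r) t := rfl
    rw [h2, ht, ← mul_smul, hv, one_smul]
  rw [h1]
  exact Submodule.smul_mem _ _ (Submodule.subset_span ⟨t, rfl⟩)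

theorem isGloballyGenerated_of_isQuasiAffine (W : Scheme.{u}) [W.IsQuasiAffine] (G : W.Modules)
    [G.IsQuasicoherent] : Curv2.IsGloballyGenerated G :=
  isGloballyGenerated_of_genOn_top (genOn_top_of_isQuasiAffine W G)

/-- `(f^* G)|_{f⁻¹ V} ≅ (f ∣_ V)^* (G|_V)`. -/
noncomputable def pullbackRestrictIso (f : X ⟶ Y) (V : Y.Opens) (G : Y.Modules) :
    ((Scheme.Modules.pullback f).obj G).restrict (f ⁻¹ᵁ V).ι ≅
      (Scheme.Modules.pullback (f ∣_ V)).obj (G.restrict V.ι) :=
  (Scheme.Modules.restrictFunctorIsoPullback (f ⁻¹ᵁ V).ι).app _ ≪≫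
    (Scheme.Modules.pullbackComp (f ⁻¹ᵁ V).ι f).app G ≪≫
    (Scheme.Modules.pullbackCongr (morphismRestrict_ι f V).symm).app G ≪≫
    ((Scheme.Modules.pullbackComp (f ∣_ V) V.ι).app G).symm ≪≫
    (Scheme.Modules.pullback (f ∣_ V)).mapIso
      ((Scheme.Modules.restrictFunctorIsoPullback V.ι).app G).symm

/-- **Key lemma**: if the counit `f^* f_* F ⟶ F` is an epimorphism (`f` quasi-compact and
quasi-separated, `F` quasi-coherent), then `F` restricted to the preimage of any affine open is
globally generated. -/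
theorem isGloballyGenerated_restrict_of_epi_counit (f : X ⟶ Y) [QuasiCompact f] [QuasiSeparated f]
    (F : X.Modules) [F.IsQuasicoherent]
    (hε : Epi ((Scheme.Modules.pullbackPushforwardAdjunction f).counit.app F))
    (V : Y.Opens) (hV : IsAffineOpen V) :
    Curv2.IsGloballyGenerated (F.restrict (f ⁻¹ᵁ V).ι) := by
  have hG : ((Scheme.Modules.pushforward f).obj F).IsQuasicoherent :=
    isQuasicoherent_pushforward F f
  have hGV : (((Scheme.Modules.pushforward f).obj F).restrict V.ι).IsQuasicoherent :=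
    inferInstance
  have hVa : IsAffine (V : Scheme.{u}) := hV
  have h1 : Curv2.IsGloballyGenerated (((Scheme.Modules.pushforward f).obj F).restrict V.ι) :=
    isGloballyGenerated_of_isQuasiAffine _ _
  have h2 := isGloballyGenerated_pullback (f ∣_ V) _ h1
  have h3 := IsGloballyGenerated.of_iso
    (pullbackRestrictIso f V ((Scheme.Modules.pushforward f).obj F)).symm h2
  have h4 : Epi ((Scheme.Modules.restrictFunctor (f ⁻¹ᵁ V).ι).map
      ((Scheme.Modules.pullbackPushforwardAdjunction f).counit.app F)) := inferInstance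
  exact IsGloballyGenerated.of_epi _ h4 h3

end Groth.Agent.Lib.Helper11.CounitEpi
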