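import Mathlib
import Groth.Agent.Lib.Helper11.IdealGen
import Groth.Agent.Lib.Helper11.TensorBasis
import Groth.Agent.Lib.Helper11.AmpleFinite

/-! Helper library (helper11): the multiplication map `M ⊗ P ⟶ P` along `f : M ⟶ O_X`
(`mulHom'`, section formula `mulHom'_tm`), sections of `P` factoring through `I ⊗ P` generate only
off the support of `I` (`genLocus_mul_disjoint`), and EGA II 4.5.5-type criterion
(`isAmple_of_twisted_ideals_globallyGenerated`). -/

set_option autoImplicit false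
universe u
open AlgebraicGeometry CategoryTheory Limits TopologicalSpace Opposite MonoidalCategory TensorProduct

namespace Groth.Agent.Lib.Helper11.MulHom
open Groth.Agent.Lib.Helper11 Groth.Agent.Lib.Helper45 Groth.Agent.Lib.Helper49
  Groth.Agent.Lib.Helper45.RefHullBasic Groth.Agent.Lib.Helper11.GenLocus
  Groth.Agent.Lib.Helper11.IdealGen

variable {X : Scheme.{u}}

/-- presheaf-level multiplication `M ⊗ P ⟶ P` along `f : M ⟶ O_X`. -/
noncomputable def mulPre {M : X.Modules} (f : M ⟶ Coh.structureModule X) (P : X.Modules) :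
    (CohB1.tensorPre M P : X.PresheafOfModules) ⟶ P.val :=
  (show (CohB1.tensorPre M P : CohB1.PMod X) ⟶
      (CohB1.tensorPre (Coh.structureModule X) P : CohB1.PMod X) from
    (show CohB1.toPMod M ⟶ CohB1.toPMod (Coh.structureModule X) from
      (SheafOfModules.forget _).map f) ▷ CohB1.toPMod P) ≫
  (show (CohB1.tensorPre (Coh.structureModule X) P : CohB1.PMod X) ⟶ CohB1.toPMod P from
    (@MonoidalCategoryStruct.leftUnitor _ _
        (PresheafOfModules.monoidalCategoryStruct (R := X.sheaf.obj)) (CohB1.toPMod P)).hom)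

theorem mulPre_tmul {M : X.Modules} (f : M ⟶ Coh.structureModule X) (P : X.Modules)
    (U : X.Opens) (a : M.val.obj (op U)) (m : P.val.obj (op U)) :
    ((mulPre f P).app (op U)).hom
      ((a ⊗ₜ m : ↥((CohB1.tensorPre M P).obj (op U)))) =
      (show X.ringCatSheaf.obj.obj (op U) from (f.val.app (op U)).hom a) • m := by
  simp [mulPre, PresheafOfModules.leftUnitor_hom_app, PresheafOfModules.whiskerRight_app]
  rfl

/-- multiplication `M ⊗ P ⟶ P` along `f : M ⟶ O_X`. -/
noncomputable def mulHom' {M : X.Modules} (f : M ⟶ Coh.structureModule X) (P : X.Modules) :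
    CohB1.tensorMod M P ⟶ P :=
  (CohB1.sheafifyMod X).map (mulPre f P) ≫
    (PresheafOfModules.sheafificationAdjunction.{u, u, u, u}
      (J := Opens.grothendieckTopology X) (𝟙 X.ringCatSheaf.obj)).counit.app P

theorem mulHom'_tmul {M : X.Modules} (f : M ⟶ Coh.structureModule X) (P : X.Modules)
    (U : X.Opens) (a : M.val.obj (op U)) (m : P.val.obj (op U)) :
    ((mulHom' f P).val.app (op U)).hom (SecTwist.tmul M P U a m) =
      (show X.ringCatSheaf.obj.obj (op U) from (f.val.app (op U)).hom a) • m := by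
  let adj := PresheafOfModules.sheafificationAdjunction.{u, u, u, u}
    (J := Opens.grothendieckTopology X) (𝟙 X.ringCatSheaf.obj)
  let Q : X.PresheafOfModules := CohB1.tensorPre M P
  let x : ↥((CohB1.tensorPre M P).obj (op U)) := a ⊗ₜ m
  let r : X.ringCatSheaf.obj.obj (op U) := (f.val.app (op U)).hom a
  have natU : ((adj.unit.app P.val).app (op U)).hom (((mulPre f P).app (op U)).hom x) =
      ((((CohB1.sheafifyMod X).map (mulPre f P)).val.app (op U)).hom
        (((adj.unit.app Q).app (op U)).hom x)) :=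
    congrArg (fun φ => (PresheafOfModules.Hom.app φ (op U)).hom x) (adj.unit.naturality (mulPre f P))
  rw [mulPre_tmul] at natU
  have triU : (((adj.counit.app P).val.app (op U)).hom
      (((adj.unit.app P.val).app (op U)).hom (r • m))) = r • m :=
    congrArg (fun φ => (PresheafOfModules.Hom.app φ (op U)).hom (r • m)) (adj.right_triangle_components P)
  change ((((CohB1.sheafifyMod X).map (mulPre f P) ≫ adj.counit.app P).val.app (op U)).hom
      (((adj.unit.app Q).app (op U)).hom x)) = r • m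
  rw [← triU, natU]
  rfl

theorem mulHom'_tm {M : X.Modules} (f : M ⟶ Coh.structureModule X) (P : X.Modules)
    (W : X.Opens) (a : Γ(M, W)) (m : Γ(P, W)) :
    ((mulHom' f P).app W).hom (tm M P W a m) = ofO W ((f.app W).hom a) • m :=
  mulHom'_tmul f P W a m

theorem sec_comp {A B : X.Modules} (τ : Coh.structureModule X ⟶ A) (μ : A ⟶ B) (W : X.Opens) :
    sec (τ ≫ μ) W = (μ.app W).hom (sec τ W) := rfl

/-- a section of `P` factoring through `I ⊗ P` generates `P` only off the support of `I`. -/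
theorem genLocus_mul_disjoint (I : X.IdealSheafData) (P : X.Modules) (hP : PicF.IsInvertible P)
    (τ : Coh.structureModule X ⟶ CohB1.tensorMod (ClSub.idealMod I) P) (z : X)
    (hz : z ∈ CohB1.genLocus P (τ ≫ mulHom' (ClSub.idealModι I) P)) : z ∉ I.support := by
  intro hzs
  obtain ⟨V, hzV, ε₀, hε₀⟩ := exists_isBasisOn_of_isInvertible hP z
  obtain ⟨_, ⟨W, hW, rfl⟩, hzW, hWV⟩ :=
    X.isBasis_affineOpens.exists_subset_of_mem_open hzV V.isOpen
  have hWV' : W ≤ V := hWV
  have hε : IsBasisOn P W (mres P hWV' ε₀) := hε₀.mono hWV'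
  obtain ⟨a, ha⟩ := tm_basis_surjective (ClSub.idealMod I) P W (mres P hWV' ε₀) hε W le_rfl
    (sec τ W)
  have hres : mres P (le_refl W) (mres P hWV' ε₀) = mres P hWV' ε₀ := by
    rw [mres_mres]
  rw [hres] at ha
  have hsec : sec (τ ≫ mulHom' (ClSub.idealModι I) P) W =
      ofO W (((ClSub.idealModι I).app W).hom a) • mres P hWV' ε₀ := by
    rw [sec_comp, ← ha, mulHom'_tm]
  have hle := genLocus_inf_le_basicOpen _ _ hε _ hsec
  have hzb : z ∈ X.basicOpen (ofO W (((ClSub.idealModι I).app W).hom a)) := hle ⟨hz, hzW⟩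
  rw [Scheme.IdealSheafData.mem_support_iff_of_mem (U := ⟨W, hW⟩) hzW] at hzs
  exact (X.mem_zeroLocus_iff _ z).mp hzs _ (idealModι_app_mem I ⟨W, hW⟩ a) hzb

theorem exists_mem_basicOpen_of_sum_eq_one {W : X.Opens} {k : ℕ} (a c : Fin k → Γ(X, W))
    (h : ∑ i, a i * c i = 1) (x : X) (hx : x ∈ W) : ∃ i, x ∈ X.basicOpen (c i) := by
  by_contra hne
  simp only [not_exists] at hne
  have h1 : ∀ i, (X.presheaf.germ W x hx).hom (c i) ∈
      IsLocalRing.maximalIdeal (X.presheaf.stalk x) := by
    intro i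
    have := hne i
    rw [X.mem_basicOpen _ x hx] at this
    exact this
  have h2 : (X.presheaf.germ W x hx).hom (∑ i, a i * c i) ∈
      IsLocalRing.maximalIdeal (X.presheaf.stalk x) := by
    rw [map_sum]
    refine Ideal.sum_mem _ fun i _ => ?_
    rw [map_mul]
    exact Ideal.mul_mem_left _ _ (h1 i)
  rw [h, map_one] at h2
  exact (Ideal.ne_top_iff_one _).mp (IsLocalRing.maximalIdeal.isMaximal _).ne_top h2

theorem exists_mem_genLocus_mul (I : X.IdealSheafData) (P : X.Modules) (U : X.Opens)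
    (hU : IsAffineOpen U) (hIU : I.ideal ⟨U, hU⟩ = ⊤) (e' : Γ(P, U)) (he' : IsBasisOn P U e')
    {k : ℕ} (p : FlatMod.freeMod X k ⟶ CohB1.tensorMod (ClSub.idealMod I) P) [Epi p]
    (x : X) (hxU : x ∈ U) :
    ∃ j : Fin k, x ∈ CohB1.genLocus P ((freeι X k j ≫ p) ≫ mulHom' (ClSub.idealModι I) P) := by
  obtain ⟨s₁, hs₁⟩ := (mem_ideal_iff_exists_section I ⟨U, hU⟩ 1).mp (hIU ▸ Submodule.mem_top)
  obtain ⟨W', hxW', j, a, hcomb⟩ :=
    exists_local_combination p U (tm (ClSub.idealMod I) P U s₁ e') x hxU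
  have hW'U : W' ≤ U := j.le
  have hb : IsBasisOn P W' (mres P hW'U e') := he'.mono hW'U
  -- coefficients of the sections
  have hc : ∀ i : Fin k, ∃ c : Γ(X, W'),
      c • mres P hW'U e' = sec ((freeι X k i ≫ p) ≫ mulHom' (ClSub.idealModι I) P) W' :=
    fun i => hb.exists_eq_smul _
  choose c hc using hc
  have hgen : ∀ i : Fin k, ((mulHom' (ClSub.idealModι I) P).app W').hom
      ((CohB1.tensorMod (ClSub.idealMod I) P).presheaf.map (homOfLE (le_top : W' ≤ ⊤)).op
        (gen p i)) = sec ((freeι X k i ≫ p) ≫ mulHom' (ClSub.idealModι I) P) W' := by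
    intro i
    rw [sec_comp]
    congr 1
    exact sec_res (freeι X k i ≫ p) (le_top : W' ≤ ⊤)
  have h1 := congrArg ((mulHom' (ClSub.idealModι I) P).app W').hom hcomb
  have hj : j = homOfLE hW'U := Subsingleton.elim _ _
  have hlhs : ((mulHom' (ClSub.idealModι I) P).app W').hom
      ((CohB1.tensorMod (ClSub.idealMod I) P).presheaf.map j.op
        (tm (ClSub.idealMod I) P U s₁ e')) = mres P hW'U e' := by
    rw [hj]
    have := tm_res (ClSub.idealMod I) P hW'U s₁ e'
    rw [mres_apply] at this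
    rw [this, mulHom'_tm]
    have h2 : ofO W' (((ClSub.idealModι I).app W').hom (mres (ClSub.idealMod I) hW'U s₁)) = 1 := by
      have := app_res (ClSub.idealModι I) hW'U s₁
      refine (congrArg (ofO W') this.symm).trans ?_
      have h5 : ((ClSub.idealModι I).app U).hom s₁ = toO U 1 := hs₁
      rw [h5, toO_res, map_one]
      rfl
    rw [h2, one_smul]
  rw [hlhs, map_sum] at h1
  have h3 : mres P hW'U e' = (∑ i, a i * c i) • mres P hW'U e' := by
    rw [Finset.sum_smul]
    refine h1.trans (Finset.sum_congr rfl fun i _ => ?_)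
    rw [Scheme.Modules.Hom.app_smul, hgen i, ← hc i, mul_smul]
  have h4 : ∑ i, a i * c i = 1 :=
    hb.eq_of_smul_eq (h3.symm.trans (one_smul _ _).symm)
  obtain ⟨i, hi⟩ := exists_mem_basicOpen_of_sum_eq_one a c h4 x hxW'
  exact ⟨i, basicOpen_le_genLocus _ _ hb (c i) (hc i).symm hi⟩

theorem isAmple_of_twisted_ideals_globallyGenerated (X : Scheme.{u}) [CompactSpace X] [X.IsSeparated] (L : X.Modules) (hL : PicF.IsInvertible L)
    (h : ∀ I : X.IdealSheafData, BlowUp.IsFiniteTypeIdeal I →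
      ∃ (n k : ℕ) (p : FlatMod.freeMod X k ⟶ CohB1.tensorMod (ClSub.idealMod I) (CohB1.tensorPow L (n + 1))), 0 < k ∧ Epi p) :
    CohB1.IsAmple L := by
  refine ⟨hL, inferInstance, fun x => ?_⟩
  obtain ⟨V, hxV, e₀, he₀⟩ := exists_isBasisOn_of_isInvertible hL x
  obtain ⟨_, ⟨U, hU, rfl⟩, hxU, hUV⟩ :=
    X.isBasis_affineOpens.exists_subset_of_mem_open hxV V.isOpen
  have hUV' : U ≤ V := hUV
  have he : IsBasisOn L U (mres L hUV' e₀) := he₀.mono hUV'
  obtain ⟨I, hI, hsupp⟩ := Groth.Agent.Lib.Helper93.FiniteTypeExtend.exists_isFiniteTypeIdeal_support_eq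
    (X := X) (U : Set X)ᶜ U.2.isClosed_compl (by rw [compl_compl]; exact hU.isCompact)
  obtain ⟨n, k, p, -, hp⟩ := h I hI
  have hP : PicF.IsInvertible (CohB1.tensorPow L (n + 1)) := isInvertible_tensorPow hL (n + 1)
  have hIU : I.ideal ⟨U, hU⟩ = ⊤ := by
    have h1 : hU.fromSpec '' PrimeSpectrum.zeroLocus (I.ideal ⟨U, hU⟩ : Set Γ(X, U)) = ∅ := by
      rw [hU.fromSpec_image_zeroLocus, ← Scheme.IdealSheafData.coe_support_inter I ⟨U, hU⟩, hsupp]
      exact Set.compl_inter_self _
    exact PrimeSpectrum.zeroLocus_empty_iff_eq_top.mp (Set.image_eq_empty.mp h1)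
  obtain ⟨j, hj⟩ := exists_mem_genLocus_mul I (CohB1.tensorPow L (n + 1)) U hU hIU
    (powSec L U (mres L hUV' e₀) (n + 1)) (isBasisOn_powSec he (n + 1)) p x hxU
  refine ⟨n, _, hj, isAffineOpen_genLocus_of_le hP _ hU ?_⟩
  intro z hz
  by_contra hzU
  refine genLocus_mul_disjoint I _ hP _ z hz ?_
  rw [← SetLike.mem_coe, hsupp]
  exact hzU

end Groth.Agent.Lib.Helper11.MulHom
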