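import Mathlib
import Groth.Agent.Lib.Helper11.GGInvertible
import Groth.Agent.Lib.Helper11.MulHom
import Groth.Agent.Lib.Helper45.EpiStalk

/-! Helper library (helper11): restriction of maps out of free modules to open subschemes
(`restrictFree`), `exists_mem_genLocus_of_epi_restrict`, `epi_of_app_surjective`, and the
**criterion** `exists_section_of_mul` / `exists_section_of_ideal_mul`: if `I ⊗ P` is globally
generated (`I` an ideal vanishing off an affine open `U₀`, `P` invertible) then every point of `U₀`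
lies in some `X_σ ⊆ U₀`, `σ` a global section of `P`. -/

set_option autoImplicit false
universe u
open AlgebraicGeometry CategoryTheory Limits TopologicalSpace Opposite

namespace Groth.Agent.Lib.Helper11.IdealCrit
open Groth.Agent.Lib.Helper11 Groth.Agent.Lib.Helper45 Groth.Agent.Lib.Helper49
  Groth.Agent.Lib.Helper11.GenLocus Groth.Agent.Lib.Helper11.GGInvertible
  Groth.Agent.Lib.Helper11.IdealGen Groth.Agent.Lib.Helper11.MulHom

variable {X : Scheme.{u}}

/-- restriction to an open of a morphism out of a free module, as a morphism out of the free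
module of the open subscheme. -/
noncomputable def restrictFree (U : X.Opens) {I : Type u} {L : X.Modules}
    (φ : (SheafOfModules.free I : X.Modules) ⟶ L) :
    (SheafOfModules.free I : (U : Scheme.{u}).Modules) ⟶ L.restrict U.ι :=
  (show (∐ fun _ : I => Coh.structureModule (U : Scheme.{u})) ⟶ L.restrict U.ι from
    Limits.Sigma.map (fun _ : I => (Scheme.Modules.restrictUnitIso U.ι).inv) ≫
      sigmaComparison (Scheme.Modules.restrictFunctor U.ι) (fun _ : I => Coh.structureModule X) ≫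
        (Scheme.Modules.restrictFunctor U.ι).map
          (show (∐ fun _ : I => Coh.structureModule X) ⟶ L from φ))

theorem epi_restrictFree (U : X.Opens) {I : Type u} {L : X.Modules}
    (φ : (SheafOfModules.free I : X.Modules) ⟶ L)
    (hφ : Epi ((Scheme.Modules.restrictFunctor U.ι).map φ)) : Epi (restrictFree U φ) := by
  have h1 : IsIso (sigmaComparison (Scheme.Modules.restrictFunctor U.ι)
      (fun _ : I => Coh.structureModule X)) := inferInstance
  have h2 : Epi ((Scheme.Modules.restrictFunctor U.ι).map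
      (show (∐ fun _ : I => Coh.structureModule X) ⟶ L from φ)) := hφ
  have h0 : IsIso (Limits.Sigma.map (fun _ : I => (Scheme.Modules.restrictUnitIso U.ι).inv)) :=
    inferInstance
  have h3 : Epi (sigmaComparison (Scheme.Modules.restrictFunctor U.ι)
      (fun _ : I => Coh.structureModule X) ≫ (Scheme.Modules.restrictFunctor U.ι).map
      (show (∐ fun _ : I => Coh.structureModule X) ⟶ L from φ)) := epi_comp _ _
  exact @epi_comp _ _ _ _ _ (Limits.Sigma.map (fun _ : I => (Scheme.Modules.restrictUnitIso U.ι).inv))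
    inferInstance _ h3

theorem freeInj_restrictFree (U : X.Opens) {I : Type u} {L : X.Modules}
    (φ : (SheafOfModules.free I : X.Modules) ⟶ L) (j : I) :
    freeInj I j ≫ restrictFree U φ =
      (Scheme.Modules.restrictUnitIso U.ι).inv ≫
        (Scheme.Modules.restrictFunctor U.ι).map (freeInj I j ≫ φ) := by
  change Sigma.ι (fun _ : I => Coh.structureModule (U : Scheme.{u})) j ≫
      (Limits.Sigma.map (fun _ : I => (Scheme.Modules.restrictUnitIso U.ι).inv) ≫
      sigmaComparison (Scheme.Modules.restrictFunctor U.ι) (fun _ : I => Coh.structureModule X) ≫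
        (Scheme.Modules.restrictFunctor U.ι).map
          (show (∐ fun _ : I => Coh.structureModule X) ⟶ L from φ)) =
    (Scheme.Modules.restrictUnitIso U.ι).inv ≫
      (Scheme.Modules.restrictFunctor U.ι).map
        (Sigma.ι (fun _ : I => Coh.structureModule X) j ≫
          (show (∐ fun _ : I => Coh.structureModule X) ⟶ L from φ))
  simp only [Limits.Sigma.ι_map_assoc, Functor.map_comp]
  congr 1
  exact ι_comp_sigmaComparison_assoc (Scheme.Modules.restrictFunctor U.ι)
    (fun _ : I => Coh.structureModule X) j _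

/-- a morphism from a free module to an invertible module which is an epimorphism over an open
`U`: every point of `U` lies in `X_s` for one of the generating sections. -/
theorem exists_mem_genLocus_of_epi_restrict {L : X.Modules} (hL : PicF.IsInvertible L)
    {I : Type u} (φ : (SheafOfModules.free I : X.Modules) ⟶ L) (U : X.Opens)
    (hφ : Epi ((Scheme.Modules.restrictFunctor U.ι).map φ)) (x : X) (hxU : x ∈ U) :
    ∃ j, x ∈ CohB1.genLocus L (freeInj I j ≫ φ) := by
  have := epi_restrictFree U φ hφ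
  obtain ⟨j, hj⟩ := exists_mem_genLocus_of_epi (isInvertible_restrict hL U) (restrictFree U φ)
    ⟨x, hxU⟩
  rw [freeInj_restrictFree, genLocus_restrict] at hj
  exact ⟨j, hj⟩

/-- a morphism of modules surjective on all sections is an epimorphism. -/
theorem epi_of_app_surjective {A B : X.Modules} (φ : A ⟶ B)
    (h : ∀ V : X.Opens, Function.Surjective (φ.app V).hom) : Epi φ := by
  rw [epi_iff_isLocallySurjective, TopCat.Presheaf.isLocallySurjective_iff]
  intro V t y hy
  obtain ⟨s, hs⟩ := h V t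
  refine ⟨V, le_rfl, ⟨s, ?_⟩, hy⟩
  refine Eq.trans hs ?_
  change t = (B.presheaf.map (homOfLE (le_refl V)).op).hom t
  have h3 : homOfLE (le_refl V) = 𝟙 V := Subsingleton.elim _ _
  rw [h3]
  simp

/-- **Criterion**: `M ⟶ O_W` which is `1` somewhere over `U` and vanishes at the points off `U`;
`P` invertible; if `M ⊗ P` is generated by global sections then every point of `U` lies in some
`W_σ ⊆ U` with `σ` a global section of `P`. -/
theorem exists_section_of_mul {W : Scheme.{u}} (P : W.Modules) (hP : PicF.IsInvertible P)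
    (M : W.Modules) (ι : M ⟶ Coh.structureModule W) (U : W.Opens)
    (s₁ : Γ(M, U)) (hs₁ : ofO U ((ι.app U).hom s₁) = 1)
    (hvan : ∀ z : W, z ∉ U → ∀ (W' : W.Opens), IsAffineOpen W' → z ∈ W' → ∀ a : Γ(M, W'),
      z ∉ W.basicOpen (ofO W' ((ι.app W').hom a)))
    {I : Type u} (p : (SheafOfModules.free I : W.Modules) ⟶ CohB1.tensorMod M P) [Epi p]
    (x : W) (hxU : x ∈ U) :
    ∃ σ : Coh.structureModule W ⟶ P, x ∈ CohB1.genLocus P σ ∧ CohB1.genLocus P σ ≤ U := by
  have hμ : Epi ((Scheme.Modules.restrictFunctor U.ι).map (mulHom' ι P)) := by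
    apply epi_of_app_surjective
    intro W' t
    have hle : U.ι ''ᵁ W' ≤ U := U.ι_image_le W'
    refine ⟨tm M P (U.ι ''ᵁ W') (mres M hle s₁) t, ?_⟩
    change ((mulHom' ι P).app (U.ι ''ᵁ W')).hom (tm M P (U.ι ''ᵁ W') (mres M hle s₁) t) = t
    rw [mulHom'_tm]
    have h2 : ofO (U.ι ''ᵁ W') ((ι.app (U.ι ''ᵁ W')).hom (mres M hle s₁)) = 1 := by
      have := app_res ι hle s₁
      refine (congrArg (ofO (U.ι ''ᵁ W')) this.symm).trans ?_
      have h5 : (ι.app U).hom s₁ = toO U 1 := hs₁
      rw [h5, toO_res, map_one]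
      rfl
    rw [h2, one_smul]
  have hpμ : Epi ((Scheme.Modules.restrictFunctor U.ι).map (p ≫ mulHom' ι P)) := by
    rw [Functor.map_comp]
    have hp' : Epi ((Scheme.Modules.restrictFunctor U.ι).map p) := by
      have : Epi (C := W.Modules) p := ‹Epi p›
      infer_instance
    exact @epi_comp _ _ _ _ _ _ hp' _ hμ
  obtain ⟨j, hj⟩ := exists_mem_genLocus_of_epi_restrict hP (p ≫ mulHom' ι P) U hpμ x hxU
  refine ⟨freeInj I j ≫ p ≫ mulHom' ι P, hj, ?_⟩
  intro z hz
  by_contra hzU
  obtain ⟨V, hzV, ε₀, hε₀⟩ := exists_isBasisOn_of_isInvertible hP z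
  obtain ⟨_, ⟨W', hW', rfl⟩, hzW, hWV⟩ :=
    W.isBasis_affineOpens.exists_subset_of_mem_open hzV V.isOpen
  have hWV' : W' ≤ V := hWV
  have hε : IsBasisOn P W' (mres P hWV' ε₀) := hε₀.mono hWV'
  obtain ⟨a, ha⟩ := tm_basis_surjective M P W' (mres P hWV' ε₀) hε W' le_rfl
    (sec (freeInj I j ≫ p) W')
  have hres : mres P (le_refl W') (mres P hWV' ε₀) = mres P hWV' ε₀ := by
    rw [mres_mres]
  rw [hres] at ha
  have hsec : sec (freeInj I j ≫ p ≫ mulHom' ι P) W' =
      ofO W' ((ι.app W').hom a) • mres P hWV' ε₀ := by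
    have e1 : freeInj I j ≫ p ≫ mulHom' ι P = (freeInj I j ≫ p) ≫ mulHom' ι P := by
      simp only [Category.assoc]
    rw [e1, sec_comp, ← ha, mulHom'_tm]
  have hle := genLocus_inf_le_basicOpen _ _ hε _ hsec
  exact hvan z hzU W' hW' hzW a (hle ⟨hz, hzW⟩)

/-- the restriction to an open subscheme of a morphism `N ⟶ O_X`. -/
noncomputable def restrictToUnit (A : X.Opens) {N : X.Modules} (ν : N ⟶ Coh.structureModule X) :
    N.restrict A.ι ⟶ Coh.structureModule (A : Scheme.{u}) :=
  (Scheme.Modules.restrictFunctor A.ι).map ν ≫ (Scheme.Modules.restrictUnitIso A.ι).hom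

theorem restrictToUnit_app (A : X.Opens) {N : X.Modules} (ν : N ⟶ Coh.structureModule X)
    (W' : (A : Scheme.{u}).Opens) (a : Γ(N, A.ι ''ᵁ W')) :
    ofO W' (((restrictToUnit A ν).app W').hom (show Γ(N.restrict A.ι, W') from a)) =
      (A.ι.appIso W').hom (ofO (A.ι ''ᵁ W') ((ν.app (A.ι ''ᵁ W')).hom a)) := rfl

/-- **Criterion for ideal sheaves on an open subscheme.** -/
theorem exists_section_of_ideal_mul (A : X.Opens) (I : X.IdealSheafData) (U₀ : X.Opens)
    (hU₀ : IsAffineOpen U₀) (hUA : U₀ ≤ A) (hIU : I.ideal ⟨U₀, hU₀⟩ = ⊤)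
    (hsupp : ∀ z : X, z ∈ A → z ∉ U₀ → z ∈ I.support)
    (P : (A : Scheme.{u}).Modules) (hP : PicF.IsInvertible P)
    (hgg : Curv2.IsGloballyGenerated (CohB1.tensorMod ((ClSub.idealMod I).restrict A.ι) P))
    (x : X) (hx : x ∈ U₀) :
    ∃ σ : Coh.structureModule (A : Scheme.{u}) ⟶ P,
      (⟨x, hUA hx⟩ : A) ∈ CohB1.genLocus P σ ∧ CohB1.genLocus P σ ≤ A.ι ⁻¹ᵁ U₀ := by
  obtain ⟨I₀, p, hp⟩ := hgg
  obtain ⟨s₀, hs₀⟩ := (mem_ideal_iff_exists_section I ⟨U₀, hU₀⟩ 1).mp (hIU ▸ Submodule.mem_top)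
  have e : A.ι ''ᵁ (A.ι ⁻¹ᵁ U₀) = U₀ := by
    rw [A.ι.image_preimage_eq_opensRange_inf, A.opensRange_ι, inf_eq_right.mpr hUA]
  refine exists_section_of_mul P hP ((ClSub.idealMod I).restrict A.ι)
    (restrictToUnit A (ClSub.idealModι I)) (A.ι ⁻¹ᵁ U₀)
    (show Γ((ClSub.idealMod I).restrict A.ι, A.ι ⁻¹ᵁ U₀) from mres (ClSub.idealMod I) e.le s₀)
    ?_ ?_ p ⟨x, hUA hx⟩ hx
  · rw [restrictToUnit_app]
    have h1 := app_res (ClSub.idealModι I) e.le s₀
    have h5 : ((ClSub.idealModι I).app U₀).hom s₀ = toO U₀ 1 := hs₀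
    have h2 : ((ClSub.idealModι I).app (A.ι ''ᵁ (A.ι ⁻¹ᵁ U₀))).hom (mres (ClSub.idealMod I) e.le s₀) =
        toO _ 1 := by
      refine h1.symm.trans ?_
      rw [h5, toO_res, map_one]
    rw [h2]
    exact map_one _
  · intro z hzU W' hW' hzW' a
    have hzs : z.1 ∈ I.support := hsupp z.1 z.2 hzU
    have hW'' : IsAffineOpen (A.ι ''ᵁ W') := hW'.image_of_isOpenImmersion A.ι
    have hzW'' : z.1 ∈ A.ι ''ᵁ W' := ⟨z, hzW', rfl⟩
    rw [Scheme.IdealSheafData.mem_support_iff_of_mem (U := ⟨A.ι ''ᵁ W', hW''⟩) hzW''] at hzs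
    have hmem := idealModι_app_mem I ⟨A.ι ''ᵁ W', hW''⟩ a
    have hnot := (X.mem_zeroLocus_iff _ z.1).mp hzs _ hmem
    intro hzb
    apply hnot
    rw [restrictToUnit_app] at hzb
    have h3 := Scheme.image_basicOpen A.ι
      ((A.ι.appIso W').hom (ofO (A.ι ''ᵁ W') (((ClSub.idealModι I).app (A.ι ''ᵁ W')).hom a)))
    rw [Iso.hom_inv_id_apply] at h3
    have h4 : z.1 ∈ A.ι ''ᵁ (Scheme.basicOpen _ ((A.ι.appIso W').hom
        (ofO (A.ι ''ᵁ W') (((ClSub.idealModι I).app (A.ι ''ᵁ W')).hom a)))) := ⟨z, hzb, rfl⟩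
    rw [h3] at h4
    exact h4

end Groth.Agent.Lib.Helper11.IdealCrit
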