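import Mathlib
import Groth.Agent.Lib.Helper11.CounitEpi
import Groth.Agent.Lib.Helper11.AmpleTensorGG
import Groth.Agent.Lib.Helper11.IdealCrit

/-! Helper library (helper11): EGA II 4.6.8-type criteria for relative ampleness through the counit
`f^* f_* F ⟶ F`. -/

set_option autoImplicit false
universe u
open AlgebraicGeometry CategoryTheory Limits TopologicalSpace Opposite

namespace Groth.Agent.Lib.Helper11.CounitAmple
open Groth.Agent.Lib.Helper11 Groth.Agent.Lib.Helper45 Groth.Agent.Lib.Helper49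
  Groth.Agent.Lib.Helper11.GenLocus Groth.Agent.Lib.Helper11.GGInvertible
  Groth.Agent.Lib.Helper11.IdealGen Groth.Agent.Lib.Helper11.MulHom
  Groth.Agent.Lib.Helper11.CounitEpi Groth.Agent.Lib.Helper11.IdealCrit

theorem relAmple_of_counit_ideal_twist_epi {X Y : Scheme.{u}} [CompactSpace X] [X.IsSeparated] (f : X ⟶ Y)
    [IsSeparated f] [QuasiCompact f] (L : X.Modules) (hL : PicF.IsInvertible L)
    (h : ∀ (J : X.Modules) (i : J ⟶ Coh.structureModule X), Mono i → Coh.IsQCoh J → CohB1.IsFT J →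
      ∃ n : ℕ, 0 < n ∧
        Epi ((Scheme.Modules.pullbackPushforwardAdjunction f).counit.app (CohB1.tensorMod J (CohB1.tensorPow L n)))) :
    RelAmple.IsRelAmple f L := by
  refine ⟨inferInstance, fun V => ?_⟩
  have hcA : CompactSpace ((f ⁻¹ᵁ V.1 : X.Opens) : Scheme.{u}) :=
    isCompact_iff_compactSpace.mp
      (QuasiCompact.isCompact_preimage (f := f) V.1.1 V.1.2 V.2.isCompact)
  refine ⟨isInvertible_restrict' (f ⁻¹ᵁ V.1).ι hL, hcA, fun x' => ?_⟩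
  obtain ⟨_, ⟨U₀, hU₀, rfl⟩, hxU₀, hUA⟩ :=
    X.isBasis_affineOpens.exists_subset_of_mem_open x'.2 (f ⁻¹ᵁ V.1).isOpen
  have hUA' : U₀ ≤ f ⁻¹ᵁ V.1 := hUA
  obtain ⟨I, hI, hsupp⟩ := Groth.Agent.Lib.Helper93.FiniteTypeExtend.exists_isFiniteTypeIdeal_support_eq
    (X := X) (U₀ : Set X)ᶜ U₀.2.isClosed_compl (by rw [compl_compl]; exact hU₀.isCompact)
  have hIU : I.ideal ⟨U₀, hU₀⟩ = ⊤ := by
    have h1 : hU₀.fromSpec '' PrimeSpectrum.zeroLocus (I.ideal ⟨U₀, hU₀⟩ : Set Γ(X, U₀)) = ∅ := by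
      rw [hU₀.fromSpec_image_zeroLocus, ← Scheme.IdealSheafData.coe_support_inter I ⟨U₀, hU₀⟩, hsupp]
      exact Set.compl_inter_self _
    exact PrimeSpectrum.zeroLocus_empty_iff_eq_top.mp (Set.image_eq_empty.mp h1)
  obtain ⟨n, hn, hepi⟩ := h (ClSub.idealMod I) (ClSub.idealModι I) inferInstance inferInstance
    (isFiniteType_idealMod I hI)
  obtain ⟨n', rfl⟩ := Nat.exists_eq_succ_of_ne_zero hn.ne'
  have hPX : PicF.IsInvertible (CohB1.tensorPow L (n' + 1)) := isInvertible_tensorPow hL (n' + 1)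
  have hq : (CohB1.tensorMod (ClSub.idealMod I) (CohB1.tensorPow L (n' + 1))).IsQuasicoherent :=
    isQuasicoherent_tensorMod_of_isInvertible _ _ hPX
  have hgg := isGloballyGenerated_restrict_of_epi_counit f _ hepi V.1 V.2
  have hgg' := IsGloballyGenerated.of_iso
    (restrictTensorIso (f ⁻¹ᵁ V.1).ι (ClSub.idealMod I) (CohB1.tensorPow L (n' + 1))).symm hgg
  have hP : PicF.IsInvertible ((CohB1.tensorPow L (n' + 1)).restrict (f ⁻¹ᵁ V.1).ι) :=
    isInvertible_restrict' _ hPX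
  obtain ⟨σ, hxσ, hσU⟩ := exists_section_of_ideal_mul (f ⁻¹ᵁ V.1) I U₀ hU₀ hUA' hIU
    (fun z _ hzU => by rw [← SetLike.mem_coe, hsupp]; exact hzU) _ hP hgg' x'.1 hxU₀
  have hloc : CohB1.genLocus _ (σ ≫ (restrictTensorPowIso (f ⁻¹ᵁ V.1).ι L (n' + 1)).inv) =
      CohB1.genLocus _ σ := genLocus_comp_iso σ (restrictTensorPowIso (f ⁻¹ᵁ V.1).ι L (n' + 1)).symm
  refine ⟨n', σ ≫ (restrictTensorPowIso (f ⁻¹ᵁ V.1).ι L (n' + 1)).inv, ?_, ?_⟩
  · rw [hloc]; exact hxσ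
  · refine isAffineOpen_genLocus_of_le
      (isInvertible_tensorPow (isInvertible_restrict' (f ⁻¹ᵁ V.1).ι hL) (n' + 1)) _
      (by
        rw [← Scheme.Hom.isAffineOpen_iff_of_isOpenImmersion (f ⁻¹ᵁ V.1).ι,
          (f ⁻¹ᵁ V.1).ι.image_preimage_eq_opensRange_inf, (f ⁻¹ᵁ V.1).opensRange_ι,
          inf_eq_right.mpr hUA']
        exact hU₀) (hloc.le.trans hσU)

end Groth.Agent.Lib.Helper11.CounitAmple
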