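import Mathlib
import Groth.Agent.Lib.Helper11.CounitAmple

/-! Helper library (helper11): every section of `F` over `f⁻¹V` is in the image of the counit
`f^* f_* F ⟶ F` (`exists_counit_app_eq`); the counit is epi if `F` is locally (on the base)
generated by sections over preimages (`epi_counit_of_locally_genOn`); EGA II 5.1.6 (a) ⇔ (d)
(quasi-affine morphisms) and EGA II 4.6.8 (relative ampleness via the counit). -/

set_option autoImplicit false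
universe u
open AlgebraicGeometry CategoryTheory Limits TopologicalSpace Opposite

namespace Groth.Agent.Lib.Helper11.CounitEpi2
open Groth.Agent.Lib.Helper11 Groth.Agent.Lib.Helper45 Groth.Agent.Lib.Helper49
  Groth.Agent.Lib.Helper11.GenLocus Groth.Agent.Lib.Helper11.GGInvertible
  Groth.Agent.Lib.Helper11.IdealGen Groth.Agent.Lib.Helper11.MulHom
  Groth.Agent.Lib.Helper11.CounitEpi Groth.Agent.Lib.Helper11.IdealCrit

variable {X Y : Scheme.{u}}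

/-- every section of `F` over `f⁻¹ V` is in the image of the counit `f^* f_* F ⟶ F`. -/
theorem exists_counit_app_eq (f : X ⟶ Y) (F : X.Modules) (V : Y.Opens) (t : Γ(F, f ⁻¹ᵁ V)) :
    ∃ t' : Γ((Scheme.Modules.pullback f).obj ((Scheme.Modules.pushforward f).obj F), f ⁻¹ᵁ V),
      (((Scheme.Modules.pullbackPushforwardAdjunction f).counit.app F).app (f ⁻¹ᵁ V)).hom t' = t := by
  have h := (Scheme.Modules.pullbackPushforwardAdjunction f).right_triangle_components F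
  refine ⟨(((Scheme.Modules.pullbackPushforwardAdjunction f).unit.app
    ((Scheme.Modules.pushforward f).obj F)).app V).hom t, ?_⟩
  have h2 := congrArg (fun φ : (Scheme.Modules.pushforward f).obj F ⟶
    (Scheme.Modules.pushforward f).obj F => (φ.app V).hom t) h
  exact h2

/-- if, locally on `Y`, the module `F` is generated over `f⁻¹ V` by its sections over `f⁻¹ V`,
then the counit `f^* f_* F ⟶ F` is an epimorphism. -/
theorem epi_counit_of_locally_genOn (f : X ⟶ Y) (F : X.Modules)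
    (h : ∀ x : X, ∃ V : Y.Opens, f.base x ∈ V ∧ GenOn (F.restrict (f ⁻¹ᵁ V).ι) ⊤) :
    Epi ((Scheme.Modules.pullbackPushforwardAdjunction f).counit.app F) := by
  rw [epi_iff_isLocallySurjective, TopCat.Presheaf.isLocallySurjective_iff]
  intro W a x hxW
  obtain ⟨V, hxV, hgen⟩ := h x
  have hxA : x ∈ f ⁻¹ᵁ V := hxV
  have hle : (f ⁻¹ᵁ V).ι ''ᵁ ((f ⁻¹ᵁ V).ι ⁻¹ᵁ W) ≤ W := (f ⁻¹ᵁ V).ι.image_preimage_le W
  obtain ⟨W'', hW''V', hxW'', hmem⟩ := hgen ((f ⁻¹ᵁ V).ι ⁻¹ᵁ W) le_top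
    (show Γ(F.restrict (f ⁻¹ᵁ V).ι, (f ⁻¹ᵁ V).ι ⁻¹ᵁ W) from mres F hle a) ⟨x, hxA⟩ hxW
  have hW₂ : (f ⁻¹ᵁ V).ι ''ᵁ W'' ≤ W := ((f ⁻¹ᵁ V).ι.image_mono hW''V').trans hle
  have hW₃ : (f ⁻¹ᵁ V).ι ''ᵁ W'' ≤ f ⁻¹ᵁ V := (f ⁻¹ᵁ V).ι_image_le W''
  have key : ∀ b ∈ Submodule.span Γ(((f ⁻¹ᵁ V : X.Opens) : Scheme.{u}), W'')
      (Set.range fun t : Γ(F.restrict (f ⁻¹ᵁ V).ι, ⊤) =>
        mres (F.restrict (f ⁻¹ᵁ V).ι) (le_top : W'' ≤ ⊤) t),
      ∃ s : Γ((Scheme.Modules.pullback f).obj ((Scheme.Modules.pushforward f).obj F),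
          (f ⁻¹ᵁ V).ι ''ᵁ W''),
        (((Scheme.Modules.pullbackPushforwardAdjunction f).counit.app F).app
          ((f ⁻¹ᵁ V).ι ''ᵁ W'')).hom s = (show Γ(F, (f ⁻¹ᵁ V).ι ''ᵁ W'') from b) := by
    intro b hb
    induction hb using Submodule.span_induction with
    | mem b hb =>
      obtain ⟨t, rfl⟩ := hb
      have htop : f ⁻¹ᵁ V ≤ (f ⁻¹ᵁ V).ι ''ᵁ ⊤ := le_of_eq (f ⁻¹ᵁ V).ι_image_top.symm
      obtain ⟨t', ht'⟩ := exists_counit_app_eq f F V (mres F htop t)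
      refine ⟨mres _ hW₃ t', ?_⟩
      have h1 := app_res ((Scheme.Modules.pullbackPushforwardAdjunction f).counit.app F) hW₃ t'
      refine h1.symm.trans ?_
      rw [ht']
      exact mres_mres F hW₃ htop t
    | zero => exact ⟨0, map_zero _⟩
    | add b₁ b₂ _ _ h₁ h₂ =>
      obtain ⟨s₁, hs₁⟩ := h₁
      obtain ⟨s₂, hs₂⟩ := h₂
      exact ⟨s₁ + s₂, by rw [map_add, hs₁, hs₂]; rfl⟩
    | smul r b _ hb =>
      obtain ⟨s, hs⟩ := hb
      refine ⟨((f ⁻¹ᵁ V).ι.appIso W'').inv r • s, ?_⟩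
      rw [Scheme.Modules.Hom.app_smul, hs]
      rfl
  obtain ⟨s, hs⟩ := key _ hmem
  refine ⟨(f ⁻¹ᵁ V).ι ''ᵁ W'', hW₂, ⟨s, ?_⟩, ⟨⟨x, hxA⟩, hxW'', rfl⟩⟩
  refine Eq.trans hs ?_
  exact mres_mres F ((f ⁻¹ᵁ V).ι.image_mono hW''V') hle a

theorem separated_and_epi_counit_of_isQuasiAffine (f : X ⟶ Y) [QuasiCompact f]
    (hf : Mor2.IsQuasiAffine f) :
    IsSeparated f ∧ ∀ F : X.Modules, Coh.IsQCoh F →
      Epi ((Scheme.Modules.pullbackPushforwardAdjunction f).counit.app F) := by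
  constructor
  · refine Groth.Agent.Lib.Helper69.isSeparated_of_forall_exists_isAffineOpen f fun x y hxy => ?_
    obtain ⟨_, ⟨V, hV, rfl⟩, hxV, -⟩ :=
      Y.isBasis_affineOpens.exists_subset_of_mem_open (Set.mem_univ (f.base x)) isOpen_univ
    have hqa := hf.2 V hV
    have hx' : x ∈ f ⁻¹ᵁ V := hxV
    have hy' : y ∈ f ⁻¹ᵁ V := by
      change f.base y ∈ V
      rw [← hxy]
      exact hxV
    obtain ⟨r, hr, hE, -⟩ := exists_basicOpen_of_finite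
      (X := ((f ⁻¹ᵁ V : X.Opens) : Scheme.{u})) ⊤ {⟨x, hx'⟩, ⟨y, hy'⟩} (Set.toFinite _)
      (fun _ _ => trivial)
    exact ⟨(f ⁻¹ᵁ V).ι ''ᵁ (Scheme.basicOpen _ r), hr.image_of_isOpenImmersion _,
      ⟨⟨x, hx'⟩, hE (Set.mem_insert _ _), rfl⟩,
      ⟨⟨y, hy'⟩, hE (Set.mem_insert_of_mem _ rfl), rfl⟩⟩
  · intro F hF
    have : F.IsQuasicoherent := hF
    refine epi_counit_of_locally_genOn f F fun x => ?_
    obtain ⟨_, ⟨V, hV, rfl⟩, hxV, -⟩ :=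
      Y.isBasis_affineOpens.exists_subset_of_mem_open (Set.mem_univ (f.base x)) isOpen_univ
    have hqa := hf.2 V hV
    exact ⟨V, hxV, genOn_top_of_isQuasiAffine _ _⟩

theorem isQuasiAffine_of_separated_of_epi_counit (f : X ⟶ Y) [QuasiCompact f]
    (hsep : IsSeparated f) (h : ∀ F : X.Modules, Coh.IsQCoh F →
      Epi ((Scheme.Modules.pullbackPushforwardAdjunction f).counit.app F)) :
    Mor2.IsQuasiAffine f := by
  refine ⟨inferInstance, fun V hV => ?_⟩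
  have hcA : CompactSpace ((f ⁻¹ᵁ V : X.Opens) : Scheme.{u}) :=
    isCompact_iff_compactSpace.mp (QuasiCompact.isCompact_preimage (f := f) V V.2 hV.isCompact)
  refine isQuasiAffine_of_forall_exists_mem_basicOpen _ fun x' => ?_
  obtain ⟨_, ⟨U₀, hU₀, rfl⟩, hxU₀, hUA⟩ :=
    X.isBasis_affineOpens.exists_subset_of_mem_open x'.2 (f ⁻¹ᵁ V).isOpen
  have hUA' : U₀ ≤ f ⁻¹ᵁ V := hUA
  have hI : ∃ I : X.IdealSheafData, I.ideal ⟨U₀, hU₀⟩ = ⊤ ∧ ∀ z : X, z ∉ U₀ → z ∈ I.support := by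
    refine ⟨Scheme.IdealSheafData.vanishingIdeal ⟨(U₀ : Set X)ᶜ, U₀.2.isClosed_compl⟩, ?_, ?_⟩
    · rw [Scheme.IdealSheafData.vanishingIdeal_ideal]
      have : hU₀.fromSpec ⁻¹' ((⟨(U₀ : Set X)ᶜ, U₀.2.isClosed_compl⟩ : Closeds X) : Set X) = ∅ := by
        ext p
        simp only [Set.mem_preimage, Set.mem_empty_iff_false, iff_false]
        intro hp
        have h1 : hU₀.fromSpec p ∈ hU₀.fromSpec.opensRange := ⟨p, rfl⟩
        rw [hU₀.opensRange_fromSpec] at h1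
        exact hp h1
      convert PrimeSpectrum.vanishingIdeal_empty using 2
      exact this
    · intro z hz
      have h1 : (⟨(U₀ : Set X)ᶜ, U₀.2.isClosed_compl⟩ : Closeds X) ≤
          (Scheme.IdealSheafData.vanishingIdeal ⟨(U₀ : Set X)ᶜ, U₀.2.isClosed_compl⟩).support :=
        Scheme.IdealSheafData.le_support_iff_le_vanishingIdeal.mpr le_rfl
      exact h1 hz
  obtain ⟨I, hIU, hsupp⟩ := hI
  have hq : (ClSub.idealMod I).IsQuasicoherent := inferInstance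
  have hgg := isGloballyGenerated_restrict_of_epi_counit f (ClSub.idealMod I) (h _ hq) V hV
  have hgg' := IsGloballyGenerated.of_iso
    (tensorUnitIso ((ClSub.idealMod I).restrict (f ⁻¹ᵁ V).ι)).symm hgg
  obtain ⟨σ, hxσ, hσU⟩ := exists_section_of_ideal_mul (f ⁻¹ᵁ V) I U₀ hU₀ hUA' hIU
    (fun z _ hzU => hsupp z hzU) (Coh.structureModule _) (isInvertible_structureModule _) hgg'
    x'.1 hxU₀
  rw [genLocus_unit] at hxσ hσU
  refine ⟨ofO ⊤ (sec σ ⊤), ?_, hxσ⟩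
  have hU' : IsAffineOpen ((f ⁻¹ᵁ V).ι ⁻¹ᵁ U₀) := by
    rw [← Scheme.Hom.isAffineOpen_iff_of_isOpenImmersion (f ⁻¹ᵁ V).ι,
      (f ⁻¹ᵁ V).ι.image_preimage_eq_opensRange_inf, (f ⁻¹ᵁ V).opensRange_ι,
      inf_eq_right.mpr hUA']
    exact hU₀
  have e : Scheme.basicOpen _ (ofO ⊤ (sec σ ⊤)) =
      Scheme.basicOpen _ (fres (le_top : (f ⁻¹ᵁ V).ι ⁻¹ᵁ U₀ ≤ ⊤) (ofO ⊤ (sec σ ⊤))) := by
    rw [basicOpen_fres, inf_eq_right.mpr hσU]
  have haff : IsAffineOpen (Scheme.basicOpen _ (ofO ⊤ (sec σ ⊤))) := by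
    rw [e]
    exact hU'.basicOpen _
  have : IsAffine ((Scheme.basicOpen _ (ofO ⊤ (sec σ ⊤)) :
    ((f ⁻¹ᵁ V : X.Opens) : Scheme.{u}).Opens) : Scheme.{u}) := haff
  infer_instance

theorem eventually_epi_counit_of_relAmple [CompactSpace X] (f : X ⟶ Y) (L : X.Modules)
    (hL : RelAmple.IsRelAmple f L) (F : X.Modules) (hF : Coh.IsQCoh F) (hF' : CohB1.IsFT F) :
    ∃ n₀ : ℕ, 0 < n₀ ∧ ∀ n : ℕ, n₀ ≤ n →
      Epi ((Scheme.Modules.pullbackPushforwardAdjunction f).counit.app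
        (CohB1.tensorMod F (CohB1.tensorPow L n))) := by
  classical
  have : F.IsQuasicoherent := hF
  have hV : ∀ x : X, ∃ V : Y.Opens, IsAffineOpen V ∧ f.base x ∈ V := by
    intro x
    obtain ⟨_, ⟨V, hV, rfl⟩, hxV, -⟩ :=
      Y.isBasis_affineOpens.exists_subset_of_mem_open (Set.mem_univ (f.base x)) isOpen_univ
    exact ⟨V, hV, hxV⟩
  choose V hVa hxV using hV
  have hev : ∀ x : X, ∃ n₁ : ℕ, ∀ n, n₁ ≤ n →
      GenOn ((CohB1.tensorMod F (CohB1.tensorPow L n)).restrict (f ⁻¹ᵁ V x).ι) ⊤ := by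
    intro x
    have hample := hL.2 ⟨V x, hVa x⟩
    have hc : CompactSpace ((f ⁻¹ᵁ V x : X.Opens) : Scheme.{u}) := hample.2.1
    have hcoh : Coh.IsCoh (F.restrict (f ⁻¹ᵁ V x).ι) :=
      ⟨inferInstance, isFiniteType_restrict F _ hF'⟩
    obtain ⟨n₁, hn₁⟩ := eventually_genOn_top _ _ hample (F.restrict (f ⁻¹ᵁ V x).ι) hcoh
    exact ⟨n₁, fun n hn => (hn₁ n hn).of_iso
      (tensorModCongr (Iso.refl _) (restrictTensorPowIso (f ⁻¹ᵁ V x).ι L n) ≪≫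
        restrictTensorIso (f ⁻¹ᵁ V x).ι F (CohB1.tensorPow L n))⟩
  choose n₁ hn₁ using hev
  obtain ⟨S, hS⟩ := isCompact_univ.elim_finite_subcover
    (fun x => ((f ⁻¹ᵁ V x : X.Opens) : Set X))
    (fun x => (f ⁻¹ᵁ V x).isOpen) (fun x _ => Set.mem_iUnion.mpr ⟨x, hxV x⟩)
  refine ⟨S.sup n₁ + 1, Nat.succ_pos _, fun n hn => ?_⟩
  refine epi_counit_of_locally_genOn f _ fun x => ?_
  obtain ⟨i, hi, hxi⟩ := Set.mem_iUnion₂.mp (hS (Set.mem_univ x))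
  exact ⟨V i, hxi, hn₁ i n ((Finset.le_sup hi).trans ((Nat.le_succ _).trans hn))⟩

theorem relAmple_iff_counit_twist_eventually_epi [CompactSpace X] [X.IsSeparated] (f : X ⟶ Y)
    [IsSeparated f] [QuasiCompact f] (L : X.Modules) (hL : PicF.IsInvertible L) :
    RelAmple.IsRelAmple f L ↔ ∀ F : X.Modules, Coh.IsQCoh F → CohB1.IsFT F →
      ∃ n₀ : ℕ, 0 < n₀ ∧ ∀ n : ℕ, n₀ ≤ n →
        Epi ((Scheme.Modules.pullbackPushforwardAdjunction f).counit.app (CohB1.tensorMod F (CohB1.tensorPow L n))) := by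
  constructor
  · intro h F hF hF'
    exact eventually_epi_counit_of_relAmple f L h F hF hF'
  · intro h
    refine Groth.Agent.Lib.Helper11.CounitAmple.relAmple_of_counit_ideal_twist_epi f L hL
      fun J i _ hJ hJ' => ?_
    obtain ⟨n₀, hn₀, hn⟩ := h J hJ hJ'
    exact ⟨n₀, hn₀, hn n₀ le_rfl⟩

end Groth.Agent.Lib.Helper11.CounitEpi2
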