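import Mathlib
import Groth.Agent.Lib.Helper11.CounitEpi2

/-! Helper library (helper11): morphisms out of `O_X` are determined by their global section
(`unit_hom_ext`); if `F|_{f⁻¹U}` is globally generated for every affine open `U` of the base then
the counit `f^* f_* F ⟶ F` is an epimorphism (`epi_counit_of_forall_isGloballyGenerated`). -/

set_option autoImplicit false
universe u
open AlgebraicGeometry CategoryTheory Limits TopologicalSpace Opposite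

namespace Groth.Agent.Lib.Helper11.CounitEpi3
open Groth.Agent.Lib.Helper11 Groth.Agent.Lib.Helper45 Groth.Agent.Lib.Helper49
  Groth.Agent.Lib.Helper45.RefHullBasic Groth.Agent.Lib.Helper11.GenLocus
  Groth.Agent.Lib.Helper11.IdealGen Groth.Agent.Lib.Helper11.MulHom
  Groth.Agent.Lib.Helper11.CounitEpi Groth.Agent.Lib.Helper11.CounitEpi2

variable {X Y : Scheme.{u}}

theorem unit_hom_ext {N : X.Modules} {φ ψ : Coh.structureModule X ⟶ N}
    (h : sec φ ⊤ = sec ψ ⊤) : φ = ψ := by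
  apply Scheme.Modules.hom_ext
  intro W
  ext a
  refine (unit_app_eq φ W a).trans ((unit_app_eq ψ W a).trans ?_).symm
  have h' : φ.app ⊤ (1 : Γ(X, ⊤)) = ψ.app ⊤ (1 : Γ(X, ⊤)) := h
  rw [h']

/-- if `F` restricted to `f⁻¹ U` is globally generated for every affine open `U` of the base,
then the counit `f^* f_* F ⟶ F` is an epimorphism. -/
theorem epi_counit_of_forall_isGloballyGenerated (f : X ⟶ Y) (F : X.Modules)
    (h : ∀ U : Y.Opens, IsAffineOpen U → Curv2.IsGloballyGenerated (F.restrict (f ⁻¹ᵁ U).ι)) :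
    Epi ((Scheme.Modules.pullbackPushforwardAdjunction f).counit.app F) := by
  rw [epi_iff_isLocallySurjective, TopCat.Presheaf.isLocallySurjective_iff]
  intro V a x hxV
  obtain ⟨_, ⟨U, hU, rfl⟩, hxU, -⟩ :=
    (Y.isBasis_affineOpens).exists_subset_of_mem_open (Set.mem_univ (f.base x)) isOpen_univ
  obtain ⟨ι, p, hp⟩ := h U hU
  have hxW : x ∈ f ⁻¹ᵁ U := hxU
  let ε := (Scheme.Modules.pullbackPushforwardAdjunction f).counit.app F
  let εW : ((Scheme.Modules.pullback f).obj ((Scheme.Modules.pushforward f).obj F)).restrict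
      (f ⁻¹ᵁ U).ι ⟶ F.restrict (f ⁻¹ᵁ U).ι := (Scheme.Modules.restrictFunctor (f ⁻¹ᵁ U).ι).map ε
  have htop : f ⁻¹ᵁ U ≤ (f ⁻¹ᵁ U).ι ''ᵁ ⊤ := le_of_eq (f ⁻¹ᵁ U).ι_image_top.symm
  have htop' : (f ⁻¹ᵁ U).ι ''ᵁ ⊤ ≤ f ⁻¹ᵁ U := le_of_eq (f ⁻¹ᵁ U).ι_image_top
  -- lifts of the generating sections
  have hlift : ∀ j : ι, ∃ t : Γ(((Scheme.Modules.pullback f).obj
      ((Scheme.Modules.pushforward f).obj F)).restrict (f ⁻¹ᵁ U).ι, ⊤),
      (εW.app ⊤).hom t = sec (freeInj ι j ≫ p) ⊤ := by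
    intro j
    obtain ⟨t', ht'⟩ := exists_counit_app_eq f F U
      (mres F htop (show Γ(F, (f ⁻¹ᵁ U).ι ''ᵁ ⊤) from sec (freeInj ι j ≫ p) ⊤))
    refine ⟨mres _ htop' t', ?_⟩
    have h1 := app_res ε htop' t'
    refine h1.symm.trans ?_
    rw [ht']
    exact (mres_mres F htop' htop _).trans (mres_self F _)
  choose t ht using hlift
  let q : (SheafOfModules.free ι : ((f ⁻¹ᵁ U : X.Opens) : Scheme.{u}).Modules) ⟶
      ((Scheme.Modules.pullback f).obj ((Scheme.Modules.pushforward f).obj F)).restrict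
        (f ⁻¹ᵁ U).ι :=
    Cofan.IsColimit.desc (SheafOfModules.isColimitFreeCofan ι) (fun j => homOfSection _ (t j))
  have hq : q ≫ εW = p := by
    refine free_hom_ext fun j => ?_
    have e1 : freeInj ι j ≫ q = homOfSection _ (t j) :=
      Cofan.IsColimit.fac (SheafOfModules.isColimitFreeCofan ι) _ j
    have e2 : freeInj ι j ≫ q ≫ εW = (freeInj ι j ≫ q) ≫ εW := by simp only [Category.assoc]
    refine e2.trans ((congrArg (fun z => z ≫ εW) e1).trans ?_)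
    apply unit_hom_ext
    rw [sec_comp, sec_homOfSection, ← ht j]
    exact congrArg _ (mres_self _ (t j))
  have hle : (f ⁻¹ᵁ U).ι ''ᵁ ((f ⁻¹ᵁ U).ι ⁻¹ᵁ V) ≤ V := (f ⁻¹ᵁ U).ι.image_preimage_le V
  obtain ⟨V'', hV'', hxV'', m, hm⟩ := @exists_app_eq_of_epi _ _ _ p hp ((f ⁻¹ᵁ U).ι ⁻¹ᵁ V)
    (show Γ(F.restrict (f ⁻¹ᵁ U).ι, (f ⁻¹ᵁ U).ι ⁻¹ᵁ V) from mres F hle a) ⟨x, hxW⟩ hxV
  have hW₂ : (f ⁻¹ᵁ U).ι ''ᵁ V'' ≤ V := ((f ⁻¹ᵁ U).ι.image_mono hV'').trans hle
  refine ⟨(f ⁻¹ᵁ U).ι ''ᵁ V'', hW₂, ⟨(Scheme.Modules.Hom.app q V'').hom m, ?_⟩, ⟨⟨x, hxW⟩, hxV'', rfl⟩⟩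
  have h1 : (εW.app V'').hom ((Scheme.Modules.Hom.app q V'').hom m) =
      (Scheme.Modules.Hom.app p V'').hom m := by
    rw [← hq]; rfl
  refine Eq.trans h1 (hm.trans ?_)
  exact mres_mres F ((f ⁻¹ᵁ U).ι.image_mono hV'') hle a

end Groth.Agent.Lib.Helper11.CounitEpi3
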