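import Mathlib
import Groth.Agent.Lib.Helper11.CounitEpi3

/-! Helper library (helper11): pullback of sections along a morphism of schemes.
`pullS f L W : Γ(L, W) → Γ(f^* L, f⁻¹ W)` (unit of the adjunction on sections) with naturality,
restriction and semilinearity; the natural isomorphism
`pullbackRestrictNatIso : (f|_V)^* (G|_V) ≅ (f^* G)|_{f⁻¹ V}` and its compatibility with `pullS`;
`pullSec f s : O_X ⟶ f^* L` for `s : O_Y ⟶ L`, `sec_pullSec`; the pullback of a local basis is a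
local basis (`isBasisOn_pullS`); `X_{f^* s} = f⁻¹(Y_s)` (`genLocus_pullSec`, `genLocus_pullback_map`). -/

set_option autoImplicit false
universe u
open AlgebraicGeometry CategoryTheory Limits TopologicalSpace Opposite

namespace Groth.Agent.Lib.Helper11.PullbackBasis
open Groth.Agent.Lib.Helper11 Groth.Agent.Lib.Helper45 Groth.Agent.Lib.Helper49
  Groth.Agent.Lib.Helper45.RefHullBasic Groth.Agent.Lib.Helper11.GenLocus
  Groth.Agent.Lib.Helper11.IdealGen Groth.Agent.Lib.Helper11.MulHom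
  Groth.Agent.Lib.Helper11.CounitEpi Groth.Agent.Lib.Helper11.CounitEpi2
  Groth.Agent.Lib.Helper11.CounitEpi3

variable {X Y : Scheme.{u}}

/-- the unit of the pullback–pushforward adjunction on sections: `Γ(L, W) → Γ(f^* L, f⁻¹ W)`. -/
noncomputable def pullS (f : X ⟶ Y) (L : Y.Modules) (W : Y.Opens) (t : Γ(L, W)) :
    Γ((Scheme.Modules.pullback f).obj L, f ⁻¹ᵁ W) :=
  (((Scheme.Modules.pullbackPushforwardAdjunction f).unit.app L).app W).hom t

variable (f : X ⟶ Y) (V : Y.Opens)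

noncomputable def adjA : Scheme.Modules.pullback f ⋙ Scheme.Modules.restrictFunctor (f ⁻¹ᵁ V).ι ⊣
    Scheme.Modules.pushforward (f ⁻¹ᵁ V).ι ⋙ Scheme.Modules.pushforward f :=
  (Scheme.Modules.pullbackPushforwardAdjunction f).comp
    (Scheme.Modules.restrictAdjunction (f ⁻¹ᵁ V).ι)

noncomputable def adjB : Scheme.Modules.restrictFunctor V.ι ⋙ Scheme.Modules.pullback (f ∣_ V) ⊣
    Scheme.Modules.pushforward (f ∣_ V) ⋙ Scheme.Modules.pushforward V.ι :=
  (Scheme.Modules.restrictAdjunction V.ι).comp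
    (Scheme.Modules.pullbackPushforwardAdjunction (f ∣_ V))

noncomputable def rightIso :
    Scheme.Modules.pushforward (f ⁻¹ᵁ V).ι ⋙ Scheme.Modules.pushforward f ≅
      Scheme.Modules.pushforward (f ∣_ V) ⋙ Scheme.Modules.pushforward V.ι :=
  Scheme.Modules.pushforwardComp _ _ ≪≫
    Scheme.Modules.pushforwardCongr (morphismRestrict_ι f V).symm ≪≫
    (Scheme.Modules.pushforwardComp _ _).symm

/-- `(f|_V)^* (G|_V) ≅ (f^* G)|_{f⁻¹ V}`, naturally in `G`. -/
noncomputable def pullbackRestrictNatIso :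
    Scheme.Modules.restrictFunctor V.ι ⋙ Scheme.Modules.pullback (f ∣_ V) ≅
      Scheme.Modules.pullback f ⋙ Scheme.Modules.restrictFunctor (f ⁻¹ᵁ V).ι :=
  (conjugateIsoEquiv (adjA f V) (adjB f V)).symm (rightIso f V)

theorem unit_pullbackRestrictNatIso (L : Y.Modules) :
    (adjA f V).unit.app L ≫ (rightIso f V).hom.app _ =
      (adjB f V).unit.app L ≫ (Scheme.Modules.pushforward (f ∣_ V) ⋙
        Scheme.Modules.pushforward V.ι).map ((pullbackRestrictNatIso f V).hom.app L) :=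
  unit_conjugateEquiv_symm (adjA f V) (adjB f V) (rightIso f V).hom L


theorem image_preimage_le' (W : Y.Opens) :
    (f ⁻¹ᵁ V).ι ''ᵁ ((f ∣_ V) ⁻¹ᵁ (V.ι ⁻¹ᵁ W)) ≤ f ⁻¹ᵁ W := by
  rintro _ ⟨y, hy, rfl⟩
  have h1 : ((f ∣_ V) ≫ V.ι).base y ∈ W := hy
  rw [morphismRestrict_ι] at h1
  exact h1

theorem pullbackRestrictNatIso_pullS (L : Y.Modules) (W : Y.Opens) (t : Γ(L, W)) :
    (((pullbackRestrictNatIso f V).hom.app L).app ((f ∣_ V) ⁻¹ᵁ (V.ι ⁻¹ᵁ W))).hom
      (pullS (f ∣_ V) (L.restrict V.ι) (V.ι ⁻¹ᵁ W)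
        (show Γ(L.restrict V.ι, V.ι ⁻¹ᵁ W) from mres L (V.ι.image_preimage_le W) t)) =
    (show Γ(((Scheme.Modules.pullback f).obj L).restrict (f ⁻¹ᵁ V).ι,
        (f ∣_ V) ⁻¹ᵁ (V.ι ⁻¹ᵁ W)) from
      mres ((Scheme.Modules.pullback f).obj L) (image_preimage_le' f V W) (pullS f L W t)) := by
  have h := congrArg (fun φ => (Scheme.Modules.Hom.app φ W).hom t)
    (unit_pullbackRestrictNatIso f V L)
  refine Eq.trans ?_ (h.symm.trans ?_)
  · rfl
  · have h1 : (f ⁻¹ᵁ V).ι ''ᵁ ((f ⁻¹ᵁ V).ι ⁻¹ᵁ (f ⁻¹ᵁ W)) ≤ f ⁻¹ᵁ W :=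
      (f ⁻¹ᵁ V).ι.image_preimage_le _
    have h2 : (f ⁻¹ᵁ V).ι ''ᵁ ((f ∣_ V) ⁻¹ᵁ (V.ι ⁻¹ᵁ W)) ≤
        (f ⁻¹ᵁ V).ι ''ᵁ ((f ⁻¹ᵁ V).ι ⁻¹ᵁ (f ⁻¹ᵁ W)) := by
      apply (f ⁻¹ᵁ V).ι.image_mono
      intro y hy
      have h1 : ((f ∣_ V) ≫ V.ι).base y ∈ W := hy
      rw [morphismRestrict_ι] at h1
      exact h1
    change mres ((Scheme.Modules.pullback f).obj L) h2
      (mres ((Scheme.Modules.pullback f).obj L) h1 (pullS f L W t)) = _
    exact mres_mres _ h2 h1 _


section pullS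
variable {f}

theorem pullS_naturality {L L' : Y.Modules} (φ : L ⟶ L') (W : Y.Opens) (t : Γ(L, W)) :
    (((Scheme.Modules.pullback f).map φ).app (f ⁻¹ᵁ W)).hom (pullS f L W t) =
      pullS f L' W ((φ.app W).hom t) := by
  have h := (Scheme.Modules.pullbackPushforwardAdjunction f).unit.naturality φ
  exact (congrArg (fun ψ => (Scheme.Modules.Hom.app ψ W).hom t) h).symm

theorem pullS_res (L : Y.Modules) {W W' : Y.Opens} (h : W' ≤ W) (t : Γ(L, W)) :
    mres ((Scheme.Modules.pullback f).obj L) (show f ⁻¹ᵁ W' ≤ f ⁻¹ᵁ W from fun _ hx => h hx)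
      (pullS f L W t) = pullS f L W' (mres L h t) :=
  app_res ((Scheme.Modules.pullbackPushforwardAdjunction f).unit.app L) h t

theorem pullS_smul (L : Y.Modules) (W : Y.Opens) (r : Γ(Y, W)) (t : Γ(L, W)) :
    pullS f L W (r • t) = (f.app W).hom r • pullS f L W t :=
  Scheme.Modules.Hom.app_smul ((Scheme.Modules.pullbackPushforwardAdjunction f).unit.app L) r t


theorem pullbackUnitIso_hom_pullS (W : Y.Opens) (a : Γ(Y, W)) :
    (((pullbackUnitIso f).hom.app (f ⁻¹ᵁ W)).hom (pullS f (Coh.structureModule Y) W (toO W a))) =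
      toO (f ⁻¹ᵁ W) ((f.app W).hom a) := by
  have h := SheafOfModules.pullbackPushforwardAdjunction_homEquiv_pullbackObjUnitToUnit
    f.toRingCatSheafHom
  rw [Adjunction.homEquiv_unit] at h
  exact congrArg (fun ψ : Coh.structureModule Y ⟶
    (Scheme.Modules.pushforward f).obj (Coh.structureModule X) =>
      (Scheme.Modules.Hom.app ψ W).hom (toO W a)) h

theorem pullbackUnitIso_inv_one (W : Y.Opens) :
    (((pullbackUnitIso f).inv.app (f ⁻¹ᵁ W)).hom (toO (f ⁻¹ᵁ W) 1)) =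
      pullS f (Coh.structureModule Y) W (toO W 1) := by
  have h := pullbackUnitIso_hom_pullS (f := f) W 1
  rw [map_one] at h
  rw [← h]
  exact congrArg (fun ψ : (Scheme.Modules.pullback f).obj (Coh.structureModule Y) ⟶
    (Scheme.Modules.pullback f).obj (Coh.structureModule Y) =>
      (Scheme.Modules.Hom.app ψ (f ⁻¹ᵁ W)).hom (pullS f (Coh.structureModule Y) W (toO W 1)))
    (pullbackUnitIso f).hom_inv_id

/-- the pullback of a global section. -/
noncomputable def pullSec (f : X ⟶ Y) {L : Y.Modules} (s : Coh.structureModule Y ⟶ L) :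
    Coh.structureModule X ⟶ (Scheme.Modules.pullback f).obj L :=
  (pullbackUnitIso f).inv ≫ (Scheme.Modules.pullback f).map s

theorem sec_pullSec {L : Y.Modules} (s : Coh.structureModule Y ⟶ L) (W : Y.Opens) :
    sec (pullSec f s) (f ⁻¹ᵁ W) = pullS f L W (sec s W) := by
  change (((Scheme.Modules.pullback f).map s).app (f ⁻¹ᵁ W)).hom
    (((pullbackUnitIso f).inv.app (f ⁻¹ᵁ W)).hom (toO (f ⁻¹ᵁ W) 1)) = _
  rw [pullbackUnitIso_inv_one, pullS_naturality]
  rfl

end pullS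


theorem isIso_homOfSection_of_isBasisOn {N : X.Modules} (e : Γ(N, ⊤)) (he : IsBasisOn N ⊤ e) :
    IsIso (homOfSection N e) := by
  rw [Scheme.Modules.Hom.isIso_iff_isIso_app]
  intro W
  rw [isIso_app_iff_bijective, sec_homOfSection]
  exact he W le_top

theorem isBasisOn_of_restrict (M : X.Modules) (U : X.Opens) (τ : Γ(M, U))
    (h : IsBasisOn (M.restrict U.ι) ⊤
      (show Γ(M.restrict U.ι, ⊤) from mres M (le_of_eq U.ι_image_top) τ)) :
    IsBasisOn M U τ := by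
  intro O hO
  obtain ⟨O', rfl⟩ : ∃ O' : (U : Scheme.{u}).Opens, U.ι ''ᵁ O' = O := by
    refine ⟨U.ι ⁻¹ᵁ O, ?_⟩
    rw [Scheme.Hom.image_preimage_eq_opensRange_inf, Scheme.Opens.opensRange_ι]
    exact inf_eq_right.mpr hO
  have h1 := h O' le_top
  have h2 : Function.Bijective (U.ι.appIso O').inv.hom :=
    ConcreteCategory.bijective_of_isIso (U.ι.appIso O').inv
  have e : (fun r : Γ((U : Scheme.{u}), O') =>
      r • mres (M.restrict U.ι) (le_top : O' ≤ ⊤)
        (show Γ(M.restrict U.ι, ⊤) from mres M (le_of_eq U.ι_image_top) τ)) =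
      (fun r' : Γ(X, U.ι ''ᵁ O') => r' • mres M hO τ) ∘ (U.ι.appIso O').inv.hom := by
    funext r
    have h3 : mres (M.restrict U.ι) (le_top : O' ≤ ⊤)
        (show Γ(M.restrict U.ι, ⊤) from mres M (le_of_eq U.ι_image_top) τ) =
        (show Γ(M.restrict U.ι, O') from mres M hO τ) :=
      mres_mres M (U.ι.image_mono (le_top : O' ≤ ⊤)) (le_of_eq U.ι_image_top) τ
    rw [h3]
    rfl
  rw [e] at h1
  exact (Function.Bijective.of_comp_iff _ h2).mp h1


/-- the pullback of a local basis is a local basis. -/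
theorem isBasisOn_pullS (L : Y.Modules) (e : Γ(L, V)) (he : IsBasisOn L V e) :
    IsBasisOn ((Scheme.Modules.pullback f).obj L) (f ⁻¹ᵁ V) (pullS f L V e) := by
  apply isBasisOn_of_restrict
  have hle : V.ι ''ᵁ ⊤ ≤ V := le_of_eq V.ι_image_top
  have hb : IsBasisOn (L.restrict V.ι) ⊤ (show Γ(L.restrict V.ι, ⊤) from mres L hle e) :=
    isBasisOn_restrict V ⊤ (mres L hle e) (he.mono hle)
  let s_e : Coh.structureModule (V : Scheme.{u}) ⟶ L.restrict V.ι :=
    homOfSection (L.restrict V.ι) (show Γ(L.restrict V.ι, ⊤) from mres L hle e)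
  have hs : IsIso s_e := isIso_homOfSection_of_isBasisOn _ hb
  let σ : Coh.structureModule ((f ⁻¹ᵁ V : X.Opens) : Scheme.{u}) ⟶
      ((Scheme.Modules.pullback f).obj L).restrict (f ⁻¹ᵁ V).ι :=
    pullSec (f ∣_ V) s_e ≫ (pullbackRestrictNatIso f V).hom.app L
  have hσ : IsIso σ := by
    have h1 : IsIso (pullSec (f ∣_ V) s_e) := by
      unfold pullSec
      infer_instance
    infer_instance
  have hT : (⊤ : ((f ⁻¹ᵁ V : X.Opens) : Scheme.{u}).Opens) ≤ (f ∣_ V) ⁻¹ᵁ (V.ι ⁻¹ᵁ V) := by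
    rw [Scheme.Opens.ι_preimage_self]
    exact le_of_eq rfl
  have key : sec σ ⊤ = (show Γ(((Scheme.Modules.pullback f).obj L).restrict (f ⁻¹ᵁ V).ι, ⊤) from
      mres ((Scheme.Modules.pullback f).obj L) (le_of_eq (f ⁻¹ᵁ V).ι_image_top)
        (pullS f L V e)) := by
    rw [← sec_mres σ hT]
    have h1 : sec σ ((f ∣_ V) ⁻¹ᵁ (V.ι ⁻¹ᵁ V)) =
        (((pullbackRestrictNatIso f V).hom.app L).app ((f ∣_ V) ⁻¹ᵁ (V.ι ⁻¹ᵁ V))).hom
          (sec (pullSec (f ∣_ V) s_e) ((f ∣_ V) ⁻¹ᵁ (V.ι ⁻¹ᵁ V))) := rfl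
    rw [h1, sec_pullSec, sec_homOfSection]
    have h2 : mres (L.restrict V.ι) (le_top : V.ι ⁻¹ᵁ V ≤ ⊤)
        (show Γ(L.restrict V.ι, ⊤) from mres L hle e) =
        (show Γ(L.restrict V.ι, V.ι ⁻¹ᵁ V) from mres L (V.ι.image_preimage_le V) e) :=
      mres_mres L (V.ι.image_mono (le_top : V.ι ⁻¹ᵁ V ≤ ⊤)) hle e
    rw [h2, pullbackRestrictNatIso_pullS]
    exact mres_mres ((Scheme.Modules.pullback f).obj L) ((f ⁻¹ᵁ V).ι.image_mono hT)
      (image_preimage_le' f V V) (pullS f L V e)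
  rw [← key]
  intro W hW
  rw [sec_mres]
  exact (isIso_app_iff_bijective σ W).mp inferInstance


theorem genLocus_iso_comp {L : X.Modules} (α : Coh.structureModule X ≅ Coh.structureModule X)
    (t : Coh.structureModule X ⟶ L) :
    CohB1.genLocus L (α.hom ≫ t) = CohB1.genLocus L t := by
  apply le_antisymm
  · rw [le_genLocus_iff]
    have h := (le_genLocus_iff L (α.hom ≫ t) _).mp le_rfl
    rw [Functor.map_comp, isIso_comp_left_iff] at h
    exact h
  · rw [le_genLocus_iff, Functor.map_comp, isIso_comp_left_iff]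
    exact (le_genLocus_iff L t _).mp le_rfl

/-- `X_{f^* s} = f⁻¹ (Y_s)`. -/
theorem genLocus_pullSec {L : Y.Modules} (hL : PicF.IsInvertible L)
    (s : Coh.structureModule Y ⟶ L) :
    CohB1.genLocus ((Scheme.Modules.pullback f).obj L) (pullSec f s) =
      f ⁻¹ᵁ CohB1.genLocus L s := by
  apply le_antisymm
  · intro x hx
    obtain ⟨V, hyV, e, he⟩ := exists_isBasisOn_of_isInvertible hL (f.base x)
    obtain ⟨a, ha⟩ := he.exists_eq_smul (sec s V)
    have hs : sec (pullSec f s) (f ⁻¹ᵁ V) = (f.app V).hom a • pullS f L V e := by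
      rw [sec_pullSec, ← ha, pullS_smul]
    have h1 := genLocus_inf_le_basicOpen (pullSec f s) (pullS f L V e) (isBasisOn_pullS f V L e he)
      ((f.app V).hom a) hs ⟨hx, hyV⟩
    have h2 : x ∈ f ⁻¹ᵁ Y.basicOpen a := by
      rw [Scheme.preimage_basicOpen]
      exact h1
    exact basicOpen_le_genLocus s e he a ha.symm h2
  · rw [le_genLocus_iff_isBasisOn, sec_pullSec]
    exact isBasisOn_pullS f _ L _ ((le_genLocus_iff_isBasisOn s _).mp le_rfl)

theorem genLocus_pullback_map {L : Y.Modules} (hL : PicF.IsInvertible L)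
    (s : Coh.structureModule Y ⟶ L)
    (e : Coh.structureModule X ≅ (Scheme.Modules.pullback f).obj (Coh.structureModule Y)) :
    CohB1.genLocus ((Scheme.Modules.pullback f).obj L) (e.hom ≫ (Scheme.Modules.pullback f).map s) =
      f ⁻¹ᵁ CohB1.genLocus L s := by
  have h : e.hom ≫ (Scheme.Modules.pullback f).map s =
      (e ≪≫ pullbackUnitIso f).hom ≫ pullSec f s := by
    simp [pullSec]
  rw [h, genLocus_iso_comp, genLocus_pullSec f hL]

end Groth.Agent.Lib.Helper11.PullbackBasis
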