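import Mathlib
import Groth.Agent.Lib.Helper11.GenLocus
import Groth.Agent.Lib.Helper45.IdealModSections
import Groth.Agent.Lib.Helper42.QCohAffineSections
import Groth.Agent.Lib.Helper49.QcqsModules
import Groth.Agent.Lib.Helper80.SubQCoh

/-! Helper library (helper11): an affineness criterion (EGA II 5.2.1/5.2.2 style).
`exists_section_of_locally` (lifting a section through a mono is local),
`exists_section_eq_one`, `not_mem_support_of_mem_basicOpen` (sections of ideal modules),
`sum_app_apply`, `isQuasicoherent_biproduct'`,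
`isAffineOpen_of_sections_surjective`: a quasi-compact open `U` such that every epimorphism of
quasi-coherent modules is surjective on sections over `U` is affine. -/

set_option autoImplicit false
universe u
open CategoryTheory CategoryTheory.Limits AlgebraicGeometry TopologicalSpace Opposite

namespace Groth.Agent.Lib.Helper11.AffineCrit
open Groth.Agent.Lib.Helper45 Groth.Agent.Lib.Helper49 Groth.Agent.Lib.Helper11.GenLocus

variable {X : Scheme.{u}}
attribute [local instance] Abelian.hasFiniteBiproducts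

/-- lifting a section through a monomorphism can be done locally. -/
theorem exists_section_of_locally {K B : X.Modules} (m : K ⟶ B) [Mono m] (U : X.Opens) (b : Γ(B, U))
    {ι : Type*} (A : ι → X.Opens) (hA : ∀ i, A i ≤ U) (hcov : U ≤ iSup A)
    (h : ∀ i, ∃ k : Γ(K, A i), m.app (A i) k = mres B (hA i) b) :
    ∃ k : Γ(K, U), m.app U k = b := by
  choose kk hkk using h
  obtain ⟨k, hk, -⟩ := TopCat.Sheaf.existsUnique_gluing' ⟨K.presheaf, K.isSheaf⟩ A U
    (fun i => homOfLE (hA i)) hcov kk (by
      intro i j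
      change mres K inf_le_left (kk i) = mres K inf_le_right (kk j)
      apply Groth.Agent.Lib.Helper45.app_injective_of_mono m (A i ⊓ A j)
      have h1 := (app_res m (inf_le_left : A i ⊓ A j ≤ A i) (kk i)).symm
      have h2 := (app_res m (inf_le_right : A i ⊓ A j ≤ A j) (kk j)).symm
      change m.app (A i ⊓ A j) (mres K inf_le_left (kk i)) = mres B inf_le_left (m.app (A i) (kk i)) at h1
      change m.app (A i ⊓ A j) (mres K inf_le_right (kk j)) = mres B inf_le_right (m.app (A j) (kk j)) at h2
      rw [h1, h2, hkk, hkk, mres_mres, mres_mres])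
  refine ⟨k, ?_⟩
  apply TopCat.Sheaf.eq_of_locally_eq' ⟨B.presheaf, B.isSheaf⟩ A U (fun i => homOfLE (hA i)) hcov
  intro i
  change mres B (hA i) (m.app U k) = mres B (hA i) b
  have h1 := (app_res m (hA i) k)
  change mres B (hA i) (m.app U k) = m.app (A i) (mres K (hA i) k) at h1
  have hki : mres K (hA i) k = kk i := hk i
  rw [h1, hki, hkk]

theorem exists_section_eq_one (I : X.IdealSheafData) (A : X.Opens) (hA : IsAffineOpen A)
    (hd : Disjoint (I.support : Set X) (A : Set X)) :
    ∃ s : Γ(ClSub.idealMod I, A), (ClSub.idealModι I).app A s = (1 : Γ(X, A)) := by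
  have hIU : I.ideal ⟨A, hA⟩ = ⊤ := by
    have h1 : hA.fromSpec '' PrimeSpectrum.zeroLocus (I.ideal ⟨A, hA⟩ : Set Γ(X, A)) = ∅ := by
      rw [hA.fromSpec_image_zeroLocus, ← Scheme.IdealSheafData.coe_support_inter I ⟨A, hA⟩]
      exact hd.inter_eq
    exact PrimeSpectrum.zeroLocus_empty_iff_eq_top.mp (Set.image_eq_empty.mp h1)
  exact (mem_ideal_iff_exists_section I ⟨A, hA⟩ 1).mp (hIU ▸ Submodule.mem_top)

theorem not_mem_support_of_mem_basicOpen (I : X.IdealSheafData) (U : X.Opens)
    (t : Γ(ClSub.idealMod I, U)) (z : X)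
    (hz : z ∈ X.basicOpen (show Γ(X, U) from (ClSub.idealModι I).app U t)) : z ∉ I.support := by
  intro hzs
  have hzU : z ∈ U := X.basicOpen_le _ hz
  obtain ⟨_, ⟨V, hV, rfl⟩, hzV, hVU⟩ :=
    X.isBasis_affineOpens.exists_subset_of_mem_open hzU U.isOpen
  have hVU' : V ≤ U := hVU
  rw [Scheme.IdealSheafData.mem_support_iff_of_mem (U := ⟨V, hV⟩) hzV] at hzs
  have hmem := idealModι_app_mem I ⟨V, hV⟩
    ((ClSub.idealMod I).presheaf.map (homOfLE hVU').op t)
  have hres := Groth.Agent.Lib.Helper11.GenLocus.app_res (ClSub.idealModι I) hVU' t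
  have hmem' : X.presheaf.map (homOfLE hVU').op
      (show Γ(X, U) from (ClSub.idealModι I).app U t) ∈ I.ideal ⟨V, hV⟩ :=
    hres ▸ hmem
  have := (X.mem_zeroLocus_iff _ z).mp hzs _ hmem'
  rw [Scheme.basicOpen_res] at this
  exact this ⟨hzV, hz⟩

theorem sum_app_apply {M N : X.Modules} {ι : Type*} (s : Finset ι) (ψ : ι → (M ⟶ N)) (U : X.Opens)
    (t : Γ(M, U)) : (∑ i ∈ s, ψ i).app U t = ∑ i ∈ s, (ψ i).app U t := by
  classical
  induction s using Finset.induction_on with
  | empty => simp
  | insert a s ha ih =>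
    rw [Finset.sum_insert ha, Finset.sum_insert ha, Scheme.Modules.Hom.add_app]
    change (ψ a).app U t + (∑ i ∈ s, ψ i).app U t = _
    rw [ih]

theorem isQuasicoherent_biproduct' {n : ℕ} (N : Fin n → X.Modules)
    (h : ∀ k, (N k).IsQuasicoherent) : (⨁ N).IsQuasicoherent := by
  have h1 := isQuasicoherent_finite_limit (Discrete.functor N) (fun j => h j.as)
  exact isQuasicoherent_of_iso (biproduct.isoProduct N).symm h1

theorem isAffineOpen_of_sections_surjective (U : X.Opens) (hUc : IsCompact (U : Set X))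
    (hsurj : ∀ (F F'' : X.Modules) (p : F ⟶ F''), F.IsQuasicoherent → F''.IsQuasicoherent → Epi p →
      Function.Surjective (p.app U)) : IsAffineOpen U := by
  classical
  obtain ⟨Us, hUs, hfin, hU⟩ := X.isBasis_affineOpens.exists_finite_of_isCompact hUc
  have : Finite Us := hfin
  obtain ⟨n, ⟨e⟩⟩ := Finite.exists_equiv_fin Us
  let A : Fin n → X.Opens := fun i => (e.symm i).1
  have hA : ∀ i, IsAffineOpen (A i) := fun i => hUs (e.symm i).2
  have hAU : ∀ i, A i ≤ U := fun i => hU ▸ le_sSup (e.symm i).2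
  have hcov : U ≤ iSup A := by
    rw [hU]
    refine sSup_le fun W hW => ?_
    have : W = A (e ⟨W, hW⟩) := by simp [A]
    rw [this]
    exact le_iSup A _
  let Z : Fin n → Closeds X := fun i => ⟨(A i : Set X)ᶜ, (A i).isOpen.isClosed_compl⟩
  let I : Fin n → X.IdealSheafData := fun i => Scheme.IdealSheafData.vanishingIdeal (Z i)
  have hsupp : ∀ i, ((I i).support : Set X) = (A i : Set X)ᶜ := fun i =>
    Scheme.IdealSheafData.coe_support_vanishingIdeal (Z i)
  let M : Fin n → X.Modules := fun i => ClSub.idealMod (I i)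
  let φ : ⨁ M ⟶ Coh.structureModule X := biproduct.desc fun i => ClSub.idealModι (I i)
  have hM : (⨁ M).IsQuasicoherent := isQuasicoherent_biproduct' M fun i => inferInstance
  have hK : (Abelian.image φ).IsQuasicoherent :=
    Groth.Agent.Lib.Helper80.SubQCoh.isQuasicoherent_of_epi_mono (Abelian.factorThruImage φ)
      (Abelian.image.ι φ) hM (isQuasicoherent_structureModule X)
  have hπm : Abelian.factorThruImage φ ≫ Abelian.image.ι φ = φ := Abelian.image.fac φ
  have hιφ : ∀ i, biproduct.ι M i ≫ φ = ClSub.idealModι (I i) := fun i => by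
    simp only [φ, biproduct.ι_desc]
  obtain ⟨k1, hk1⟩ : ∃ k : Γ(Abelian.image φ, U),
      (Abelian.image.ι φ).app U k = (1 : Γ(X, U)) := by
    refine exists_section_of_locally (Abelian.image.ι φ) U (1 : Γ(X, U)) A hAU hcov fun i => ?_
    obtain ⟨s, hs⟩ := exists_section_eq_one (I i) (A i) (hA i)
      (by rw [hsupp]; exact disjoint_compl_left)
    refine ⟨(Abelian.factorThruImage φ).app (A i) ((biproduct.ι M i).app (A i) s), ?_⟩
    have e1 : (Abelian.image.ι φ).app (A i) ((Abelian.factorThruImage φ).app (A i)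
        ((biproduct.ι M i).app (A i) s)) =
        (biproduct.ι M i ≫ Abelian.factorThruImage φ ≫ Abelian.image.ι φ).app (A i) s := rfl
    rw [e1, hπm, hιφ, hs]
    exact (map_one (fres (hAU i))).symm
  obtain ⟨t, ht⟩ := hsurj _ _ (Abelian.factorThruImage φ) hM hK inferInstance k1
  let g : Fin n → Γ(X, U) := fun i =>
    (ClSub.idealModι (I i)).app U ((biproduct.π M i).app U t)
  have hsum : ∑ i, g i = 1 := by
    have h1 : φ.app U t = (1 : Γ(X, U)) := by
      have e0 : φ.app U t = (Abelian.factorThruImage φ ≫ Abelian.image.ι φ).app U t := by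
        rw [hπm]
      have e1 : (Abelian.factorThruImage φ ≫ Abelian.image.ι φ).app U t =
          (Abelian.image.ι φ).app U ((Abelian.factorThruImage φ).app U t) := rfl
      rw [e0, e1, ht, hk1]
    have h2 : φ = ∑ i, biproduct.π M i ≫ ClSub.idealModι (I i) := biproduct.desc_eq
    rw [h2, sum_app_apply] at h1
    exact h1
  have hle : ∀ i, X.basicOpen (g i) ≤ A i := by
    intro i z hz
    have := not_mem_support_of_mem_basicOpen (I i) U ((biproduct.π M i).app U t) z hz
    rw [← SetLike.mem_coe, hsupp] at this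
    simpa using this
  refine isAffineOpen_of_isAffineOpen_basicOpen U (Set.range g) ?_ ?_
  · rw [Ideal.eq_top_iff_one, ← hsum]
    exact Ideal.sum_mem _ fun i _ => Ideal.subset_span ⟨i, rfl⟩
  · rintro _ ⟨i, rfl⟩
    have h1 := (hA i).basicOpen (X.presheaf.map (homOfLE (hAU i)).op (g i))
    rwa [Scheme.basicOpen_res, inf_eq_right.mpr (hle i)] at h1

end Groth.Agent.Lib.Helper11.AffineCrit
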