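import Mathlib
import Groth.Agent.Lib.Helper11.PullbackBasis

/-! Helper library (helper11): pullback and tensor products.
The comparison map `Delta f A B : f^* (A ⊗ B) ⟶ f^* A ⊗ f^* B` (adjoint to
`delta : A ⊗ B ⟶ f_* (f^* A ⊗ f^* B)`, `a ⊗ b ↦ f^* a ⊗ f^* b`), the formula `Delta_pullS_tm`;
a morphism sending local bases to local bases is an isomorphism (`isIso_of_basis_map`);
`Delta` is an isomorphism for invertible `A`, `B` (`isIso_Delta`, `pullbackTensorIso`);
`isInvertible_pullback`; `pullbackTensorPowIso : f^* (L^{⊗ n}) ≅ (f^* L)^{⊗ n}`. -/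

set_option autoImplicit false
universe u
open AlgebraicGeometry CategoryTheory Limits TopologicalSpace Opposite MonoidalCategory TensorProduct

namespace Groth.Agent.Lib.Helper11.PullbackTensor
open Groth.Agent.Lib.Helper11 Groth.Agent.Lib.Helper45 Groth.Agent.Lib.Helper49
  Groth.Agent.Lib.Helper45.RefHullBasic Groth.Agent.Lib.Helper11.GenLocus
  Groth.Agent.Lib.Helper11.IdealGen Groth.Agent.Lib.Helper11.MulHom
  Groth.Agent.Lib.Helper11.CounitEpi Groth.Agent.Lib.Helper11.PullbackBasis

variable {X Y : Scheme.{u}}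

theorem tm_add_right (M N : X.Modules) (W : X.Opens) (m : Γ(M, W)) (n n' : Γ(N, W)) :
    tm M N W m (n + n') = tm M N W m n + tm M N W m n' := by
  have h := ((SecTwist.toTensor M N).app (op W)).hom.map_add
    ((show (CohB1.toPMod M).obj (op W) from m) ⊗ₜ (show (CohB1.toPMod N).obj (op W) from n))
    ((show (CohB1.toPMod M).obj (op W) from m) ⊗ₜ (show (CohB1.toPMod N).obj (op W) from n'))
  have e : (show (CohB1.toPMod M).obj (op W) from m) ⊗ₜ[((X.sheaf.obj ⋙ forget₂ CommRingCat RingCat).obj (op W))]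
      ((show (CohB1.toPMod N).obj (op W) from n) + (show (CohB1.toPMod N).obj (op W) from n')) =
      (show (CohB1.toPMod M).obj (op W) from m) ⊗ₜ[((X.sheaf.obj ⋙ forget₂ CommRingCat RingCat).obj (op W))] (show (CohB1.toPMod N).obj (op W) from n) +
        (show (CohB1.toPMod M).obj (op W) from m) ⊗ₜ[((X.sheaf.obj ⋙ forget₂ CommRingCat RingCat).obj (op W))] (show (CohB1.toPMod N).obj (op W) from n') :=
    TensorProduct.tmul_add _ _ _
  exact (congrArg ((SecTwist.toTensor M N).app (op W)).hom e).trans h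

variable (f : X ⟶ Y) (A B : Y.Modules)

/-- the target of the comparison: `f^*A ⊗ f^*B`. -/
noncomputable abbrev T : X.Modules :=
  CohB1.tensorMod ((Scheme.Modules.pullback f).obj A) ((Scheme.Modules.pullback f).obj B)

/-- the bilinear map `(a, b) ↦ f^*a ⊗ f^*b`. -/
noncomputable def pairS (V : Y.Opens) (a : Γ(A, V)) (b : Γ(B, V)) : Γ(T f A B, f ⁻¹ᵁ V) :=
  tm _ _ (f ⁻¹ᵁ V) (pullS f A V a) (pullS f B V b)

theorem pullS_add (L : Y.Modules) (W : Y.Opens) (t t' : Γ(L, W)) :
    pullS f L W (t + t') = pullS f L W t + pullS f L W t' :=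
  map_add (((Scheme.Modules.pullbackPushforwardAdjunction f).unit.app L).app W).hom t t'

theorem pairS_add_left (V : Y.Opens) (a a' : Γ(A, V)) (b : Γ(B, V)) :
    pairS f A B V (a + a') b = pairS f A B V a b + pairS f A B V a' b := by
  unfold pairS
  rw [pullS_add, tm_add_left]

theorem pairS_add_right (V : Y.Opens) (a : Γ(A, V)) (b b' : Γ(B, V)) :
    pairS f A B V a (b + b') = pairS f A B V a b + pairS f A B V a b' := by
  unfold pairS
  rw [pullS_add, tm_add_right]

theorem pairS_smul_left (V : Y.Opens) (r : Γ(Y, V)) (a : Γ(A, V)) (b : Γ(B, V)) :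
    pairS f A B V (r • a) b = (f.app V).hom r • pairS f A B V a b := by
  unfold pairS
  rw [pullS_smul, tm_smul_left]

theorem pairS_smul_right (V : Y.Opens) (r : Γ(Y, V)) (a : Γ(A, V)) (b : Γ(B, V)) :
    pairS f A B V a (r • b) = (f.app V).hom r • pairS f A B V a b := by
  unfold pairS
  rw [pullS_smul, tm_smul_right]

theorem pairS_res {V V' : Y.Opens} (h : V' ≤ V) (a : Γ(A, V)) (b : Γ(B, V)) :
    mres (T f A B) (show f ⁻¹ᵁ V' ≤ f ⁻¹ᵁ V from fun _ hx => h hx) (pairS f A B V a b) =
      pairS f A B V' (mres A h a) (mres B h b) := by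
  unfold pairS
  rw [tm_res, pullS_res, pullS_res]

noncomputable def psiApp (V : (Opens Y)ᵒᵖ) :
    (CohB1.tensorPre A B : Y.PresheafOfModules).obj V ⟶
      ((Scheme.Modules.pushforward f).obj (T f A B)).val.obj V :=
  ModuleCat.MonoidalCategory.tensorLift
    (M₁ := (CohB1.toPMod A).obj V) (M₂ := (CohB1.toPMod B).obj V)
    (M₃ := ((Scheme.Modules.pushforward f).obj (T f A B)).val.obj V)
    (fun a b => pairS f A B V.unop a b)
    (fun a a' b => pairS_add_left f A B V.unop a a' b)
    (fun r a b => pairS_smul_left f A B V.unop r a b)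
    (fun a b b' => pairS_add_right f A B V.unop a b b')
    (fun r a b => pairS_smul_right f A B V.unop r a b)


theorem psiApp_tmul (V : (Opens Y)ᵒᵖ) (a : (CohB1.toPMod A).obj V) (b : (CohB1.toPMod B).obj V) :
    (psiApp f A B V).hom (a ⊗ₜ b) = pairS f A B V.unop a b := rfl

noncomputable def psi : (CohB1.tensorPre A B : Y.PresheafOfModules) ⟶
    ((Scheme.Modules.pushforward f).obj (T f A B)).val where
  app V := psiApp f A B V
  naturality {V V'} g := by
    refine ModuleCat.MonoidalCategory.tensor_ext (M₁ := (CohB1.toPMod A).obj V)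
      (M₂ := (CohB1.toPMod B).obj V) (fun a b => ?_)
    have hle : V'.unop ≤ V.unop := leOfHom g.unop
    have hg : g = (homOfLE hle).op := rfl
    have h := pairS_res f A B hle a b
    exact h.symm


/-- `A ⊗ B ⟶ f_* (f^* A ⊗ f^* B)`. -/
noncomputable def delta : CohB1.tensorMod A B ⟶ (Scheme.Modules.pushforward f).obj (T f A B) :=
  (CohB1.sheafifyMod Y).map (psi f A B) ≫
    (PresheafOfModules.sheafificationAdjunction.{u, u, u, u}
      (J := Opens.grothendieckTopology Y) (𝟙 Y.ringCatSheaf.obj)).counit.app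
        ((Scheme.Modules.pushforward f).obj (T f A B))

theorem delta_tm (V : Y.Opens) (a : Γ(A, V)) (b : Γ(B, V)) :
    ((delta f A B).app V).hom (tm A B V a b) = pairS f A B V a b := by
  let adj := PresheafOfModules.sheafificationAdjunction.{u, u, u, u}
    (J := Opens.grothendieckTopology Y) (𝟙 Y.ringCatSheaf.obj)
  let Q : Y.PresheafOfModules := CohB1.tensorPre A B
  let P := (Scheme.Modules.pushforward f).obj (T f A B)
  let x : ↥((CohB1.tensorPre A B).obj (op V)) :=
    (show (CohB1.toPMod A).obj (op V) from a) ⊗ₜ (show (CohB1.toPMod B).obj (op V) from b)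
  have natU : ((adj.unit.app P.val).app (op V)).hom (((psi f A B).app (op V)).hom x) =
      ((((CohB1.sheafifyMod Y).map (psi f A B)).val.app (op V)).hom
        (((adj.unit.app Q).app (op V)).hom x)) :=
    congrArg (fun φ => (PresheafOfModules.Hom.app φ (op V)).hom x) (adj.unit.naturality (psi f A B))
  have triU : (((adj.counit.app P).val.app (op V)).hom
      (((adj.unit.app P.val).app (op V)).hom (((psi f A B).app (op V)).hom x))) =
        ((psi f A B).app (op V)).hom x :=
    congrArg (fun φ => (PresheafOfModules.Hom.app φ (op V)).hom (((psi f A B).app (op V)).hom x))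
      (adj.right_triangle_components P)
  change ((((CohB1.sheafifyMod Y).map (psi f A B) ≫ adj.counit.app P).val.app (op V)).hom
      (((adj.unit.app Q).app (op V)).hom x)) = ((psi f A B).app (op V)).hom x
  rw [← triU, natU]
  rfl

/-- the comparison map `f^* (A ⊗ B) ⟶ f^* A ⊗ f^* B`. -/
noncomputable def Delta : (Scheme.Modules.pullback f).obj (CohB1.tensorMod A B) ⟶ T f A B :=
  ((Scheme.Modules.pullbackPushforwardAdjunction f).homEquiv _ _).symm (delta f A B)

theorem Delta_pullS (V : Y.Opens) (s : Γ(CohB1.tensorMod A B, V)) :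
    ((Delta f A B).app (f ⁻¹ᵁ V)).hom (pullS f _ V s) = ((delta f A B).app V).hom s := by
  have h : (Scheme.Modules.pullbackPushforwardAdjunction f).unit.app _ ≫
      (Scheme.Modules.pushforward f).map (Delta f A B) = delta f A B := by
    have h1 := (Scheme.Modules.pullbackPushforwardAdjunction f).homEquiv_unit
      (f := Delta f A B)
    rw [← h1]
    exact Equiv.apply_symm_apply _ _
  exact congrArg (fun φ => (Scheme.Modules.Hom.app φ V).hom s) h

theorem Delta_pullS_tm (V : Y.Opens) (a : Γ(A, V)) (b : Γ(B, V)) :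
    ((Delta f A B).app (f ⁻¹ᵁ V)).hom (pullS f _ V (tm A B V a b)) =
      tm _ _ (f ⁻¹ᵁ V) (pullS f A V a) (pullS f B V b) := by
  rw [Delta_pullS, delta_tm]
  rfl


/-- a morphism sending a local basis to a local basis around every point is an isomorphism. -/
theorem isIso_of_basis_map {M N : X.Modules} (φ : M ⟶ N)
    (h : ∀ x : X, ∃ U : X.Opens, x ∈ U ∧ ∃ m : Γ(M, U), IsBasisOn M U m ∧
      IsBasisOn N U ((φ.app U).hom m)) : IsIso φ := by
  have hst : ∀ x : X, StalkIso φ x := by
    intro x
    obtain ⟨U, hxU, m, hm, hn⟩ := h x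
    have h1 : IsIso ((Scheme.Modules.restrictFunctor U.ι).map φ) := by
      rw [isIso_restrict_iff]
      intro W hW
      rw [GenLocus.isIso_iff_bijective]
      have hb1 := hm W hW
      have hb2 := hn W hW
      have e : (fun r : Γ(X, W) => r • mres N hW ((φ.app U).hom m)) =
          (φ.app W).hom ∘ (fun r : Γ(X, W) => r • mres M hW m) := by
        funext r
        simp only [Function.comp_apply]
        rw [Scheme.Modules.Hom.app_smul]
        congr 1
        exact app_res φ hW m
      rw [e] at hb2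
      exact (Function.Bijective.of_comp_iff _ hb1).mp hb2
    exact stalkIso_of_isIso_restrict φ U x hxU
  rw [Scheme.Modules.Hom.isIso_iff_isIso_app]
  intro W
  exact app_isIso_of_stalkIso φ W (fun x _ => hst x)

theorem isIso_Delta (hA : PicF.IsInvertible A) (hB : PicF.IsInvertible B) :
    IsIso (Delta f A B) := by
  apply isIso_of_basis_map
  intro x
  obtain ⟨V₁, hx₁, a, ha⟩ := exists_isBasisOn_of_isInvertible hA (f.base x)
  obtain ⟨V₂, hx₂, b, hb⟩ := exists_isBasisOn_of_isInvertible hB (f.base x)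
  have ha' := ha.mono (inf_le_left : V₁ ⊓ V₂ ≤ V₁)
  have hb' := hb.mono (inf_le_right : V₁ ⊓ V₂ ≤ V₂)
  refine ⟨f ⁻¹ᵁ (V₁ ⊓ V₂), ⟨hx₁, hx₂⟩, pullS f _ (V₁ ⊓ V₂) (tm A B _ (mres A inf_le_left a) (mres B inf_le_right b)), ?_, ?_⟩
  · exact isBasisOn_pullS f _ _ _ (isBasisOn_tm ha' hb')
  · rw [Delta_pullS_tm]
    exact isBasisOn_tm (isBasisOn_pullS f _ _ _ ha') (isBasisOn_pullS f _ _ _ hb')

/-- `f^* (A ⊗ B) ≅ f^* A ⊗ f^* B` for invertible `A`, `B`. -/
noncomputable def pullbackTensorIso (hA : PicF.IsInvertible A) (hB : PicF.IsInvertible B) :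
    (Scheme.Modules.pullback f).obj (CohB1.tensorMod A B) ≅
      CohB1.tensorMod ((Scheme.Modules.pullback f).obj A) ((Scheme.Modules.pullback f).obj B) :=
  @asIso _ _ _ _ (Delta f A B) (isIso_Delta f A B hA hB)

theorem isInvertible_pullback {L : Y.Modules} (hL : PicF.IsInvertible L) :
    PicF.IsInvertible ((Scheme.Modules.pullback f).obj L) := by
  apply isInvertible_of_forall_exists_isBasisOn
  intro x
  obtain ⟨V, hxV, t, ht⟩ := exists_isBasisOn_of_isInvertible hL (f.base x)
  exact ⟨f ⁻¹ᵁ V, hxV, _, isBasisOn_pullS f V L t ht⟩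

/-- `f^* (L^{⊗ n}) ≅ (f^* L)^{⊗ n}` for invertible `L`. -/
noncomputable def pullbackTensorPowIso {L : Y.Modules} (hL : PicF.IsInvertible L) :
    ∀ n : ℕ, (Scheme.Modules.pullback f).obj (CohB1.tensorPow L n) ≅
      CohB1.tensorPow ((Scheme.Modules.pullback f).obj L) n
  | 0 => pullbackUnitIso f
  | n + 1 => pullbackTensorIso f (CohB1.tensorPow L n) L (isInvertible_tensorPow hL n) hL ≪≫
      tensorModCongr (pullbackTensorPowIso hL n) (Iso.refl _)

end Groth.Agent.Lib.Helper11.PullbackTensor
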