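import Mathlib
import Groth.Agent.Lib.Helper11.PullbackTensor
import Groth.Agent.Lib.Helper11.QuasiAffine

/-! Helper library (helper11): pullbacks of ample modules.
`pullPowSec`, `genLocus_pullPowSec`; the pullback of an ample module along a quasi-compact
topological embedding (`isAmple_pullback_of_isEmbedding`) or a quasi-affine morphism
(`isAmple_pullback_of_isQuasiAffine`) is ample; relative versions
`relAmple_pullback_of_isQuasiAffine`, `relAmple_pullback_of_isEmbedding` (EGA II 4.6.13, 5.1.12). -/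

set_option autoImplicit false
universe u
open AlgebraicGeometry CategoryTheory Limits TopologicalSpace Opposite

namespace Groth.Agent.Lib.Helper11.PullbackAmple
open Groth.Agent.Lib.Helper11 Groth.Agent.Lib.Helper45 Groth.Agent.Lib.Helper49
  Groth.Agent.Lib.Helper45.RefHullBasic Groth.Agent.Lib.Helper11.GenLocus
  Groth.Agent.Lib.Helper11.IdealGen Groth.Agent.Lib.Helper11.MulHom
  Groth.Agent.Lib.Helper11.CounitEpi Groth.Agent.Lib.Helper11.PullbackBasis
  Groth.Agent.Lib.Helper11.PullbackTensor Groth.Agent.Lib.Helper11.CounitEpi2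

variable {X X' : Scheme.{u}}

/-- the pullback of a section of a tensor power, as a section of the tensor power of the
pullback. -/
noncomputable def pullPowSec (g : X' ⟶ X) {L : X.Modules} (hL : PicF.IsInvertible L) (n : ℕ)
    (s : Coh.structureModule X ⟶ CohB1.tensorPow L n) :
    Coh.structureModule X' ⟶ CohB1.tensorPow ((Scheme.Modules.pullback g).obj L) n :=
  pullSec g s ≫ (pullbackTensorPowIso g hL n).hom

theorem genLocus_pullPowSec (g : X' ⟶ X) {L : X.Modules} (hL : PicF.IsInvertible L) (n : ℕ)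
    (s : Coh.structureModule X ⟶ CohB1.tensorPow L n) :
    CohB1.genLocus _ (pullPowSec g hL n s) = g ⁻¹ᵁ CohB1.genLocus _ s :=
  (genLocus_comp_iso _ (pullbackTensorPowIso g hL n)).trans
    (genLocus_pullSec g (isInvertible_tensorPow hL n) s)

/-- the pullback of an ample module along a quasi-compact topological embedding is ample. -/
theorem isAmple_pullback_of_isEmbedding (j : X' ⟶ X) [QuasiCompact j]
    (hj : Topology.IsEmbedding j.base) {L : X.Modules} (hL : CohB1.IsAmple L) :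
    CohB1.IsAmple ((Scheme.Modules.pullback j).obj L) := by
  have hc : CompactSpace X := hL.2.1
  have hc' : CompactSpace X' := QuasiCompact.compactSpace_of_compactSpace j
  have hinv := isInvertible_pullback j hL.1
  rw [isAmple_iff_isBasis _ hinv, Opens.isBasis_iff_nbhd]
  intro O' x' hx'
  obtain ⟨O, hO, hOO'⟩ := hj.isInducing.isOpen_iff.mp O'.2
  have hB := (isAmple_iff_isBasis L hL.1).mp hL
  rw [Opens.isBasis_iff_nbhd] at hB
  have hxO : j.base x' ∈ (⟨O, hO⟩ : X.Opens) := by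
    have : x' ∈ j.base ⁻¹' O := by rw [hOO']; exact hx'
    exact this
  obtain ⟨_, ⟨n, s, rfl⟩, hxG, hGO⟩ := hB hxO
  refine ⟨_, ⟨n, pullPowSec j hL.1 (n + 1) s, rfl⟩, ?_, ?_⟩
  · rw [genLocus_pullPowSec]
    exact hxG
  · rw [genLocus_pullPowSec]
    intro y hy
    have h1 : j.base y ∈ O := hGO hy
    have h2 : y ∈ j.base ⁻¹' O := h1
    rw [hOO'] at h2
    exact h2


theorem exists_genLocus_eq_basicOpen_of_eq {W : Scheme.{u}} [CompactSpace W]
    [QuasiSeparatedSpace W] (M : W.Modules) (hM : PicF.IsInvertible M) (k : ℕ)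
    (s : Coh.structureModule W ⟶ CohB1.tensorPow M (k + 1)) (G : W.Opens)
    (hG : CohB1.genLocus _ s = G) (h : Γ(W, G)) :
    ∃ (N : ℕ) (σ : Coh.structureModule W ⟶ CohB1.tensorPow M (N + 1)),
      CohB1.genLocus _ σ = W.basicOpen h := by
  subst hG
  exact exists_genLocus_eq_basicOpen_of_section M hM k s h

/-- the pullback of an ample module along a quasi-affine morphism is ample. -/
theorem isAmple_pullback_of_isQuasiAffine (g : X' ⟶ X) (hg : Mor2.IsQuasiAffine g)
    {L : X.Modules} (hL : CohB1.IsAmple L) :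
    CohB1.IsAmple ((Scheme.Modules.pullback g).obj L) := by
  have hqc : QuasiCompact g := hg.1
  have hc : CompactSpace X := hL.2.1
  have hc' : CompactSpace X' := QuasiCompact.compactSpace_of_compactSpace g
  have hqs : QuasiSeparatedSpace X := quasiSeparatedSpace_of_isAmple hL
  have hsep : IsSeparated g := (separated_and_epi_counit_of_isQuasiAffine g hg).1
  have hqs' : QuasiSeparatedSpace X' := quasiSeparatedSpace_of_quasiSeparated g
  have hinv := isInvertible_pullback g hL.1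
  rw [isAmple_iff_isBasis _ hinv, Opens.isBasis_iff_nbhd]
  intro O' x' hx'
  obtain ⟨n, s, hxs, haff⟩ := hL.2.2 (g.base x')
  have hG' := genLocus_pullPowSec g hL.1 (n + 1) s
  have hQ : Scheme.IsQuasiAffine ((g ⁻¹ᵁ CohB1.genLocus _ s : X'.Opens) : Scheme.{u}) :=
    hg.2 _ haff
  have hx'Q : x' ∈ g ⁻¹ᵁ CohB1.genLocus _ s := hxs
  obtain ⟨r, -, hE, hrO⟩ := exists_basicOpen_of_finite
    (X := ((g ⁻¹ᵁ CohB1.genLocus _ s : X'.Opens) : Scheme.{u}))
    ((g ⁻¹ᵁ CohB1.genLocus _ s).ι ⁻¹ᵁ O') {⟨x', hx'Q⟩} (Set.finite_singleton _)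
    (by rintro _ rfl; exact hx')
  obtain ⟨N, σ, hσ⟩ := exists_genLocus_eq_basicOpen_of_eq _ hinv n (pullPowSec g hL.1 (n + 1) s)
    _ hG' (X'.presheaf.map (eqToHom (g ⁻¹ᵁ CohB1.genLocus _ s).ι_image_top.symm).op r)
  rw [← Scheme.Opens.ι_image_basicOpen'] at hσ
  refine ⟨_, ⟨N, σ, rfl⟩, ?_, ?_⟩
  · rw [hσ]
    exact ⟨⟨x', hx'Q⟩, hE rfl, rfl⟩
  · rw [hσ]
    rintro _ ⟨y, hy, rfl⟩
    exact hrO hy


variable {Y : Scheme.{u}}

theorem relAmple_pullback_of_isQuasiAffine (f : X ⟶ Y) [QuasiCompact f] (g : X' ⟶ X)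
    (hg : Mor2.IsQuasiAffine g) (L : X.Modules) (hL : RelAmple.IsRelAmple f L) :
    RelAmple.IsRelAmple (g ≫ f) ((Scheme.Modules.pullback g).obj L) := by
  have := hg.1
  refine ⟨inferInstance, fun V => ?_⟩
  have hA := hL.2 V
  have hg' := isQuasiAffineHom_morphismRestrict g hg (f ⁻¹ᵁ V.1)
  have h1 := isAmple_pullback_of_isQuasiAffine (g ∣_ (f ⁻¹ᵁ V.1)) hg' hA
  exact isAmple_of_iso ((pullbackRestrictNatIso g (f ⁻¹ᵁ V.1)).app L) h1

theorem relAmple_pullback_of_isEmbedding (f : X ⟶ Y) [QuasiCompact f] (j : X' ⟶ X)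
    [QuasiCompact j] (hj : Topology.IsEmbedding j.base) (L : X.Modules)
    (hL : RelAmple.IsRelAmple f L) :
    RelAmple.IsRelAmple (j ≫ f) ((Scheme.Modules.pullback j).obj L) := by
  refine ⟨inferInstance, fun V => ?_⟩
  have hA := hL.2 V
  have hj' : Topology.IsEmbedding (j ∣_ (f ⁻¹ᵁ V.1)).base := by
    rw [morphismRestrict_base]
    exact hj.restrictPreimage _
  have h1 := isAmple_pullback_of_isEmbedding (j ∣_ (f ⁻¹ᵁ V.1)) hj' hA
  exact isAmple_of_iso ((pullbackRestrictNatIso j (f ⁻¹ᵁ V.1)).app L) h1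

end Groth.Agent.Lib.Helper11.PullbackAmple
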