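import Mathlib
import Groth.Agent.Lib.Helper11.PullbackAmple
import Groth.Prelude.Def_MoreMor

/-! Helper library (helper11): more on pullbacks of ample modules:
`isAmple_pullback_of_isEmbedding'` (embedding from a quasi-compact scheme),
`isQuasiAffine_of_isAffineHom`, `quasiSeparatedSpace_of_hasAmpleFamily`,
`hasAmpleFamily_of_isQuasiAffine`. -/

set_option autoImplicit false
universe u
open AlgebraicGeometry CategoryTheory Limits TopologicalSpace Opposite

namespace Groth.Agent.Lib.Helper11.PullbackAmple2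
open Groth.Agent.Lib.Helper11 Groth.Agent.Lib.Helper45 Groth.Agent.Lib.Helper49
  Groth.Agent.Lib.Helper45.RefHullBasic Groth.Agent.Lib.Helper11.GenLocus
  Groth.Agent.Lib.Helper11.IdealGen Groth.Agent.Lib.Helper11.MulHom
  Groth.Agent.Lib.Helper11.CounitEpi Groth.Agent.Lib.Helper11.PullbackBasis
  Groth.Agent.Lib.Helper11.PullbackTensor Groth.Agent.Lib.Helper11.CounitEpi2
  Groth.Agent.Lib.Helper11.PullbackAmple

variable {X X' : Scheme.{u}}

/-- the pullback of an ample module along a topological embedding from a quasi-compact scheme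
is ample. -/
theorem isAmple_pullback_of_isEmbedding' (j : X' ⟶ X) [CompactSpace X']
    (hj : Topology.IsEmbedding j.base) {L : X.Modules} (hL : CohB1.IsAmple L) :
    CohB1.IsAmple ((Scheme.Modules.pullback j).obj L) := by
  have hc : CompactSpace X := hL.2.1
  have hinv := isInvertible_pullback j hL.1
  rw [isAmple_iff_isBasis _ hinv, Opens.isBasis_iff_nbhd]
  intro O' x' hx'
  obtain ⟨O, hO, hOO'⟩ := hj.isInducing.isOpen_iff.mp O'.2
  have hB := (isAmple_iff_isBasis L hL.1).mp hL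
  rw [Opens.isBasis_iff_nbhd] at hB
  have hxO : j.base x' ∈ (⟨O, hO⟩ : X.Opens) := by
    have : x' ∈ j.base ⁻¹' O := by rw [hOO']; exact hx'
    exact this
  obtain ⟨_, ⟨n, s, rfl⟩, hxG, hGO⟩ := hB hxO
  refine ⟨_, ⟨n, pullPowSec j hL.1 (n + 1) s, rfl⟩, ?_, ?_⟩
  · rw [genLocus_pullPowSec]
    exact hxG
  · rw [genLocus_pullPowSec]
    intro y hy
    have h1 : j.base y ∈ O := hGO hy
    have h2 : y ∈ j.base ⁻¹' O := h1
    rw [hOO'] at h2
    exact h2

theorem isQuasiAffine_of_isAffineHom (g : X' ⟶ X) [IsAffineHom g] : Mor2.IsQuasiAffine g := by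
  refine ⟨inferInstance, fun V hV => ?_⟩
  have : IsAffine ((g ⁻¹ᵁ V : X'.Opens) : Scheme.{u}) := hV.preimage g
  infer_instance


theorem quasiSeparatedSpace_of_hasAmpleFamily {Y : Scheme.{u}} (hY : MoreMor.HasAmpleFamily Y) :
    QuasiSeparatedSpace Y := by
  obtain ⟨hc, h⟩ := hY
  choose L n s hinv hn hx ha using h
  refine QuasiSeparatedSpace.of_isOpenCover (U := fun y => CohB1.genLocus _ (s y))
    (eq_top_iff.mpr fun y _ => Opens.mem_iSup.mpr ⟨y, hx y⟩) (fun y => ?_)
    (fun y => (ha y).isQuasiSeparated)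
  have := isAffineHom_genLocus_ι (isInvertible_tensorPow (hinv y) (n y)) (s y)
  exact IsRetrocompact_iff_isSpectralMap_subtypeVal.mpr (CohB1.genLocus _ (s y)).ι.isSpectralMap

theorem hasAmpleFamily_of_isQuasiAffine {Y : Scheme.{u}} (f : X ⟶ Y) (hf : Mor2.IsQuasiAffine f)
    (hY : MoreMor.HasAmpleFamily Y) : MoreMor.HasAmpleFamily X := by
  have hqc : QuasiCompact f := hf.1
  have hcY : CompactSpace Y := hY.1
  have hcX : CompactSpace X := QuasiCompact.compactSpace_of_compactSpace f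
  have hqsY : QuasiSeparatedSpace Y := quasiSeparatedSpace_of_hasAmpleFamily hY
  have hsep : IsSeparated f := (separated_and_epi_counit_of_isQuasiAffine f hf).1
  have hqsX : QuasiSeparatedSpace X := quasiSeparatedSpace_of_quasiSeparated f
  refine ⟨hcX, fun x => ?_⟩
  obtain ⟨L, n, s, hinv, hn, hxs, haff⟩ := hY.2 (f.base x)
  obtain ⟨k, rfl⟩ : ∃ k, n = k + 1 := ⟨n - 1, by omega⟩
  have hinv' := isInvertible_pullback f hinv
  have hG' := genLocus_pullPowSec f hinv (k + 1) s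
  have hQ : Scheme.IsQuasiAffine ((f ⁻¹ᵁ CohB1.genLocus _ s : X.Opens) : Scheme.{u}) :=
    hf.2 _ haff
  have hxQ : x ∈ f ⁻¹ᵁ CohB1.genLocus _ s := hxs
  obtain ⟨r, hr, hE, -⟩ := exists_basicOpen_of_finite
    (X := ((f ⁻¹ᵁ CohB1.genLocus _ s : X.Opens) : Scheme.{u})) ⊤ {⟨x, hxQ⟩}
    (Set.finite_singleton _) (fun _ _ => trivial)
  obtain ⟨N, σ, hσ⟩ := exists_genLocus_eq_basicOpen_of_eq _ hinv' k (pullPowSec f hinv (k + 1) s)
    _ hG' (X.presheaf.map (eqToHom (f ⁻¹ᵁ CohB1.genLocus _ s).ι_image_top.symm).op r)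
  rw [← Scheme.Opens.ι_image_basicOpen'] at hσ
  refine ⟨(Scheme.Modules.pullback f).obj L, N + 1, σ, hinv', by omega, ?_, ?_⟩
  · rw [hσ]
    exact ⟨⟨x, hxQ⟩, hE rfl, rfl⟩
  · rw [hσ]
    exact hr.image_of_isOpenImmersion _

end Groth.Agent.Lib.Helper11.PullbackAmple2
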