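import Mathlib
import Groth.Agent.Lib.Helper11.PullbackAmple2

/-! Helper library (helper11): base change of relatively ample modules.
`isAffineOpen_pullback_inf` (fibre product of affine opens is an affine open of the fibre
product), `pullbackSquareIso` (pullback vs restriction along a commutative square with open
immersions), `relAmple_baseChange` (EGA II 4.6.13 (iii)). -/

set_option autoImplicit false
universe u
open AlgebraicGeometry CategoryTheory Limits TopologicalSpace Opposite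

namespace Groth.Agent.Lib.Helper11.RelAmpleBaseChange
open Groth.Agent.Lib.Helper11 Groth.Agent.Lib.Helper45 Groth.Agent.Lib.Helper49
  Groth.Agent.Lib.Helper45.RefHullBasic Groth.Agent.Lib.Helper11.GenLocus
  Groth.Agent.Lib.Helper11.IdealGen Groth.Agent.Lib.Helper11.MulHom
  Groth.Agent.Lib.Helper11.CounitEpi Groth.Agent.Lib.Helper11.PullbackBasis
  Groth.Agent.Lib.Helper11.PullbackTensor Groth.Agent.Lib.Helper11.CounitEpi2
  Groth.Agent.Lib.Helper11.PullbackAmple Groth.Agent.Lib.Helper11.PullbackAmple2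

theorem isAffineOpen_pullback_inf {X Y Z : Scheme.{u}} {f : X ⟶ Z} {g : Y ⟶ Z}
    {U : X.Opens} (hU : IsAffineOpen U) {V : Y.Opens} (hV : IsAffineOpen V)
    {W : Z.Opens} (hW : IsAffineOpen W) (hUW : U ≤ f ⁻¹ᵁ W) (hVW : V ≤ g ⁻¹ᵁ W) :
    IsAffineOpen (pullback.fst f g ⁻¹ᵁ U ⊓ pullback.snd f g ⁻¹ᵁ V) := by
  have : IsAffine U.toScheme := hU
  have : IsAffine W.toScheme := hW
  have : IsAffine V.toScheme := hV
  let f' : U.toScheme ⟶ W := f.resLE _ _ hUW
  let q : V.toScheme ⟶ W := g.resLE _ _ hVW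
  let p : pullback f' q ⟶ pullback f g :=
    pullback.map _ _ _ _ U.ι V.ι W.ι (by simp [f']) (by simp [q])
  have h : p.opensRange = pullback.fst f g ⁻¹ᵁ U ⊓ pullback.snd f g ⁻¹ᵁ V := by
    ext1
    simp [p, Scheme.Pullback.range_map]
  rw [← h]
  exact isAffineOpen_opensRange p

/-- pullback along a commutative square whose vertical maps are open immersions. -/
noncomputable def pullbackSquareIso {X X' U' W : Scheme.{u}} (j' : U' ⟶ X') [IsOpenImmersion j']
    (j : W ⟶ X) [IsOpenImmersion j] (q : U' ⟶ W) (p : X' ⟶ X) (h : j' ≫ p = q ≫ j)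
    (L : X.Modules) :
    ((Scheme.Modules.pullback p).obj L).restrict j' ≅
      (Scheme.Modules.pullback q).obj (L.restrict j) :=
  (Scheme.Modules.restrictFunctorIsoPullback j').app _ ≪≫
    (Scheme.Modules.pullbackComp j' p).app L ≪≫
    (Scheme.Modules.pullbackCongr h).app L ≪≫
    ((Scheme.Modules.pullbackComp q j).app L).symm ≪≫
    (Scheme.Modules.pullback q).mapIso
      ((Scheme.Modules.restrictFunctorIsoPullback j).app L).symm


theorem isAmple_restrict_pullback_of_affine {X Y Y' : Scheme.{u}} (f : X ⟶ Y) [QuasiCompact f]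
    (g : Y' ⟶ Y) (L : X.Modules) (hL : RelAmple.IsRelAmple f L)
    (V : Y.Opens) (hV : IsAffineOpen V) (V' : Y'.Opens) (hV' : IsAffineOpen V')
    (hle : V' ≤ g ⁻¹ᵁ V) :
    CohB1.IsAmple (((Scheme.Modules.pullback (pullback.fst f g)).obj L).restrict
      (pullback.snd f g ⁻¹ᵁ V').ι) := by
  have hU'W : pullback.snd f g ⁻¹ᵁ V' ≤ pullback.fst f g ⁻¹ᵁ (f ⁻¹ᵁ V) := by
    intro x hx
    have h1 : (pullback.snd f g ≫ g).base x ∈ V := hle hx
    rw [← pullback.condition] at h1
    exact h1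
  let q : ((pullback.snd f g ⁻¹ᵁ V' : (pullback f g).Opens) : Scheme.{u}) ⟶
      ((f ⁻¹ᵁ V : X.Opens) : Scheme.{u}) := (pullback.fst f g).resLE _ _ hU'W
  have hq : IsAffineHom q := by
    refine ⟨fun A hA => ?_⟩
    rw [← Scheme.Hom.isAffineOpen_iff_of_isOpenImmersion (pullback.snd f g ⁻¹ᵁ V').ι,
      Scheme.Hom.resLE_preimage, Scheme.Hom.image_preimage_eq_opensRange_inf,
      Scheme.Opens.opensRange_ι, inf_comm]
    refine isAffineOpen_pullback_inf (hA.image_of_isOpenImmersion (f ⁻¹ᵁ V).ι) hV' hV ?_ hle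
    exact (f ⁻¹ᵁ V).ι_image_le A
  have h1 := isAmple_pullback_of_isQuasiAffine q (isQuasiAffine_of_isAffineHom q)
    (hL.2 ⟨V, hV⟩)
  exact isAmple_of_iso (pullbackSquareIso (pullback.snd f g ⁻¹ᵁ V').ι (f ⁻¹ᵁ V).ι q
    (pullback.fst f g) ((pullback.fst f g).resLE_comp_ι hU'W).symm L).symm h1


/-- relative ampleness is stable under base change (EGA II 4.6.13 (iii)). -/
theorem relAmple_baseChange {X Y Y' : Scheme.{u}} (f : X ⟶ Y) [QuasiCompact f] (g : Y' ⟶ Y)
    (L : X.Modules) (hL : RelAmple.IsRelAmple f L) :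
    RelAmple.IsRelAmple (pullback.snd f g)
      ((Scheme.Modules.pullback (pullback.fst f g)).obj L) := by
  refine ⟨inferInstance, fun V' => ?_⟩
  have hc := QuasiCompact.isCompact_preimage (f := pullback.snd f g) _ V'.1.2 V'.2.isCompact
  refine isAmple_restrict_preimage_of_basicOpen_cover (pullback.snd f g) _ V'.1 hc
    (ι := {h : Γ(Y', V'.1) // ∃ V : Y.Opens, IsAffineOpen V ∧ Y'.basicOpen h ≤ g ⁻¹ᵁ V})
    (fun h => h.1) ?_ ?_
  · intro y' hy'
    obtain ⟨_, ⟨V, hV, rfl⟩, hyV, -⟩ :=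
      Y.isBasis_affineOpens.exists_subset_of_mem_open (Set.mem_univ (g.base y')) isOpen_univ
    obtain ⟨h, hh, hyh⟩ := V'.2.exists_basicOpen_le (V := g ⁻¹ᵁ V) ⟨y', hyV⟩ hy'
    exact ⟨⟨h, V, hV, hh⟩, hyh⟩
  · rintro ⟨h, V, hV, hh⟩
    exact isAmple_restrict_pullback_of_affine f g L hL V hV _ (V'.2.basicOpen h) hh

end Groth.Agent.Lib.Helper11.RelAmpleBaseChange
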