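import Mathlib
import Groth.Agent.Lib.Helper11.RelAmpleBaseChange
import Groth.Agent.Lib.Helper11.AmpleTensorGG
import Groth.Agent.Lib.Helper11.AmpleSeparated
import Groth.Agent.S4380
import Groth.Agent.S4381

/-! Helper library (helper11): composition of relatively ample modules (EGA II 4.6.13 (ii)).
`isBasisOn_of_tm_right`, `exists_genLocus_eq_of_twist` (a section `σ` of an invertible `F` over
`X_s`: `σ ⊗ s^e` extends to a global section of `F ⊗ N₀^{e+1}` whose locus is the locus of `σ`),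
`isInvertible_of_isRelAmple`, `exists_isAmple_tensor_pow_pullback`,
`eventually_isGloballyGenerated_tensorPow`, `eventually_isAmple_tensor_pullback_pow`,
`relAmple_morphismRestrict`, `relAmple_comp_tensor_pullback_pow`. -/

set_option autoImplicit false
universe u
open AlgebraicGeometry CategoryTheory Limits TopologicalSpace Opposite

namespace Groth.Agent.Lib.Helper11.RelAmpleComp
open Groth.Agent.Lib.Helper11 Groth.Agent.Lib.Helper45 Groth.Agent.Lib.Helper49
  Groth.Agent.Lib.Helper45.RefHullBasic Groth.Agent.Lib.Helper11.GenLocus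
  Groth.Agent.Lib.Helper11.IdealGen Groth.Agent.Lib.Helper11.MulHom
  Groth.Agent.Lib.Helper11.CounitEpi Groth.Agent.Lib.Helper11.PullbackBasis
  Groth.Agent.Lib.Helper11.PullbackTensor Groth.Agent.Lib.Helper11.CounitEpi2
  Groth.Agent.Lib.Helper11.PullbackAmple Groth.Agent.Lib.Helper11.PullbackAmple2

variable {W : Scheme.{u}}

theorem isBasisOn_of_tm_right {M N : W.Modules} {V : W.Opens} {m : Γ(M, V)} {β : Γ(N, V)}
    (hβ : IsBasisOn N V β) (h : IsBasisOn (CohB1.tensorMod M N) V (tm M N V m β)) :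
    IsBasisOn M V m := by
  intro V' hV'
  have h1 := h V' hV'
  have h2 := tm_basis_bijective M N V β hβ V' hV'
  have e : (fun r : Γ(W, V') => r • mres (CohB1.tensorMod M N) hV' (tm M N V m β)) =
      (fun m' : Γ(M, V') => tm M N V' m' (mres N hV' β)) ∘
        (fun r : Γ(W, V') => r • mres M hV' m) := by
    funext r
    simp only [Function.comp_apply]
    rw [tm_res, tm_smul_left]
  rw [e] at h1
  exact (Function.Bijective.of_comp_iff' h2 _).mp h1

theorem exists_genLocus_eq_of_twist [CompactSpace W] [QuasiSeparatedSpace W]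
    {F N₀ : W.Modules} (hF : PicF.IsInvertible F) (hN : PicF.IsInvertible N₀)
    (s : Coh.structureModule W ⟶ N₀) (σ : Γ(F, CohB1.genLocus N₀ s))
    (G : W.Opens) (hGU : G ≤ CohB1.genLocus N₀ s) (h1 : IsBasisOn F G (mres F hGU σ))
    (h2 : ∀ (V : W.Opens) (hV : V ≤ CohB1.genLocus N₀ s), IsBasisOn F V (mres F hV σ) → V ≤ G) :
    ∃ e₀ : ℕ, ∀ e, e₀ ≤ e →
      ∃ t : Coh.structureModule W ⟶ CohB1.tensorMod F (CohB1.tensorPow N₀ (e + 1)),
        CohB1.genLocus _ t = G := by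
  have := isQuasicoherent_of_isInvertible hF
  obtain ⟨N₁, hN₁⟩ := exists_twist_extends_ge W N₀ hN s F σ
  refine ⟨N₁, fun e he => ?_⟩
  obtain ⟨t', ht'⟩ := hN₁ e he
  have hbasis : IsBasisOn N₀ (CohB1.genLocus N₀ s) (sec s (CohB1.genLocus N₀ s)) :=
    (le_genLocus_iff_isBasisOn s _).mp le_rfl
  have hβ := isBasisOn_powSec hbasis e
  have hM₀ : PicF.IsInvertible (CohB1.tensorMod F (CohB1.tensorPow N₀ e)) :=
    isInvertible_tensorMod hF (isInvertible_tensorPow hN e)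
  have hσ₀ : sec (homOfSection _ t') (CohB1.genLocus N₀ s) =
      tm F (CohB1.tensorPow N₀ e) (CohB1.genLocus N₀ s) σ
        (powSec _ _ (sec s (CohB1.genLocus N₀ s)) e) := by
    rw [sec_homOfSection, ht', toΓ_twist_eq_loc s F e _ (sec s (CohB1.genLocus N₀ s)) 1
      (one_smul _ _).symm, one_pow, one_smul, loc]
  have key : CohB1.genLocus _ (homOfSection _ t') ⊓ CohB1.genLocus N₀ s = G := by
    apply le_antisymm
    · apply h2 _ inf_le_right
      have hb := (le_genLocus_iff_isBasisOn (homOfSection _ t') _).mp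
        (inf_le_left : CohB1.genLocus _ (homOfSection _ t') ⊓ CohB1.genLocus N₀ s ≤ _)
      rw [← sec_mres _ (inf_le_right : CohB1.genLocus _ (homOfSection _ t') ⊓
        CohB1.genLocus N₀ s ≤ CohB1.genLocus N₀ s), hσ₀,
        tm_res] at hb
      exact isBasisOn_of_tm_right (hβ.mono inf_le_right) hb
    · refine le_inf ?_ hGU
      rw [le_genLocus_iff_isBasisOn, ← sec_mres _ hGU, hσ₀, tm_res]
      exact isBasisOn_tm h1 (hβ.mono hGU)
  have h3 := genLocus_tmulHom W _ _ hM₀ hN (homOfSection _ t') s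
  refine ⟨SecTwist.tmulHom (homOfSection _ t') s ≫
    (tensorModAssoc F (CohB1.tensorPow N₀ e) N₀).hom, ?_⟩
  rw [genLocus_comp_iso, h3, key]


theorem exists_genLocus_eq_of_twist' [CompactSpace W] [QuasiSeparatedSpace W]
    {F N₀ : W.Modules} (hF : PicF.IsInvertible F) (hN : PicF.IsInvertible N₀)
    (s : Coh.structureModule W ⟶ N₀) (U : W.Opens) (hU : CohB1.genLocus N₀ s = U)
    (σ : Γ(F, U)) (G : W.Opens) (hGU : G ≤ U) (h1 : IsBasisOn F G (mres F hGU σ))
    (h2 : ∀ (V : W.Opens) (hV : V ≤ U), IsBasisOn F V (mres F hV σ) → V ≤ G) :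
    ∃ e₀ : ℕ, ∀ e, e₀ ≤ e →
      ∃ t : Coh.structureModule W ⟶ CohB1.tensorMod F (CohB1.tensorPow N₀ (e + 1)),
        CohB1.genLocus _ t = G := by
  subst hU
  exact exists_genLocus_eq_of_twist hF hN s σ G hGU h1 h2

noncomputable def tensorPowCongr (L : W.Modules) {a b : ℕ} (h : a = b) :
    CohB1.tensorPow L a ≅ CohB1.tensorPow L b := eqToIso (by rw [h])

variable {X Y : Scheme.{u}}

/-- local data at a point for the composition theorem. -/
theorem exists_local_twist_data (f : X ⟶ Y) [QuasiCompact f] (L : X.Modules) (K : Y.Modules)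
    (hL : RelAmple.IsRelAmple f L) (hK : CohB1.IsAmple K) [CompactSpace X]
    [QuasiSeparatedSpace X] (hLinv : PicF.IsInvertible L) (x : X) :
    ∃ (m k : ℕ) (G : X.Opens) (e₀ : ℕ), x ∈ G ∧ IsAffineOpen G ∧ ∀ e, e₀ ≤ e →
      ∃ t : Coh.structureModule X ⟶ CohB1.tensorMod (CohB1.tensorPow L (k + 1))
        (CohB1.tensorPow (CohB1.tensorPow ((Scheme.Modules.pullback f).obj K) (m + 1)) (e + 1)),
        CohB1.genLocus _ t = G := by
  obtain ⟨m, s, hys, haff⟩ := hK.2.2 (f.base x)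
  have hG' := genLocus_pullPowSec f hK.1 (m + 1) s
  have hamp := hL.2 ⟨_, haff⟩
  obtain ⟨k, G, hGU, σ, hxG, hGaff, h1, h2⟩ :=
    exists_local_gen_data L (f ⁻¹ᵁ CohB1.genLocus _ s) hamp x hys
  obtain ⟨e₀, he₀⟩ := exists_genLocus_eq_of_twist' (isInvertible_tensorPow hLinv (k + 1))
    (isInvertible_tensorPow (isInvertible_pullback f hK.1) (m + 1))
    (pullPowSec f hK.1 (m + 1) s) _ hG' σ G hGU h1 h2
  exact ⟨m, k, G, e₀, hxG, hGaff, he₀⟩


theorem isInvertible_of_isRelAmple (f : X ⟶ Y) (L : X.Modules) (hL : RelAmple.IsRelAmple f L) :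
    PicF.IsInvertible L := by
  apply isInvertible_of_forall_exists_isBasisOn
  intro x
  obtain ⟨_, ⟨V, hV, rfl⟩, hxV, -⟩ :=
    Y.isBasis_affineOpens.exists_subset_of_mem_open (Set.mem_univ (f.base x)) isOpen_univ
  have hx' : x ∈ f ⁻¹ᵁ V := hxV
  obtain ⟨V', hxV', τ, hτ⟩ := exists_isBasisOn_of_isInvertible (hL.2 ⟨V, hV⟩).1 ⟨x, hx'⟩
  exact ⟨(f ⁻¹ᵁ V).ι ''ᵁ V', ⟨⟨x, hx'⟩, hxV', rfl⟩, ofRes _ V' τ,
    isBasisOn_of_restrict _ V' _ hτ⟩

open Groth.Agent.Lib.Helper11.AmpleSeparated in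
theorem exists_isAmple_tensor_pow_pullback (f : X ⟶ Y) [QuasiCompact f] (L : X.Modules)
    (K : Y.Modules) (hL : RelAmple.IsRelAmple f L) (hK : CohB1.IsAmple K) :
    ∃ c : ℕ, 0 < c ∧ CohB1.IsAmple
      (CohB1.tensorMod L (CohB1.tensorPow ((Scheme.Modules.pullback f).obj K) c)) := by
  classical
  have hcY : CompactSpace Y := hK.2.1
  have hcX : CompactSpace X := QuasiCompact.compactSpace_of_compactSpace f
  have hqsY : QuasiSeparatedSpace Y := quasiSeparatedSpace_of_isAmple hK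
  have hsep : IsSeparated f := isSeparated_of_isRelAmple f L hL
  have hqsX : QuasiSeparatedSpace X := quasiSeparatedSpace_of_quasiSeparated f
  have hLinv := isInvertible_of_isRelAmple f L hL
  have hK' := isInvertible_pullback f hK.1
  choose m k G e₀ hxG hGaff ht using exists_local_twist_data f L K hL hK hLinv
  obtain ⟨S, hS⟩ := isCompact_univ.elim_finite_subcover (fun x => ((G x : X.Opens) : Set X))
    (fun x => (G x).isOpen) (fun x _ => Set.mem_iUnion.mpr ⟨x, hxG x⟩)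
  have hR : 0 < ∏ x ∈ S, (m x + 1) := Finset.prod_pos fun x _ => Nat.succ_pos _
  refine ⟨(∏ x ∈ S, (m x + 1)) * (S.sup e₀ + 1), Nat.mul_pos hR (Nat.succ_pos _), ?_⟩
  refine ⟨isInvertible_tensorMod hLinv (isInvertible_tensorPow hK' _), hcX, fun x₀ => ?_⟩
  obtain ⟨i, hi, hxi⟩ := Set.mem_iUnion₂.mp (hS (Set.mem_univ x₀))
  obtain ⟨r, hr⟩ := Finset.dvd_prod_of_mem (fun x => m x + 1) hi
  have hr0 : 0 < r := by
    rcases Nat.eq_zero_or_pos r with h0 | h0
    · rw [h0, Nat.mul_zero] at hr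
      omega
    · exact h0
  obtain ⟨e, he⟩ : ∃ e, r * (S.sup e₀ + 1) * (k i + 1) = e + 1 :=
    Nat.exists_eq_succ_of_ne_zero (by positivity)
  have hle : e₀ i ≤ e := by
    have h1 : e₀ i ≤ S.sup e₀ := Finset.le_sup hi
    have h2 : S.sup e₀ + 1 ≤ r * (S.sup e₀ + 1) * (k i + 1) := by
      calc S.sup e₀ + 1 = 1 * (S.sup e₀ + 1) * 1 := by ring
        _ ≤ r * (S.sup e₀ + 1) * (k i + 1) :=
          Nat.mul_le_mul (Nat.mul_le_mul hr0 le_rfl) (Nat.succ_pos _)
    omega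
  obtain ⟨t, hGt⟩ := ht i e hle
  have heq : (m i + 1) * (e + 1) = (∏ x ∈ S, (m x + 1)) * (S.sup e₀ + 1) * (k i + 1) := by
    rw [← he, hr]
    ring
  let iso := tensorModCongr (Iso.refl (CohB1.tensorPow L (k i + 1)))
      (tensorPowMul ((Scheme.Modules.pullback f).obj K) (m i + 1) (e + 1) ≪≫
        tensorPowCongr ((Scheme.Modules.pullback f).obj K) heq ≪≫
        (tensorPowMul ((Scheme.Modules.pullback f).obj K)
          ((∏ x ∈ S, (m x + 1)) * (S.sup e₀ + 1)) (k i + 1)).symm) ≪≫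
    tensorPowTensor L (CohB1.tensorPow ((Scheme.Modules.pullback f).obj K)
      ((∏ x ∈ S, (m x + 1)) * (S.sup e₀ + 1))) (k i + 1)
  refine ⟨k i, t ≫ iso.hom, ?_, ?_⟩
  · rw [genLocus_comp_iso, hGt]
    exact hxi
  · rw [genLocus_comp_iso, hGt]
    exact hGaff i


theorem eventually_isGloballyGenerated_tensorPow {K : Y.Modules} (hK : CohB1.IsAmple K) :
    ∃ a₁ : ℕ, ∀ a, a₁ ≤ a → Curv2.IsGloballyGenerated (CohB1.tensorPow K a) := by
  have hcY : CompactSpace Y := hK.2.1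
  have hq : (Coh.structureModule Y).IsQuasicoherent :=
    isQuasicoherent_of_isInvertible (isInvertible_structureModule Y)
  obtain ⟨n₀, h⟩ := eventually_genOn_top Y K hK (Coh.structureModule Y)
    ⟨hq, isFiniteType_structureModule Y⟩
  exact ⟨n₀, fun a ha => isGloballyGenerated_of_genOn_top ((h a ha).of_iso (unitTensorIso _))⟩

/-- EGA II 4.6.13 (ii), absolute form. -/
theorem eventually_isAmple_tensor_pullback_pow (f : X ⟶ Y) [QuasiCompact f] (L : X.Modules)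
    (K : Y.Modules) (hL : RelAmple.IsRelAmple f L) (hK : CohB1.IsAmple K) :
    ∃ n₀ : ℕ, 0 < n₀ ∧ ∀ n, n₀ ≤ n → CohB1.IsAmple
      (CohB1.tensorMod L ((Scheme.Modules.pullback f).obj (CohB1.tensorPow K n))) := by
  have hcY : CompactSpace Y := hK.2.1
  have hcX : CompactSpace X := QuasiCompact.compactSpace_of_compactSpace f
  obtain ⟨c, hc, hAc⟩ := exists_isAmple_tensor_pow_pullback f L K hL hK
  obtain ⟨a₁, ha₁⟩ := eventually_isGloballyGenerated_tensorPow hK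
  refine ⟨c + a₁, by omega, fun n hn => ?_⟩
  obtain ⟨a, rfl⟩ : ∃ a, n = c + a := ⟨n - c, by omega⟩
  have haa : a₁ ≤ a := by omega
  have hBinv : PicF.IsInvertible ((Scheme.Modules.pullback f).obj (CohB1.tensorPow K a)) :=
    isInvertible_pullback f (isInvertible_tensorPow hK.1 a)
  have hBgg := isGloballyGenerated_pullback f _ (ha₁ a haa)
  have h1 := Groth.Agent.Lib.Helper11.AmpleTensorGG.isAmple_tensorMod_of_isGloballyGenerated
    hAc hBinv hBgg
  refine isAmple_of_iso ?_ h1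
  exact tensorModAssoc _ _ _ ≪≫ tensorModCongr (Iso.refl L)
    (tensorModCongr (pullbackTensorPowIso f hK.1 c).symm (Iso.refl _) ≪≫
      (pullbackTensorIso f _ _ (isInvertible_tensorPow hK.1 c)
        (isInvertible_tensorPow hK.1 a)).symm ≪≫
      (Scheme.Modules.pullback f).mapIso (tensorPowAdd K c a).symm)


theorem relAmple_morphismRestrict (f : X ⟶ Y) [QuasiCompact f] (L : X.Modules)
    (h : RelAmple.IsRelAmple f L) (U : Y.Opens) :
    RelAmple.IsRelAmple (f ∣_ U) (L.restrict (f ⁻¹ᵁ U).ι) := by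
  refine ⟨inferInstance, fun V' => ?_⟩
  have haff : IsAffineOpen (U.ι ''ᵁ V'.1) := V'.2.image_of_isOpenImmersion _
  have h1 := h.2 ⟨_, haff⟩
  refine (isAmple_restrict_restrict_iff ((f ∣_ U) ⁻¹ᵁ V'.1).ι (f ⁻¹ᵁ U).ι
    (f ⁻¹ᵁ (U.ι ''ᵁ V'.1)).ι ?_ L).mpr h1
  rw [range_ι_comp_ι, image_morphismRestrict_preimage, Scheme.Opens.range_ι]

/-- EGA II 4.6.13 (ii). -/
theorem relAmple_comp_tensor_pullback_pow {Z : Scheme.{u}} [CompactSpace Z] (f : X ⟶ Y)
    (g : Y ⟶ Z) [QuasiCompact f] [QuasiCompact g] (L : X.Modules) (K : Y.Modules)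
    (hL : RelAmple.IsRelAmple f L) (hK : RelAmple.IsRelAmple g K) :
    ∃ n₀ : ℕ, 0 < n₀ ∧ ∀ n, n₀ ≤ n → RelAmple.IsRelAmple (f ≫ g)
      (CohB1.tensorMod L ((Scheme.Modules.pullback f).obj (CohB1.tensorPow K n))) := by
  classical
  have hV : ∀ z : Z, ∃ V : Z.Opens, IsAffineOpen V ∧ z ∈ V := by
    intro z
    obtain ⟨_, ⟨V, hV, rfl⟩, hzV, -⟩ :=
      Z.isBasis_affineOpens.exists_subset_of_mem_open (Set.mem_univ z) isOpen_univ
    exact ⟨V, hV, hzV⟩
  choose V hVa hzV using hV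
  have hcore : ∀ z : Z, ∃ n₁ : ℕ, 0 < n₁ ∧ ∀ n, n₁ ≤ n → CohB1.IsAmple
      (CohB1.tensorMod (L.restrict (f ⁻¹ᵁ (g ⁻¹ᵁ V z)).ι)
        ((Scheme.Modules.pullback (f ∣_ (g ⁻¹ᵁ V z))).obj
          (CohB1.tensorPow (K.restrict (g ⁻¹ᵁ V z).ι) n))) := fun z =>
    eventually_isAmple_tensor_pullback_pow (f ∣_ (g ⁻¹ᵁ V z)) _ _
      (relAmple_morphismRestrict f L hL (g ⁻¹ᵁ V z)) (hK.2 ⟨V z, hVa z⟩)
  choose n₁ hn₁pos hn₁ using hcore
  obtain ⟨S, hS⟩ := isCompact_univ.elim_finite_subcover (fun z => ((V z : Z.Opens) : Set Z))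
    (fun z => (V z).isOpen) (fun z _ => Set.mem_iUnion.mpr ⟨z, hzV z⟩)
  refine ⟨S.sup n₁ + 1, Nat.succ_pos _, fun n hn => ?_⟩
  have hU : ⨆ i : {z // z ∈ S}, V i.1 = ⊤ := by
    rw [eq_top_iff]
    intro z _
    obtain ⟨i, hi, hzi⟩ := Set.mem_iUnion₂.mp (hS (Set.mem_univ z))
    exact Opens.mem_iSup.mpr ⟨⟨i, hi⟩, hzi⟩
  rw [Groth.Agent.S4380.main_S4380 (f ≫ g) _ (fun i : {z // z ∈ S} => V i.1) hU]
  rintro ⟨z, hz⟩
  have : IsAffine ((V z : Z.Opens) : Scheme.{u}) := hVa z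
  rw [Groth.Agent.S4381.main_S4381]
  have hle : n₁ z ≤ n := (Finset.le_sup hz).trans ((Nat.le_succ _).trans hn)
  refine isAmple_of_iso ?_ (hn₁ z n hle)
  exact tensorModCongr (Iso.refl _)
      ((Scheme.Modules.pullback (f ∣_ (g ⁻¹ᵁ V z))).mapIso
          (restrictTensorPowIso (g ⁻¹ᵁ V z).ι K n) ≪≫
        (pullbackRestrictNatIso f (g ⁻¹ᵁ V z)).app (CohB1.tensorPow K n)) ≪≫
    restrictTensorIso (f ⁻¹ᵁ (g ⁻¹ᵁ V z)).ι L
      ((Scheme.Modules.pullback f).obj (CohB1.tensorPow K n))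

end Groth.Agent.Lib.Helper11.RelAmpleComp
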