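import Mathlib
import Groth.Agent.Lib.Helper11.RelAmpleComp
import Groth.Agent.Lib.Helper11.AffineCrit

set_option autoImplicit false
/-!
# Functoriality of `CohB1.tensorMod` (helper11)

`tensorModMap φ ψ`, its action on pure tensors (`tensorModMap_tm`), tensoring with an invertible module
preserves monomorphisms (`mono_tensorModMap`), gluing two sections (`exists_glue_two`),
`exists_section_eq_one'` (the ideal module is the unit ideal away from the support).
-/

namespace Groth.Agent.Lib.Helper11.TensorMap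
open CategoryTheory CategoryTheory.Limits AlgebraicGeometry TopologicalSpace Opposite MonoidalCategory
open Groth.Agent.Lib.Helper45 Groth.Agent.Lib.Helper49 Groth.Agent.Lib.Helper11.GenLocus

universe u
variable {X : Scheme.{u}}

/-- the presheaf-level tensor of two morphisms. -/
noncomputable def tensorPreMap {M M' N N' : X.Modules} (φ : M ⟶ M') (ψ : N ⟶ N') :
    (show X.PresheafOfModules from CohB1.tensorPre M N) ⟶
      (show X.PresheafOfModules from CohB1.tensorPre M' N') :=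
  let a : CohB1.toPMod M ⟶ CohB1.toPMod M' := (SheafOfModules.forget _).map φ
  let b : CohB1.toPMod N ⟶ CohB1.toPMod N' := (SheafOfModules.forget _).map ψ
  (MonoidalCategoryStruct.tensorHom (C := CohB1.PMod X) a b : CohB1.tensorPre M N ⟶ CohB1.tensorPre M' N')

/-- functoriality of `tensorMod`. -/
noncomputable def tensorModMap {M M' N N' : X.Modules} (φ : M ⟶ M') (ψ : N ⟶ N') :
    CohB1.tensorMod M N ⟶ CohB1.tensorMod M' N' :=
  (CohB1.sheafifyMod X).map (tensorPreMap φ ψ)

theorem tensorPreMap_pt {M M' N N' : X.Modules} (φ : M ⟶ M') (ψ : N ⟶ N') (W : X.Opens)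
    (m : Γ(M, W)) (n : Γ(N, W)) :
    ((tensorPreMap φ ψ).app (op W)).hom (pt M N W m n) = pt M' N' W (φ.app W m) (ψ.app W n) := rfl

theorem tensorModMap_tm {M M' N N' : X.Modules} (φ : M ⟶ M') (ψ : N ⟶ N') (W : X.Opens)
    (m : Γ(M, W)) (n : Γ(N, W)) :
    (tensorModMap φ ψ).app W (tm M N W m n) = tm M' N' W (φ.app W m) (ψ.app W n) := by
  have hnat := (PresheafOfModules.sheafificationAdjunction (𝟙 X.ringCatSheaf.obj)).unit.naturality
    (tensorPreMap φ ψ)
  have h2 := congrArg (fun f => (f.app (op W)).hom (pt M N W m n)) hnat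
  exact h2.symm

theorem tensorModMap_tm_id {M M' N : X.Modules} (φ : M ⟶ M') (W : X.Opens)
    (m : Γ(M, W)) (n : Γ(N, W)) :
    (tensorModMap φ (𝟙 N)).app W (tm M N W m n) = tm M' N W (φ.app W m) n :=
  tensorModMap_tm φ (𝟙 N) W m n

theorem app_mres {F G : X.Modules} (u : F ⟶ G) {O O' : X.Opens} (h : O' ≤ O) (s : Γ(F, O)) :
    u.app O' (mres F h s) = mres G h (u.app O s) := (app_res u h s).symm

/-- tensoring with an invertible module preserves monomorphisms. -/
theorem mono_tensorModMap {A B N : X.Modules} (φ : A ⟶ B) [Mono φ] (hN : PicF.IsInvertible N) :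
    Mono (tensorModMap φ (𝟙 N)) := by
  apply Groth.Agent.Lib.Helper49.mono_of_app_injective
  intro U y y' hyy
  apply TopCat.Presheaf.section_ext ⟨(CohB1.tensorMod A N).presheaf, (CohB1.tensorMod A N).isSheaf⟩
  intro x hx
  obtain ⟨W, hxW, t, ht⟩ := exists_isBasisOn_of_isInvertible hN x
  have hVU : U ⊓ W ≤ U := inf_le_left
  have hVW : U ⊓ W ≤ W := inf_le_right
  obtain ⟨a, ha⟩ := tm_basis_surjective A N W t ht (U ⊓ W) hVW (mres _ hVU y)
  obtain ⟨a', ha'⟩ := tm_basis_surjective A N W t ht (U ⊓ W) hVW (mres _ hVU y')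
  have h1 : (tensorModMap φ (𝟙 N)).app (U ⊓ W) (mres _ hVU y) =
      (tensorModMap φ (𝟙 N)).app (U ⊓ W) (mres _ hVU y') := by
    rw [app_mres, app_mres]
    exact congrArg _ hyy
  rw [← ha, ← ha', tensorModMap_tm, tensorModMap_tm] at h1
  have h2 : φ.app (U ⊓ W) a = φ.app (U ⊓ W) a' :=
    tm_basis_injective B N W t ht (U ⊓ W) hVW _ _ h1
  have h3 : a = a' := Groth.Agent.Lib.Helper45.app_injective_of_mono φ _ h2
  have h4 : mres _ hVU y = mres _ hVU y' := by rw [← ha, ← ha', h3]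
  have h5 := congrArg ((CohB1.tensorMod A N).presheaf.germ (U ⊓ W) x ⟨hx, hxW⟩) h4
  rw [mres_apply, mres_apply, TopCat.Presheaf.germ_res_apply,
    TopCat.Presheaf.germ_res_apply] at h5
  exact h5

/-- glue two sections over a two-element open cover. -/
theorem exists_glue_two (M : X.Modules) (V1 V2 : X.Opens) (hcov : V1 ⊔ V2 = ⊤)
    (s1 : Γ(M, V1)) (s2 : Γ(M, V2))
    (h : mres M (inf_le_left : V1 ⊓ V2 ≤ V1) s1 = mres M (inf_le_right : V1 ⊓ V2 ≤ V2) s2) :
    ∃ s : Γ(M, ⊤), mres M (le_top : V1 ≤ ⊤) s = s1 ∧ mres M (le_top : V2 ≤ ⊤) s = s2 := by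
  let U : Bool → X.Opens := fun b => Bool.rec V2 V1 b
  let sf : ∀ b : Bool, Γ(M, U b) := fun b => Bool.rec (motive := fun b => Γ(M, U b)) s2 s1 b
  have hcompat : TopCat.Presheaf.IsCompatible M.presheaf U sf := by
    rintro (_ | _) (_ | _)
    · rfl
    · change mres M (inf_le_left : V2 ⊓ V1 ≤ V2) s2 = mres M (inf_le_right : V2 ⊓ V1 ≤ V1) s1
      have hle : V2 ⊓ V1 ≤ V1 ⊓ V2 := le_of_eq (inf_comm _ _)
      have := congrArg (mres M hle) h
      rw [mres_mres, mres_mres] at this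
      exact this.symm
    · exact h
    · rfl
  obtain ⟨(e : Γ(M, ⊤)), he, -⟩ := TopCat.Sheaf.existsUnique_gluing'
    ⟨M.presheaf, M.isSheaf⟩ U ⊤ (fun b => homOfLE le_top) (by
      rw [← hcov]
      exact sup_le (le_iSup U true) (le_iSup U false)) sf hcompat
  exact ⟨e, he true, he false⟩

open Groth.Agent.Lib.Helper11.AffineCrit

theorem exists_section_eq_one' (I : X.IdealSheafData) (V : X.Opens)
    (hd : Disjoint (I.support : Set X) (V : Set X)) :
    ∃ s : Γ(ClSub.idealMod I, V), (ClSub.idealModι I).app V s = toO V 1 := by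
  have hloc : ∀ v : V, ∃ (A : X.Opens), IsAffineOpen A ∧ A ≤ V ∧ v.1 ∈ A := by
    intro v
    obtain ⟨_, ⟨A, hA, rfl⟩, hvA, hAV⟩ :=
      X.isBasis_affineOpens.exists_subset_of_mem_open v.2 V.2
    exact ⟨A, hA, hAV, hvA⟩
  choose A hA hAV hvA using hloc
  apply exists_section_of_locally (ClSub.idealModι I) V (toO V 1) A hAV
    (fun v hv => Opens.mem_iSup.mpr ⟨⟨v, hv⟩, hvA ⟨v, hv⟩⟩)
  intro v
  obtain ⟨s, hs⟩ := exists_section_eq_one I (A v) (hA v)
    (hd.mono_right (show ((A v : X.Opens) : Set X) ⊆ V from hAV v))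
  refine ⟨s, hs.trans ?_⟩
  rw [mres_apply]
  exact ((toO_res (hAV v) 1).trans (by rw [map_one]; rfl)).symm

end Groth.Agent.Lib.Helper11.TensorMap
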