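import Mathlib
import Groth.Prelude.Def_CohB1
import Groth.Agent.Lib.Helper30.ModTensor

/-!
# `tilde (M ⊗ N) ≅ tilde M ⊗ tilde N` on `Spec A` (helper11)

The multiplication map `psi : M~ ⊗ N~ ⟶ (M ⊗ N)~` of presheaves of modules (sectionwise
`s ⊗ t ↦ (x ↦ s x ⊗ t x)`), and the proof that it is locally bijective.
-/

set_option autoImplicit false
universe u
open AlgebraicGeometry CategoryTheory Limits TopologicalSpace TensorProduct

namespace Groth.Agent.Lib.Helper11.TildeTensor

section mulLoc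
variable {A : Type u} [CommRing A] (S : Submonoid A) (M N : Type u) [AddCommGroup M] [Module A M]
  [AddCommGroup N] [Module A N]

/-- The canonical equivalence `M_S ⊗ N_S ≃ (M ⊗ N)_S`. -/
noncomputable def locTensorEquiv :
    (LocalizedModule S M ⊗[A] LocalizedModule S N) ≃ₗ[A] LocalizedModule S (M ⊗[A] N) :=
  IsLocalizedModule.linearEquiv S
    (TensorProduct.map (LocalizedModule.mkLinearMap S M) (LocalizedModule.mkLinearMap S N))
    (LocalizedModule.mkLinearMap S (M ⊗[A] N))

variable {M N}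

noncomputable def mulLoc (a : LocalizedModule S M) (b : LocalizedModule S N) :
    LocalizedModule S (M ⊗[A] N) :=
  locTensorEquiv S M N (a ⊗ₜ[A] b)

theorem mulLoc_add_left (a a' : LocalizedModule S M) (b : LocalizedModule S N) :
    mulLoc S (a + a') b = mulLoc S a b + mulLoc S a' b := by
  simp [mulLoc, TensorProduct.add_tmul]

theorem mulLoc_add_right (a : LocalizedModule S M) (b b' : LocalizedModule S N) :
    mulLoc S a (b + b') = mulLoc S a b + mulLoc S a b' := by
  simp [mulLoc, TensorProduct.tmul_add]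

theorem mulLoc_smul_left (r : A) (a : LocalizedModule S M) (b : LocalizedModule S N) :
    mulLoc S (r • a) b = r • mulLoc S a b := by
  simp [mulLoc, ← TensorProduct.smul_tmul']

theorem mulLoc_smul_right (r : A) (a : LocalizedModule S M) (b : LocalizedModule S N) :
    mulLoc S a (r • b) = r • mulLoc S a b := by
  simp [mulLoc]

theorem mulLoc_mk_one (m : M) (n : N) :
    mulLoc S (LocalizedModule.mk m 1) (LocalizedModule.mk n 1) =
      LocalizedModule.mk (m ⊗ₜ[A] n) 1 := by
  have := IsLocalizedModule.linearEquiv_apply S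
    (TensorProduct.map (LocalizedModule.mkLinearMap S M) (LocalizedModule.mkLinearMap S N))
    (LocalizedModule.mkLinearMap S (M ⊗[A] N)) (m ⊗ₜ n)
  simpa [mulLoc, locTensorEquiv] using this

theorem mulLoc_mk (m : M) (n : N) (s t : S) :
    mulLoc S (LocalizedModule.mk m s) (LocalizedModule.mk n t) =
      LocalizedModule.mk (m ⊗ₜ[A] n) (s * t) := by
  apply (IsLocalizedModule.smul_inj (LocalizedModule.mkLinearMap S (M ⊗[A] N)) (s * t) _ _).mp
  have h1 : ((s * t : S) : A) • mulLoc S (LocalizedModule.mk m s) (LocalizedModule.mk n t) =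
      mulLoc S ((s : A) • LocalizedModule.mk m s) ((t : A) • LocalizedModule.mk n t) := by
    rw [mulLoc_smul_left, mulLoc_smul_right, Submonoid.coe_mul, mul_smul]
  have h2 : ∀ (K : Type u) [AddCommGroup K] [Module A K] (k : K) (s : S),
      (s : A) • LocalizedModule.mk k s = LocalizedModule.mk k (1 : S) := by
    intro K _ _ k s
    rw [LocalizedModule.smul'_mk]
    exact LocalizedModule.mk_cancel s k
  change ((s * t : S) : A) • mulLoc S (LocalizedModule.mk m s) (LocalizedModule.mk n t) =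
    ((s * t : S) : A) • LocalizedModule.mk (m ⊗ₜ[A] n) (s * t)
  rw [h1, h2, h2, h2, mulLoc_mk_one]

theorem mulLoc_lsmul_left (c : LocalizedModule S A) (a : LocalizedModule S M)
    (b : LocalizedModule S N) : mulLoc S (c • a) b = c • mulLoc S a b := by
  induction c using LocalizedModule.induction_on with | _ r u
  induction a using LocalizedModule.induction_on with | _ m s
  induction b using LocalizedModule.induction_on with | _ n t
  rw [mulLoc_mk]
  erw [LocalizedModule.mk_smul_mk r m u s, LocalizedModule.mk_smul_mk r (m ⊗ₜ[A] n) u (s * t)]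
  rw [mulLoc_mk, TensorProduct.smul_tmul', mul_assoc]

theorem mulLoc_lsmul_right (c : LocalizedModule S A) (a : LocalizedModule S M)
    (b : LocalizedModule S N) : mulLoc S a (c • b) = c • mulLoc S a b := by
  induction c using LocalizedModule.induction_on with | _ r u
  induction a using LocalizedModule.induction_on with | _ m s
  induction b using LocalizedModule.induction_on with | _ n t
  rw [mulLoc_mk]
  erw [LocalizedModule.mk_smul_mk r n u t, LocalizedModule.mk_smul_mk r (m ⊗ₜ[A] n) u (s * t)]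
  rw [mulLoc_mk, TensorProduct.smul_tmul', TensorProduct.smul_tmul, mul_left_comm]

end mulLoc

section sections
open StructureSheaf
variable (A : Type u) [CommRing A] (M N : Type u) [AddCommGroup M] [Module A M]
  [AddCommGroup N] [Module A N]

abbrev Sec (U : Opens (PrimeSpectrum.Top A)) : Type u :=
  (structureSheafInType A M).obj.obj (Opposite.op U)

variable {A M N}

set_option backward.isDefEq.respectTransparency.types false in
noncomputable def mulSec {U : Opens (PrimeSpectrum.Top A)} (s : Sec A M U) (t : Sec A N U) :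
    Sec A (M ⊗[A] N) U :=
  ⟨fun x => mulLoc x.1.asIdeal.primeCompl (s.1 x) (t.1 x), fun x => by
    obtain ⟨V1, hx1, i1, m, f, h1⟩ := s.2 x
    obtain ⟨V2, hx2, i2, n, g, h2⟩ := t.2 x
    refine ⟨V1 ⊓ V2, ⟨hx1, hx2⟩, Opens.infLELeft _ _ ≫ i1, m ⊗ₜ n, f * g, fun y => ?_⟩
    obtain ⟨hf, e1⟩ := h1 ⟨y.1, y.2.1⟩
    obtain ⟨hg, e2⟩ := h2 ⟨y.1, y.2.2⟩
    refine ⟨y.1.asIdeal.primeCompl.mul_mem hf hg, ?_⟩
    exact (congrArg₂ (mulLoc y.1.asIdeal.primeCompl) e1 e2).trans (mulLoc_mk _ _ _ _ _)⟩

set_option backward.isDefEq.respectTransparency.types false in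
theorem mulSec_val {U : Opens (PrimeSpectrum.Top A)} (s : Sec A M U) (t : Sec A N U) (x : U) :
    (mulSec s t).1 x = mulLoc x.1.asIdeal.primeCompl (s.1 x) (t.1 x) := rfl

set_option backward.isDefEq.respectTransparency.types false in
theorem mulSec_add_left {U : Opens (PrimeSpectrum.Top A)} (s s' : Sec A M U) (t : Sec A N U) :
    mulSec (s + s') t = mulSec s t + mulSec s' t :=
  Subtype.ext (funext fun x => mulLoc_add_left x.1.asIdeal.primeCompl (s.1 x) (s'.1 x) (t.1 x))

set_option backward.isDefEq.respectTransparency.types false in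
theorem mulSec_add_right {U : Opens (PrimeSpectrum.Top A)} (s : Sec A M U) (t t' : Sec A N U) :
    mulSec s (t + t') = mulSec s t + mulSec s t' :=
  Subtype.ext (funext fun x => mulLoc_add_right x.1.asIdeal.primeCompl (s.1 x) (t.1 x) (t'.1 x))

set_option backward.isDefEq.respectTransparency.types false in
theorem mulSec_smul_left {U : Opens (PrimeSpectrum.Top A)} (r : Sec A A U) (s : Sec A M U)
    (t : Sec A N U) : mulSec (r • s) t = r • mulSec s t :=
  Subtype.ext (funext fun x => mulLoc_lsmul_left x.1.asIdeal.primeCompl (r.1 x) (s.1 x) (t.1 x))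

set_option backward.isDefEq.respectTransparency.types false in
theorem mulSec_smul_right {U : Opens (PrimeSpectrum.Top A)} (r : Sec A A U) (s : Sec A M U)
    (t : Sec A N U) : mulSec s (r • t) = r • mulSec s t :=
  Subtype.ext (funext fun x => mulLoc_lsmul_right x.1.asIdeal.primeCompl (r.1 x) (s.1 x) (t.1 x))

set_option backward.isDefEq.respectTransparency.types false in
theorem mulSec_const {U : Opens (PrimeSpectrum.Top A)} (m : M) (n : N) (f g : A)
    (hf : U ≤ PrimeSpectrum.basicOpen f) (hg : U ≤ PrimeSpectrum.basicOpen g) :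
    mulSec (const m f U hf) (const n g U hg) =
      const (m ⊗ₜ[A] n) (f * g) U (by rw [PrimeSpectrum.basicOpen_mul]; exact le_inf hf hg) :=
  Subtype.ext (funext fun x => mulLoc_mk x.1.asIdeal.primeCompl m n ⟨f, hf x.2⟩ ⟨g, hg x.2⟩)

theorem smul_const_self {V : Opens (PrimeSpectrum.Top A)} (m : M) (g : A)
    (hg : V ≤ PrimeSpectrum.basicOpen g) (h1 : V ≤ PrimeSpectrum.basicOpen (1 : A)) :
    algebraMap A (Sec A A V) g • const m g V hg = const m 1 V h1 := by
  rw [algebraMap_smul, smul_const]; exact const_ext (by simp)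

theorem const_one_mul_algebraMap {V : Opens (PrimeSpectrum.Top A)} (g : A)
    (hg : V ≤ PrimeSpectrum.basicOpen g) :
    const (1 : A) g V hg * algebraMap A (Sec A A V) g = 1 := by
  refine ((mul_comm _ _).trans (Algebra.smul_def _ _).symm).trans ?_
  exact (smul_const 1 g g V hg).trans ((const_congr (by simp) rfl).trans (const_self g V hg))

set_option backward.isDefEq.respectTransparency.types false in
theorem const_one_smul_const {V : Opens (PrimeSpectrum.Top A)} (m : M) (g : A)
    (hg : V ≤ PrimeSpectrum.basicOpen g) (h1 : V ≤ PrimeSpectrum.basicOpen (1 : A)) :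
    const (1 : A) g V hg • const m 1 V h1 = const m g V hg :=
  Subtype.ext (funext fun x =>
    (LocalizedModule.mk_smul_mk (1 : A) m ⟨g, hg x.2⟩ (1 : x.1.asIdeal.primeCompl)).trans
      (by rw [one_smul, mul_one]; rfl))

set_option backward.isDefEq.respectTransparency.types false in
theorem exists_smul_eq_zero_of_const_eq_zero {V : Opens (PrimeSpectrum.Top A)} (m : M)
    (h1 : V ≤ PrimeSpectrum.basicOpen (1 : A)) (h : const m 1 V h1 = 0) (x : PrimeSpectrum.Top A)
    (hx : x ∈ V) : ∃ h : A, x ∈ PrimeSpectrum.basicOpen h ∧ h • m = 0 := by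
  have h2 : (const m 1 V h1).1 ⟨x, hx⟩ = (0 : Sec A M V).1 ⟨x, hx⟩ := by rw [h]
  have h3 : LocalizedModule.mk m (⟨1, h1 hx⟩ : x.asIdeal.primeCompl) = 0 := h2
  rw [← LocalizedModule.zero_mk (1 : x.asIdeal.primeCompl), LocalizedModule.mk_eq] at h3
  obtain ⟨u, hu⟩ := h3
  refine ⟨u.1, u.2, ?_⟩
  simpa [Submonoid.smul_def] using hu

theorem mulSec_res {U V : Opens (PrimeSpectrum.Top A)} (i : V ⟶ U) (s : Sec A M U)
    (t : Sec A N U) :
    (structureSheafInType A (M ⊗[A] N)).1.map i.op (mulSec s t) =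
      mulSec ((structureSheafInType A M).1.map i.op s) ((structureSheafInType A N).1.map i.op t) :=
  rfl

end sections

section presheaf
open StructureSheaf MonoidalCategory Opposite
variable (A : Type u) [CommRing A] (M N : Type u) [AddCommGroup M] [Module A M]
  [AddCommGroup N] [Module A N]

noncomputable abbrev TP : CohB1.PMod (Spec (CommRingCat.of A)) :=
  CohB1.toPMod (tilde (R := CommRingCat.of A) (ModuleCat.of A M))

variable {A M N}

def asSec {U : (Opens (Spec (CommRingCat.of A)))ᵒᵖ} (s : ↑((TP A M).obj U)) : Sec A M U.unop := s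
def ofSec {U : (Opens (Spec (CommRingCat.of A)))ᵒᵖ} (s : Sec A M U.unop) : ↑((TP A M).obj U) := s
def asO {U : (Opens (Spec (CommRingCat.of A)))ᵒᵖ}
    (r : ↑(((Spec (CommRingCat.of A)).sheaf.obj ⋙ forget₂ CommRingCat RingCat).obj U)) :
    Sec A A U.unop := r

theorem asSec_add {U : (Opens (Spec (CommRingCat.of A)))ᵒᵖ} (s t : ↑((TP A M).obj U)) :
    asSec (s + t) = asSec s + asSec t := rfl

theorem asSec_smul {U : (Opens (Spec (CommRingCat.of A)))ᵒᵖ}
    (r : ↑(((Spec (CommRingCat.of A)).sheaf.obj ⋙ forget₂ CommRingCat RingCat).obj U))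
    (s : ↑((TP A M).obj U)) :
    asSec (r • s) = asO r • asSec s := rfl

variable (A M N) in
noncomputable def psiApp (U : (Opens (Spec (CommRingCat.of A)))ᵒᵖ) :
    (TP A M).obj U ⊗ (TP A N).obj U ⟶ (TP A (M ⊗[A] N)).obj U :=
  ModuleCat.MonoidalCategory.tensorLift
    (fun s t => ofSec (mulSec (asSec s) (asSec t)))
    (fun s s' t => mulSec_add_left (asSec s) (asSec s') (asSec t))
    (fun r s t => mulSec_smul_left (asO r) (asSec s) (asSec t))
    (fun s t t' => mulSec_add_right (asSec s) (asSec t) (asSec t'))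
    (fun r s t => mulSec_smul_right (asO r) (asSec s) (asSec t))

variable (A M N) in
noncomputable def psi : TP A M ⊗ TP A N ⟶ TP A (M ⊗[A] N) where
  app U := psiApp A M N U
  naturality {U V} f := by
    refine ModuleCat.MonoidalCategory.tensor_ext (fun s t => ?_)
    rfl

theorem psi_app_tmul (U : (Opens (Spec (CommRingCat.of A)))ᵒᵖ) (s : ↑((TP A M).obj U))
    (t : ↑((TP A N).obj U)) :
    ((psi A M N).app U).hom (s ⊗ₜ t) = ofSec (mulSec (asSec s) (asSec t)) := rfl

noncomputable abbrev OV (A : Type u) [CommRing A] (V : (Opens (Spec (CommRingCat.of A)))ᵒᵖ) : RingCat.{u} :=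
  ((Spec (CommRingCat.of A)).sheaf.obj ⋙ forget₂ CommRingCat RingCat).obj V

def ofO {V : (Opens (Spec (CommRingCat.of A)))ᵒᵖ} (r : Sec A A V.unop) : ↑(OV A V) := r

variable (A) in
noncomputable def sig (V : (Opens (Spec (CommRingCat.of A)))ᵒᵖ) : A →+* ↑(OV A V) :=
  algebraMap A (Sec A A V.unop)

variable (A M) in
noncomputable def rho (V : (Opens (Spec (CommRingCat.of A)))ᵒᵖ) : M →+ ↑((TP A M).obj V) :=
  (toOpenₗ A M V.unop).toAddMonoidHom

theorem rho_smul (V : (Opens (Spec (CommRingCat.of A)))ᵒᵖ) (a : A) (m : M) :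
    rho A M V (a • m) = sig A V a • rho A M V m := by
  change ofSec (toOpenₗ A M V.unop (a • m)) = ofSec (algebraMap A (Sec A A V.unop) a • toOpenₗ A M V.unop m)
  rw [map_smul, algebraMap_smul]

variable (A M N) in
noncomputable def tau (V : (Opens (Spec (CommRingCat.of A)))ᵒᵖ) :
    M ⊗[A] N →+ TensorProduct ↑(OV A V) ↑((TP A M).obj V) ↑((TP A N).obj V) :=
  Groth.Agent.Lib.Helper30.ModTensor.tmap (sig A V) (rho A M V) (rho_smul V) (rho A N V)
    (rho_smul V)

theorem tau_tmul (V : (Opens (Spec (CommRingCat.of A)))ᵒᵖ) (m : M) (n : N) :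
    tau A M N V (m ⊗ₜ n) = rho A M V m ⊗ₜ rho A N V n := rfl

theorem tau_res {U V : (Opens (Spec (CommRingCat.of A)))ᵒᵖ} (g : U ⟶ V) (z : M ⊗[A] N) :
    ((TP A M ⊗ TP A N).map g).hom (tau A M N U z) = tau A M N V z := by
  induction z using TensorProduct.induction_on with
  | zero => rw [map_zero, map_zero]; exact map_zero _
  | tmul m n => rfl
  | add z1 z2 h1 h2 =>
    have e1 : tau A M N U (z1 + z2) = tau A M N U z1 + tau A M N U z2 := map_add _ _ _
    have e2 : tau A M N V (z1 + z2) = tau A M N V z1 + tau A M N V z2 := map_add _ _ _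
    rw [e1, e2, ← h1, ← h2]
    exact ((TP A M ⊗ TP A N).map g).hom.map_add _ _

theorem tau_smul (V : (Opens (Spec (CommRingCat.of A)))ᵒᵖ) (a : A) (z : M ⊗[A] N) :
    tau A M N V (a • z) = sig A V a • tau A M N V z := by
  induction z using TensorProduct.induction_on with
  | zero => simp
  | tmul m n =>
    rw [TensorProduct.smul_tmul', tau_tmul, tau_tmul, rho_smul, TensorProduct.smul_tmul']
  | add z1 z2 h1 h2 => rw [smul_add, map_add, map_add, h1, h2, smul_add]

theorem psi_tau (V : (Opens (Spec (CommRingCat.of A)))ᵒᵖ) (z : M ⊗[A] N) :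
    ((psi A M N).app V).hom (tau A M N V z) = rho A (M ⊗[A] N) V z := by
  induction z using TensorProduct.induction_on with
  | zero => rw [map_zero, map_zero]; exact map_zero _
  | tmul m n =>
    rw [tau_tmul, psi_app_tmul]
    have h1 : V.unop ≤ PrimeSpectrum.basicOpen (1 : A) := by
      rw [PrimeSpectrum.basicOpen_one]; exact le_top
    change ofSec (mulSec (const m 1 V.unop h1) (const n 1 V.unop h1)) =
      ofSec (const (m ⊗ₜ n) 1 V.unop h1)
    exact congrArg ofSec ((mulSec_const m n 1 1 h1 h1).trans (const_congr rfl (mul_one 1)))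
  | add z1 z2 h1 h2 =>
    have e1 : tau A M N V (z1 + z2) = tau A M N V z1 + tau A M N V z2 := map_add _ _ _
    have e2 : rho A (M ⊗[A] N) V (z1 + z2) = rho A (M ⊗[A] N) V z1 + rho A (M ⊗[A] N) V z2 :=
      map_add _ _ _
    rw [e1, e2, ← h1, ← h2]
    exact ((psi A M N).app V).hom.map_add _ _

abbrev PT (A M N : Type u) [CommRing A] [AddCommGroup M] [Module A M] [AddCommGroup N]
    [Module A N] (V : (Opens (Spec (CommRingCat.of A)))ᵒᵖ) : Type u :=
  TensorProduct ↑(OV A V) ↑((TP A M).obj V) ↑((TP A N).obj V)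

/-- restriction of sections of the tensor presheaf -/
noncomputable def resP {U V : Opens (Spec (CommRingCat.of A))} (i : V ⟶ U) (a : PT A M N (op U)) :
    PT A M N (op V) :=
  ((TP A M ⊗ TP A N).map i.op).hom a

theorem resP_tmul {U V : Opens (Spec (CommRingCat.of A))} (i : V ⟶ U)
    (s : ↑((TP A M).obj (op U))) (t : ↑((TP A N).obj (op U))) :
    resP i (s ⊗ₜ t : PT A M N (op U)) =
      (((TP A M).map i.op).hom s ⊗ₜ ((TP A N).map i.op).hom t : PT A M N (op V)) := rfl

theorem resP_add {U V : Opens (Spec (CommRingCat.of A))} (i : V ⟶ U) (a b : PT A M N (op U)) :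
    resP i (a + b) = resP i a + resP i b :=
  ((TP A M ⊗ TP A N).map i.op).hom.map_add _ _

theorem resP_zero {U V : Opens (Spec (CommRingCat.of A))} (i : V ⟶ U) :
    resP i (0 : PT A M N (op U)) = 0 :=
  ((TP A M ⊗ TP A N).map i.op).hom.map_zero

theorem resP_resP {U V W : Opens (Spec (CommRingCat.of A))} (i : V ⟶ U) (j : W ⟶ V)
    (a : PT A M N (op U)) : resP j (resP i a) = resP (j ≫ i) a :=
  (PresheafOfModules.map_comp_apply (TP A M ⊗ TP A N) i.op j.op a).symm

theorem resP_sig_smul {U V : Opens (Spec (CommRingCat.of A))} (i : V ⟶ U) (f : A)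
    (a : PT A M N (op U)) : resP i (sig A (op U) f • a) = sig A (op V) f • resP i a :=
  PresheafOfModules.map_smul (TP A M ⊗ TP A N) i.op (sig A (op U) f) a

theorem resP_tau {U V : Opens (Spec (CommRingCat.of A))} (i : V ⟶ U) (z : M ⊗[A] N) :
    resP i (tau A M N (op U) z) = tau A M N (op V) z := tau_res i.op z

theorem mul_smul_tmul {R : Type*} [CommRing R] {X Y : Type*} [AddCommGroup X] [Module R X]
    [AddCommGroup Y] [Module R Y] (r1 r2 : R) (x : X) (y : Y) :
    (r1 * r2) • (x ⊗ₜ[R] y) = (r1 • x) ⊗ₜ[R] (r2 • y) := by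
  rw [mul_smul, ← TensorProduct.tmul_smul, TensorProduct.smul_tmul']

theorem lf_shrink {U V V' : Opens (Spec (CommRingCat.of A))} (i : V ⟶ U) (j : V' ⟶ V)
    (a : PT A M N (op U)) (f g : A) (z : M ⊗[A] N)
    (h : sig A (op V) f • resP i a = tau A M N (op V) z) :
    sig A (op V') (g * f) • resP (j ≫ i) a = tau A M N (op V') (g • z) := by
  rw [← resP_resP, map_mul, mul_smul, ← resP_sig_smul, h, resP_tau, tau_smul]

theorem rho_of_const {V : Opens (Spec (CommRingCat.of A))} (s : ↑((TP A M).obj (op V))) (m : M)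
    (g : A) (hg : V ≤ PrimeSpectrum.basicOpen g) (e : asSec s = const m g V hg) :
    sig A (op V) g • s = rho A M (op V) m := by
  have h1 : V ≤ PrimeSpectrum.basicOpen (1 : A) := by
    rw [PrimeSpectrum.basicOpen_one]; exact le_top
  exact congrArg ofSec ((congrArg (algebraMap A (Sec A A V) g • ·) e).trans
    (smul_const_self m g hg h1))

theorem exists_local_form {U : Opens (Spec (CommRingCat.of A))} (a : PT A M N (op U))
    (x : PrimeSpectrum.Top A) (hx : x ∈ U) :
    ∃ (V : Opens (Spec (CommRingCat.of A))) (i : V ⟶ U), x ∈ V ∧ ∃ f : A,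
      V ≤ PrimeSpectrum.basicOpen f ∧ ∃ z : M ⊗[A] N,
        sig A (op V) f • resP i a = tau A M N (op V) z := by
  induction a using TensorProduct.induction_on with
  | zero =>
    refine ⟨U, 𝟙 _, hx, 1, ?_, 0, ?_⟩
    · rw [PrimeSpectrum.basicOpen_one]; exact le_top
    · rw [resP_zero, smul_zero, map_zero]
  | tmul s t =>
    obtain ⟨g1, hx1, i1, m, e1⟩ := exists_const U (asSec s) x hx
    obtain ⟨g2, hx2, i2, n, e2⟩ := exists_const U (asSec t) x hx
    refine ⟨PrimeSpectrum.basicOpen g1 ⊓ PrimeSpectrum.basicOpen g2,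
      homOfLE (inf_le_left.trans i1), ⟨hx1, hx2⟩, g1 * g2, ?_, m ⊗ₜ n, ?_⟩
    · rw [PrimeSpectrum.basicOpen_mul]; exact le_rfl
    · have h1 := rho_of_const (((TP A M).map (homOfLE (inf_le_left.trans i1) :
          PrimeSpectrum.basicOpen g1 ⊓ PrimeSpectrum.basicOpen g2 ⟶ U).op).hom s) m g1 inf_le_left
          (congrArg ((structureSheafInType A M).1.map (homOfLE inf_le_left :
            PrimeSpectrum.basicOpen g1 ⊓ PrimeSpectrum.basicOpen g2 ⟶
              PrimeSpectrum.basicOpen g1).op) e1).symm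
      have h2 := rho_of_const (((TP A N).map (homOfLE (inf_le_left.trans i1) :
          PrimeSpectrum.basicOpen g1 ⊓ PrimeSpectrum.basicOpen g2 ⟶ U).op).hom t) n g2 inf_le_right
          (congrArg ((structureSheafInType A N).1.map (homOfLE inf_le_right :
            PrimeSpectrum.basicOpen g1 ⊓ PrimeSpectrum.basicOpen g2 ⟶
              PrimeSpectrum.basicOpen g2).op) e2).symm
      rw [resP_tmul, map_mul]
      refine (mul_smul_tmul _ _ _ _).trans ?_
      exact congrArg₂ (fun a b => (a ⊗ₜ b : PT A M N (op (PrimeSpectrum.basicOpen g1 ⊓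
        PrimeSpectrum.basicOpen g2)))) h1 h2
  | add a b ha hb =>
    obtain ⟨V1, i1, hx1, f1, hf1, z1, e1⟩ := ha
    obtain ⟨V2, i2, hx2, f2, hf2, z2, e2⟩ := hb
    refine ⟨V1 ⊓ V2, homOfLE inf_le_left ≫ i1, ⟨hx1, hx2⟩, f1 * f2, ?_, f2 • z1 + f1 • z2, ?_⟩
    · rw [PrimeSpectrum.basicOpen_mul]; exact inf_le_inf hf1 hf2
    · have k1 := lf_shrink i1 (homOfLE inf_le_left : V1 ⊓ V2 ⟶ V1) a f1 f2 z1 e1
      have k2 := lf_shrink i2 (homOfLE inf_le_right : V1 ⊓ V2 ⟶ V2) b f2 f1 z2 e2
      rw [Subsingleton.elim ((homOfLE inf_le_right : V1 ⊓ V2 ⟶ V2) ≫ i2)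
        ((homOfLE inf_le_left : V1 ⊓ V2 ⟶ V1) ≫ i1)] at k2
      rw [resP_add, smul_add, map_add, ← k1, ← k2, mul_comm f1 f2]

theorem eq_zero_of_sig_smul_eq_zero {W : Opens (Spec (CommRingCat.of A))} (f : A)
    (hf : W ≤ PrimeSpectrum.basicOpen f) (a : PT A M N (op W))
    (h : sig A (op W) f • a = 0) : a = 0 := by
  have h1 : (ofO (const (1 : A) f W hf) : ↑(OV A (op W))) * sig A (op W) f = 1 :=
    const_one_mul_algebraMap f hf
  calc a = (1 : ↑(OV A (op W))) • a := (one_smul _ _).symm
    _ = ((ofO (const (1 : A) f W hf) : ↑(OV A (op W))) * sig A (op W) f) • a := by rw [h1]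
    _ = 0 := by rw [mul_smul, h, smul_zero]

theorem psi_resP {U V : Opens (Spec (CommRingCat.of A))} (i : V ⟶ U) (a : PT A M N (op U)) :
    ((psi A M N).app (op V)).hom (resP i a) =
      ((TP A (M ⊗[A] N)).map i.op).hom (((psi A M N).app (op U)).hom a) :=
  PresheafOfModules.naturality_apply (psi A M N) i.op a

theorem locally_zero_of_psi_eq_zero {U : Opens (Spec (CommRingCat.of A))} (a : PT A M N (op U))
    (h : ((psi A M N).app (op U)).hom a = 0) (x : PrimeSpectrum.Top A) (hx : x ∈ U) :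
    ∃ (W : Opens (Spec (CommRingCat.of A))) (i : W ⟶ U), x ∈ W ∧ resP i a = 0 := by
  obtain ⟨V, i, hxV, f, hf, z, e⟩ := exists_local_form a x hx
  have h1 : V ≤ PrimeSpectrum.basicOpen (1 : A) := by
    rw [PrimeSpectrum.basicOpen_one]; exact le_top
  have e1 : rho A (M ⊗[A] N) (op V) z = 0 := by
    rw [← psi_tau, ← e]
    refine (((psi A M N).app (op V)).hom.map_smul _ _).trans ?_
    rw [psi_resP, h]
    refine (congrArg _ (map_zero _)).trans (smul_zero _)
  obtain ⟨h, hxh, hz⟩ := exists_smul_eq_zero_of_const_eq_zero (V := V) z h1 e1 x hxV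
  refine ⟨V ⊓ PrimeSpectrum.basicOpen h, homOfLE inf_le_left ≫ i, ⟨hxV, hxh⟩, ?_⟩
  have k := lf_shrink i (homOfLE inf_le_left : V ⊓ PrimeSpectrum.basicOpen h ⟶ V) a f h z e
  rw [hz, map_zero] at k
  refine eq_zero_of_sig_smul_eq_zero (h * f) ?_ _ k
  rw [PrimeSpectrum.basicOpen_mul]
  exact le_inf inf_le_right (inf_le_left.trans hf)

theorem locally_surj {U : Opens (Spec (CommRingCat.of A))}
    (s : ↑((TP A (M ⊗[A] N)).obj (op U))) (x : PrimeSpectrum.Top A) (hx : x ∈ U) :
    ∃ (W : Opens (Spec (CommRingCat.of A))) (i : W ⟶ U), x ∈ W ∧ ∃ a : PT A M N (op W),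
      ((psi A M N).app (op W)).hom a = ((TP A (M ⊗[A] N)).map i.op).hom s := by
  obtain ⟨g, hxg, i, z, e⟩ := exists_const U (asSec s) x hx
  have h1 : PrimeSpectrum.basicOpen g ≤ PrimeSpectrum.basicOpen (1 : A) := by
    rw [PrimeSpectrum.basicOpen_one]; exact le_top
  refine ⟨PrimeSpectrum.basicOpen g, homOfLE i, hxg,
    (ofO (const (1 : A) g (PrimeSpectrum.basicOpen g) le_rfl) :
      ↑(OV A (op (PrimeSpectrum.basicOpen g)))) • tau A M N (op (PrimeSpectrum.basicOpen g)) z, ?_⟩
  refine (((psi A M N).app (op (PrimeSpectrum.basicOpen g))).hom.map_smul _ _).trans ?_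
  rw [psi_tau]
  exact congrArg ofSec ((const_one_smul_const z g le_rfl h1).trans e)

variable (A M N) in
theorem isLocallySurjective_psi :
    PresheafOfModules.IsLocallySurjective
      (Opens.grothendieckTopology (Spec (CommRingCat.of A))) (psi A M N) := by
  refine ⟨fun {W} s => ?_⟩
  intro x hx
  obtain ⟨V, i, hxV, a, ha⟩ := locally_surj (U := W) s x hx
  exact ⟨V, i, (Groth.Agent.Lib.Helper30.ModTensor.imageSieve_iff (psi A M N) s i).mpr ⟨a, ha⟩,
    hxV⟩

variable (A M N) in
theorem isLocallyInjective_psi :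
    PresheafOfModules.IsLocallyInjective
      (Opens.grothendieckTopology (Spec (CommRingCat.of A))) (psi A M N) := by
  refine ⟨fun {X} a b hab => ?_⟩
  intro x hx
  have hab' : ((psi A M N).app X).hom a = ((psi A M N).app X).hom b := hab
  have h0 : ((psi A M N).app (op X.unop)).hom ((a - b : PT A M N X) : PT A M N (op X.unop)) = 0 :=
    (((psi A M N).app X).hom.map_sub a b).trans (sub_eq_zero.mpr hab')
  obtain ⟨V, i, hxV, hV⟩ := locally_zero_of_psi_eq_zero (U := X.unop) (a - b : PT A M N X) h0 x hx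
  refine ⟨V, i, ?_, hxV⟩
  refine (Groth.Agent.Lib.Helper30.ModTensor.equalizerSieve_iff (M₁ := TP A M ⊗ TP A N)
    a b i).mpr ?_
  have h1 : resP i (a - b : PT A M N X) = resP i (a : PT A M N X) - resP i (b : PT A M N X) :=
    ((TP A M ⊗ TP A N).map i.op).hom.map_sub _ _
  exact sub_eq_zero.mp (h1.symm.trans hV)

/-- A sheaf of modules is the sheafification of its underlying presheaf. -/
noncomputable def shfValIso {X : Scheme.{u}} (F : SheafOfModules.{u} X.ringCatSheaf) :
    (PresheafOfModules.sheafification.{u} (𝟙 X.ringCatSheaf.obj)).obj F.val ≅ F :=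
  (asIso (PresheafOfModules.sheafificationAdjunction.{u} (𝟙 X.ringCatSheaf.obj)).counit).app F

variable (A M N) in
theorem nonempty_tilde_tensor_iso :
    Nonempty (tilde (R := CommRingCat.of A) (ModuleCat.of A (M ⊗[A] N)) ≅
      CohB1.tensorMod (tilde (R := CommRingCat.of A) (ModuleCat.of A M))
        (tilde (R := CommRingCat.of A) (ModuleCat.of A N))) := by
  have h1 := isLocallyInjective_psi A M N
  have h2 := isLocallySurjective_psi A M N
  have hiso : IsIso ((Groth.Agent.Lib.Helper30.ModTensor.shf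
      (Spec (CommRingCat.of A)).sheaf).map (psi A M N)) :=
    (Groth.Agent.Lib.Helper30.ModTensor.isIso_shf_map_iff _).mpr ⟨h1, h2⟩
  exact ⟨(@asIso _ _ _ _ _ hiso ≪≫
    shfValIso (tilde (R := CommRingCat.of A) (ModuleCat.of A (M ⊗[A] N)))).symm⟩

end presheaf

end Groth.Agent.Lib.Helper11.TildeTensor
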