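import Mathlib
import Groth.Prelude.Def_CohB1
import Groth.Agent.Lib.Helper11.TildeTensor
import Groth.Agent.Lib.Helper11.RestrictTensor
import Groth.Agent.Lib.Helper49.QCohLocal
import Groth.Agent.Lib.Helper49.FiniteTypeLocal
import Groth.Agent.Lib.Helper49.FiniteTypeAffine

/-!
# Tensor products of quasi-coherent modules are quasi-coherent (helper11)
-/

set_option autoImplicit false
universe u
open AlgebraicGeometry CategoryTheory Limits TopologicalSpace TensorProduct

namespace Groth.Agent.Lib.Helper11.TildeTensor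
open Groth.Agent.Lib.Helper11.GenLocus Groth.Agent.Lib.Helper49

theorem nonempty_tilde_tensor_iso' (R : CommRingCat.{u}) (M N : ModuleCat.{u} R) :
    Nonempty (tilde (ModuleCat.of R (M ⊗[R] N)) ≅ CohB1.tensorMod (tilde M) (tilde N)) :=
  nonempty_tilde_tensor_iso R M N

theorem tensorMod_affine (R : CommRingCat.{u}) (F G : (Spec R).Modules) [F.IsQuasicoherent]
    [G.IsQuasicoherent] :
    (CohB1.tensorMod F G).IsQuasicoherent ∧
      (CohB1.IsFT F → CohB1.IsFT G → CohB1.IsFT (CohB1.tensorMod F G)) := by
  have hF : IsIso F.fromTildeΓ := (isQuasicoherent_iff_isIso_fromTildeΓ F).mp inferInstance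
  have hG : IsIso G.fromTildeΓ := (isQuasicoherent_iff_isIso_fromTildeΓ G).mp inferInstance
  let eF := asIso F.fromTildeΓ
  let eG := asIso G.fromTildeΓ
  obtain ⟨e⟩ := nonempty_tilde_tensor_iso' R ((modulesSpecToSheaf.obj F).presheaf.obj (.op ⊤))
    ((modulesSpecToSheaf.obj G).presheaf.obj (.op ⊤))
  let e' := e ≪≫ tensorModCongr eF eG
  refine ⟨isQuasicoherent_of_iso e' inferInstance, fun h1 h2 => ?_⟩
  have f1 : Module.Finite R ((modulesSpecToSheaf.obj F).presheaf.obj (.op ⊤)) :=
    (isFiniteType_iff_finite_Γ R F).mp h1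
  have f2 : Module.Finite R ((modulesSpecToSheaf.obj G).presheaf.obj (.op ⊤)) :=
    (isFiniteType_iff_finite_Γ R G).mp h2
  exact isFiniteType_of_iso e' (isFiniteType_tilde_of_finite R _)

/-- The tensor product of quasi-coherent modules is quasi-coherent, and of finite type if both
factors are. -/
theorem isQuasicoherent_tensorMod {X : Scheme.{u}} (F G : X.Modules) [F.IsQuasicoherent] [G.IsQuasicoherent] :
    (CohB1.tensorMod F G).IsQuasicoherent ∧
      (CohB1.IsFT F → CohB1.IsFT G → CohB1.IsFT (CohB1.tensorMod F G)) := by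
  have key : ∀ U : X.affineOpens,
      ((CohB1.tensorMod F G).restrict U.2.fromSpec).IsQuasicoherent ∧
      (CohB1.IsFT F → CohB1.IsFT G →
        SheafOfModules.IsFiniteType (R := (Spec Γ(X, U.1)).ringCatSheaf)
          ((CohB1.tensorMod F G).restrict U.2.fromSpec)) := fun U => by
    have : (F.restrict U.2.fromSpec).IsQuasicoherent :=
      Scheme.Modules.isQuasicoherent_restrictFunctor _ _
    have : (G.restrict U.2.fromSpec).IsQuasicoherent :=
      Scheme.Modules.isQuasicoherent_restrictFunctor _ _
    obtain ⟨q, t⟩ := tensorMod_affine Γ(X, U.1) (F.restrict U.2.fromSpec) (G.restrict U.2.fromSpec)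
    let e := restrictTensorIso U.2.fromSpec F G
    exact ⟨isQuasicoherent_of_iso e q, fun h1 h2 => isFiniteType_of_iso e
      (t (isFiniteType_restrict F _ h1) (isFiniteType_restrict G _ h2))⟩
  exact ⟨isQuasicoherent_of_forall_fromSpec _ fun U => (key U).1,
    fun h1 h2 => isFiniteType_of_forall_fromSpec _ fun U => (key U).2 h1 h2⟩

end Groth.Agent.Lib.Helper11.TildeTensor
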