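import Mathlib
import Groth.Agent.Lib.Helper11.TensorMap
import Groth.Agent.Lib.Helper49.FreeMod
import Groth.Agent.Lib.Helper49.TensorDesc
import Groth.Agent.Lib.Helper11.TensorQCoh
import Groth.Agent.Lib.Helper49.FinLocFreeSections

/-!
# Local basis families of finite locally free modules (helper11)

* `IsBasisFam N V e`: the sections `e i ∈ Γ(N, V)` form a basis of `Γ(N, W)` over `Γ(X, W)` for
  every open `W ≤ V`; `exists_isBasisFam_of_iso`, `exists_isBasisFam_of_isFinLocFree`.
* `tmFam_bijective`, `tmFamEquiv`: `Γ(M, W)^n ≃ Γ(M ⊗ N, W)` for `N` with a basis family.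
* `isFinLocFree_tensorMod`: tensor products of finite locally free modules.
-/

set_option autoImplicit false
set_option linter.style.haveILetI false
set_option linter.unusedSectionVars false
namespace Groth.Agent.Lib.Helper11.FinFreeBasis
open AlgebraicGeometry CategoryTheory CategoryTheory.Limits TopologicalSpace Opposite TensorProduct
open Groth.Agent.Lib.Helper45 Groth.Agent.Lib.Helper49 Groth.Agent.Lib.Helper11.GenLocus
  Groth.Agent.Lib.Helper11.TensorMap

universe u
variable {X : Scheme.{u}}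

/-- `e` is a basis of `N` over `V` and over every smaller open. -/
def IsBasisFam (N : X.Modules) (V : X.Opens) {n : ℕ} (e : Fin n → Γ(N, V)) : Prop :=
  ∀ (W : X.Opens) (hW : W ≤ V),
    Function.Bijective (fun a : Fin n → Γ(X, W) => ∑ i, a i • mres N hW (e i))

theorem IsBasisFam.mono {N : X.Modules} {V V' : X.Opens} {n : ℕ} {e : Fin n → Γ(N, V)}
    (he : IsBasisFam N V e) (h : V' ≤ V) : IsBasisFam N V' (fun i => mres N h (e i)) := by
  intro W hW
  have := he W (hW.trans h)
  simpa only [mres_mres] using this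

theorem IsBasisFam.congr_open {N : X.Modules} {V V' : X.Opens} (h : V = V') {n : ℕ}
    {e : Fin n → Γ(N, V)} (he : IsBasisFam N V e) :
    IsBasisFam N V' (fun i => mres N h.symm.le (e i)) := by
  subst h
  simpa using he

/-- the standard sections of the free module. -/
noncomputable def stdSec (Y : Scheme.{u}) (n : ℕ) (W : Y.Opens) (i : Fin n) :
    Γ(FlatMod.freeMod Y n, W) :=
  (freeι Y n i).app W (show Γ(Coh.structureModule Y, W) from (1 : Γ(Y, W)))

theorem sum_smul_stdSec (Y : Scheme.{u}) (n : ℕ) (W : Y.Opens) (a : Fin n → Γ(Y, W)) :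
    ∑ i, a i • stdSec Y n W i = (sectionsFreeEquiv Y n W).symm a := by
  change _ = ∑ i, (freeι Y n i).app W (a i)
  refine Finset.sum_congr rfl fun i _ => ?_
  unfold stdSec
  rw [← Scheme.Modules.Hom.app_smul]
  congr 1
  exact mul_one (a i)

theorem stdSec_res (Y : Scheme.{u}) (n : ℕ) {W W' : Y.Opens} (h : W' ≤ W) (i : Fin n) :
    mres (FlatMod.freeMod Y n) h (stdSec Y n W i) = stdSec Y n W' i := by
  unfold stdSec
  rw [← app_mres]
  congr 1
  exact map_one ((Y.presheaf.map (homOfLE h).op).hom)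

theorem bijective_sum_smul_stdSec (Y : Scheme.{u}) (n : ℕ) (W : Y.Opens) :
    Function.Bijective (fun a : Fin n → Γ(Y, W) => ∑ i, a i • stdSec Y n W i) := by
  have : (fun a : Fin n → Γ(Y, W) => ∑ i, a i • stdSec Y n W i) =
      (sectionsFreeEquiv Y n W).symm := by
    funext a
    exact sum_smul_stdSec Y n W a
  rw [this]
  exact (sectionsFreeEquiv Y n W).symm.bijective


/-- A trivialisation `N|_V ≅ O_V^n` gives a basis family of `N` over `V`. -/
theorem exists_isBasisFam_of_iso {N : X.Modules} {V : X.Opens} {n : ℕ}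
    (φ : N.restrict V.ι ≅ FlatMod.freeMod (↑V : Scheme.{u}) n) :
    ∃ e : Fin n → Γ(N, V), IsBasisFam N V e := by
  let t₀' : Fin n → Γ(N.restrict V.ι, ⊤) := fun i => φ.inv.app ⊤ (stdSec (↑V : Scheme.{u}) n ⊤ i)
  let t₀ : Fin n → Γ(N, V.ι ''ᵁ ⊤) := t₀'
  have key : ∀ W' : (↑V : Scheme.{u}).Opens, Function.Bijective
      (fun a : Fin n → Γ(X, V.ι ''ᵁ W') =>
        ∑ i, a i • mres N (V.ι.image_mono (le_top : W' ≤ ⊤)) (t₀ i)) := by
    intro W'
    let α := V.ι.appIso W'
    let tW' : Fin n → Γ(N.restrict V.ι, W') := fun i => φ.inv.app W' (stdSec (↑V : Scheme.{u}) n W' i)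
    let tW : Fin n → Γ(N, V.ι ''ᵁ W') := tW'
    have htW : ∀ i, mres N (V.ι.image_mono (le_top : W' ≤ ⊤)) (t₀ i) = tW i := by
      intro i
      change (N.restrict V.ι).presheaf.map (homOfLE (le_top : W' ≤ ⊤)).op
        (φ.inv.app ⊤ (stdSec (↑V : Scheme.{u}) n ⊤ i)) = φ.inv.app W' (stdSec (↑V : Scheme.{u}) n W' i)
      rw [← app_map φ.inv (homOfLE (le_top : W' ≤ ⊤)) (stdSec (↑V : Scheme.{u}) n ⊤ i)]
      congr 1
      exact stdSec_res (↑V : Scheme.{u}) n (le_top : W' ≤ ⊤) i
    have hsmul : ∀ (r' : Γ((↑V : Scheme.{u}), W')) (m : Γ(N.restrict V.ι, W')),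
        r' • m = (show Γ(N.restrict V.ι, W') from
          (α.inv r') • (show Γ(N, V.ι ''ᵁ W') from m)) := fun r' m => rfl
    have hkey : ∀ (r : Γ(X, V.ι ''ᵁ W')) (i : Fin n), (α.hom r) • tW' i = r • tW i := by
      intro r i
      rw [hsmul]
      change (α.inv (α.hom r)) • tW i = r • tW i
      rw [Iso.hom_inv_id_apply]
    have hcomp : (fun a : Fin n → Γ(X, V.ι ''ᵁ W') =>
        ∑ i, a i • mres N (V.ι.image_mono (le_top : W' ≤ ⊤)) (t₀ i)) =
        (fun y : Γ(FlatMod.freeMod (↑V : Scheme.{u}) n, W') =>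
          (show Γ(N, V.ι ''ᵁ W') from φ.inv.app W' y)) ∘
        (fun b : Fin n → Γ((↑V : Scheme.{u}), W') => ∑ i, b i • stdSec (↑V : Scheme.{u}) n W' i) ∘
        (fun (a : Fin n → Γ(X, V.ι ''ᵁ W')) (i : Fin n) => α.hom (a i)) := by
      funext a
      simp only [Function.comp_apply, htW]
      have h1 : φ.inv.app W' (∑ i, α.hom (a i) • stdSec (↑V : Scheme.{u}) n W' i) =
          ∑ i, α.hom (a i) • tW' i := by
        rw [map_sum]
        refine Finset.sum_congr rfl fun i _ => ?_
        exact Scheme.Modules.Hom.app_smul φ.inv _ _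
      change _ = (show Γ(N, V.ι ''ᵁ W') from
        φ.inv.app W' (∑ i, α.hom (a i) • stdSec (↑V : Scheme.{u}) n W' i))
      rw [h1]
      change _ = ∑ i, (show Γ(N, V.ι ''ᵁ W') from α.hom (a i) • tW' i)
      refine Finset.sum_congr rfl fun i _ => ?_
      exact (hkey (a i) i).symm
    rw [hcomp]
    refine Function.Bijective.comp ?_ (Function.Bijective.comp
      (bijective_sum_smul_stdSec (↑V : Scheme.{u}) n W') ?_)
    · constructor
      · intro y y' hyy'
        have h1 := congrArg (φ.hom.app W') (show φ.inv.app W' y = φ.inv.app W' y' from hyy')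
        rwa [← ConcreteCategory.comp_apply, ← ConcreteCategory.comp_apply,
          ← Scheme.Modules.Hom.comp_app, Iso.inv_hom_id] at h1
      · intro s
        refine ⟨φ.hom.app W' (show Γ(N.restrict V.ι, W') from s), ?_⟩
        change φ.inv.app W' (φ.hom.app W' (show Γ(N.restrict V.ι, W') from s)) = s
        rw [← ConcreteCategory.comp_apply, ← Scheme.Modules.Hom.comp_app, Iso.hom_inv_id]
        rfl
    · constructor
      · intro a a' haa'
        funext i
        have := congrArg α.inv (congrFun haa' i)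
        rwa [Iso.hom_inv_id_apply, Iso.hom_inv_id_apply] at this
      · intro b
        refine ⟨fun i => α.inv (b i), ?_⟩
        funext i
        exact Iso.inv_hom_id_apply α (b i)
  have hbasis : IsBasisFam N (V.ι ''ᵁ ⊤) t₀ := by
    intro W hW
    obtain ⟨W', rfl⟩ : ∃ W' : (↑V : Scheme.{u}).Opens, W = V.ι ''ᵁ W' := by
      refine ⟨V.ι ⁻¹ᵁ W, ?_⟩
      rw [Scheme.Hom.image_preimage_eq_opensRange_inf, Scheme.Opens.opensRange_ι]
      refine (inf_eq_right.2 ?_).symm
      exact hW.trans (le_of_eq V.ι_image_top)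
    exact key W'
  exact ⟨_, hbasis.congr_open V.ι_image_top⟩

/-- Finite locally free modules have local basis families. -/
theorem exists_isBasisFam_of_isFinLocFree {N : X.Modules} (hN : FlatMod.IsFinLocFree N) (x : X) :
    ∃ (V : X.Opens) (n : ℕ) (e : Fin n → Γ(N, V)), x ∈ V ∧ IsBasisFam N V e := by
  obtain ⟨V, n, hxV, ⟨φ⟩⟩ := hN x
  obtain ⟨e, he⟩ := exists_isBasisFam_of_iso φ
  exact ⟨V, n, e, hxV, he⟩


section algebra

variable {R A B : Type*} [CommRing R] [AddCommGroup A] [Module R A] [AddCommGroup B] [Module R B]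
  {n : ℕ}

/-- the basis attached to a bijective linear combination map. -/
noncomputable def basisOfBij (τ : Fin n → B)
    (hτ : Function.Bijective (fun a : Fin n → R => ∑ i, a i • τ i)) : Module.Basis (Fin n) R B :=
  Module.Basis.ofEquivFun (LinearEquiv.ofBijective (Fintype.linearCombination R τ) (by
    have : (Fintype.linearCombination R τ : (Fin n → R) → B) = fun a => ∑ i, a i • τ i := by
      funext a
      exact Fintype.linearCombination_apply R τ a
    rw [this]
    exact hτ)).symm

theorem basisOfBij_apply (τ : Fin n → B)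
    (hτ : Function.Bijective (fun a : Fin n → R => ∑ i, a i • τ i)) (i : Fin n) :
    basisOfBij τ hτ i = τ i := by
  unfold basisOfBij
  rw [Module.Basis.coe_ofEquivFun]
  simp [Fintype.linearCombination_apply_single]

theorem bijective_sum_tmul (τ : Fin n → B)
    (hτ : Function.Bijective (fun a : Fin n → R => ∑ i, a i • τ i)) :
    Function.Bijective (fun a : Fin n → A => ∑ i, a i ⊗ₜ[R] τ i) := by
  have : (fun a : Fin n → A => ∑ i, a i ⊗ₜ[R] τ i) =
      (TensorProduct.equivFinsuppOfBasisRight (M := A) (basisOfBij τ hτ)).symm ∘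
        (Finsupp.equivFunOnFinite (α := Fin n) (M := A)).symm := by
    funext a
    simp only [Function.comp_apply]
    rw [TensorProduct.equivFinsuppOfBasisRight_symm_apply, Finsupp.sum_fintype _ _ (by simp)]
    refine Finset.sum_congr rfl fun i _ => ?_
    rw [basisOfBij_apply]
    rfl
  rw [this]
  exact (TensorProduct.equivFinsuppOfBasisRight (M := A) (basisOfBij τ hτ)).symm.bijective.comp
    (Finsupp.equivFunOnFinite (α := Fin n) (M := A)).symm.bijective

end algebra


theorem bijective_sum_pt (M N : X.Modules) (W : X.Opens) {n : ℕ} (τ : Fin n → Γ(N, W))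
    (hτ : Function.Bijective (fun a : Fin n → Γ(X, W) => ∑ i, a i • τ i)) :
    Function.Bijective (fun m : Fin n → Γ(M, W) => ∑ i, pt M N W (m i) (τ i)) :=
  bijective_sum_tmul (R := ((X.sheaf.obj ⋙ forget₂ CommRingCat RingCat).obj (op W)))
    (A := (CohB1.toPMod M).obj (op W)) (B := (CohB1.toPMod N).obj (op W)) τ hτ

theorem toTensor_sum_pt (M N : X.Modules) (W : X.Opens) {n : ℕ} (m : Fin n → Γ(M, W))
    (τ : Fin n → Γ(N, W)) :
    ((SecTwist.toTensor M N).app (op W)).hom (∑ i, pt M N W (m i) (τ i)) =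
      ∑ i, tm M N W (m i) (τ i) := by
  rw [map_sum]
  rfl

theorem sum_pt_res (M N : X.Modules) {W W' : X.Opens} (h : W' ≤ W) {n : ℕ} (m : Fin n → Γ(M, W))
    (τ : Fin n → Γ(N, W)) :
    (CohB1.tensorPre M N : X.PresheafOfModules).map (homOfLE h).op (∑ i, pt M N W (m i) (τ i)) =
      ∑ i, pt M N W' (mres M h (m i)) (mres N h (τ i)) := by
  rw [map_sum]
  rfl

theorem sum_tm_res (M N : X.Modules) {W W' : X.Opens} (h : W' ≤ W) {n : ℕ} (m : Fin n → Γ(M, W))
    (τ : Fin n → Γ(N, W)) :
    mres (CohB1.tensorMod M N) h (∑ i, tm M N W (m i) (τ i)) =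
      ∑ i, tm M N W' (mres M h (m i)) (mres N h (τ i)) := by
  rw [map_sum]
  exact Finset.sum_congr rfl fun i _ => tm_res M N h (m i) (τ i)

theorem tmFam_injective (M N : X.Modules) (V : X.Opens) {n : ℕ} (e : Fin n → Γ(N, V))
    (he : IsBasisFam N V e) (W : X.Opens) (hW : W ≤ V) (m m' : Fin n → Γ(M, W))
    (h : ∑ i, tm M N W (m i) (mres N hW (e i)) = ∑ i, tm M N W (m' i) (mres N hW (e i))) :
    m = m' := by
  funext i
  apply TopCat.Presheaf.section_ext ⟨M.presheaf, M.isSheaf⟩
  intro x hx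
  obtain ⟨W', hW', hxW', heq⟩ := toTensor_locInj M N W
    (∑ i, pt M N W (m i) (mres N hW (e i))) (∑ i, pt M N W (m' i) (mres N hW (e i)))
    (by rw [toTensor_sum_pt, toTensor_sum_pt]; exact h) x hx
  rw [sum_pt_res, sum_pt_res] at heq
  simp only [mres_mres] at heq
  have h1 : (fun i => mres M hW' (m i)) = fun i => mres M hW' (m' i) :=
    (bijective_sum_pt M N W' _ (he W' (hW'.trans hW))).1 heq
  have h2 := congrArg (M.presheaf.germ W' x hxW') (congrFun h1 i)
  rw [mres_apply, mres_apply, TopCat.Presheaf.germ_res_apply,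
    TopCat.Presheaf.germ_res_apply] at h2
  exact h2

theorem tmFam_surjective (M N : X.Modules) (V : X.Opens) {n : ℕ} (e : Fin n → Γ(N, V))
    (he : IsBasisFam N V e) (W : X.Opens) (hW : W ≤ V) (y : Γ(CohB1.tensorMod M N, W)) :
    ∃ m : Fin n → Γ(M, W), ∑ i, tm M N W (m i) (mres N hW (e i)) = y := by
  have hloc : ∀ x : W, ∃ (W' : X.Opens) (h : W' ≤ W), x.1 ∈ W' ∧ ∃ m : Fin n → Γ(M, W'),
      ∑ i, tm M N W' (m i) (mres N (h.trans hW) (e i)) = mres (CohB1.tensorMod M N) h y := by
    intro x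
    obtain ⟨W', h, hx, p, hp⟩ := toTensor_locSurj M N W y x.1 x.2
    obtain ⟨m, hm⟩ := (bijective_sum_pt M N W' _ (he W' (h.trans hW))).2 p
    refine ⟨W', h, hx, m, ?_⟩
    rw [← toTensor_sum_pt]
    have hm' : ∑ i, pt M N W' (m i) (mres N (h.trans hW) (e i)) = p := hm
    rw [hm']
    exact hp
  choose U hU hxU mm hmm using hloc
  have hcov : W ≤ iSup U := by
    intro x hx
    exact Opens.mem_iSup.mpr ⟨⟨x, hx⟩, hxU ⟨x, hx⟩⟩
  have hglue : ∀ i : Fin n, ∃ m : Γ(M, W), ∀ j, mres M (hU j) m = mm j i := by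
    intro i
    obtain ⟨m, hm, -⟩ := TopCat.Sheaf.existsUnique_gluing' ⟨M.presheaf, M.isSheaf⟩ U W
      (fun j => homOfLE (hU j)) hcov (fun j => mm j i) (by
        intro j k
        change mres M inf_le_left (mm j i) = mres M inf_le_right (mm k i)
        have key := tmFam_injective M N V e he (U j ⊓ U k) (inf_le_left.trans ((hU j).trans hW))
          (fun i => mres M inf_le_left (mm j i)) (fun i => mres M inf_le_right (mm k i)) (by
            have h1 := congrArg (mres (CohB1.tensorMod M N) (inf_le_left : U j ⊓ U k ≤ U j)) (hmm j)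
            have h2 := congrArg (mres (CohB1.tensorMod M N) (inf_le_right : U j ⊓ U k ≤ U k)) (hmm k)
            rw [sum_tm_res, mres_mres] at h1 h2
            simp only [mres_mres] at h1 h2
            rw [h1, h2])
        exact congrFun key i)
    exact ⟨m, hm⟩
  choose m hm using hglue
  refine ⟨m, ?_⟩
  apply TopCat.Sheaf.eq_of_locally_eq' ⟨(CohB1.tensorMod M N).presheaf,
    (CohB1.tensorMod M N).isSheaf⟩ U W (fun j => homOfLE (hU j)) hcov
  intro j
  change mres (CohB1.tensorMod M N) (hU j) (∑ i, tm M N W (m i) (mres N hW (e i))) =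
    mres (CohB1.tensorMod M N) (hU j) y
  rw [sum_tm_res]
  simp only [mres_mres, hm]
  exact hmm j

/-- tensoring with a module having a basis family `e` on `V`: over every `W ≤ V`, the map
`m ↦ ∑ m i ⊗ e i|_W` is a bijection `Γ(M, W)^n → Γ(M ⊗ N, W)`. -/
theorem tmFam_bijective (M N : X.Modules) (V : X.Opens) {n : ℕ} (e : Fin n → Γ(N, V))
    (he : IsBasisFam N V e) (W : X.Opens) (hW : W ≤ V) :
    Function.Bijective (fun m : Fin n → Γ(M, W) => ∑ i, tm M N W (m i) (mres N hW (e i))) :=
  ⟨fun m m' h => tmFam_injective M N V e he W hW m m' h,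
    fun y => tmFam_surjective M N V e he W hW y⟩


theorem tm_sum_left' (M N : X.Modules) (W : X.Opens) {ι : Type*} (s : Finset ι) (m : ι → Γ(M, W))
    (n : Γ(N, W)) : tm M N W (∑ i ∈ s, m i) n = ∑ i ∈ s, tm M N W (m i) n := by
  classical
  induction s using Finset.induction_on with
  | empty => simp [tm_zero_left]
  | insert a s ha ih => rw [Finset.sum_insert ha, Finset.sum_insert ha, tm_add_left, ih]

/-- the linear equivalence `Γ(M, W)^n ≃ Γ(M ⊗ N, W)` given by a basis family of `N`. -/
noncomputable def tmFamEquiv (M N : X.Modules) (V : X.Opens) {n : ℕ} (e : Fin n → Γ(N, V))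
    (he : IsBasisFam N V e) (W : X.Opens) (hW : W ≤ V) :
    (Fin n → Γ(M, W)) ≃ₗ[Γ(X, W)] Γ(CohB1.tensorMod M N, W) :=
  LinearEquiv.ofBijective
    { toFun := fun m => ∑ i, tm M N W (m i) (mres N hW (e i))
      map_add' := fun m m' => by
        simp only [Pi.add_apply, tm_add_left]
        exact Finset.sum_add_distrib
      map_smul' := fun r m => by
        simp only [Pi.smul_apply, tm_smul_left, RingHom.id_apply]
        exact Finset.smul_sum.symm }
    (tmFam_bijective M N V e he W hW)

theorem tmFamEquiv_apply (M N : X.Modules) (V : X.Opens) {n : ℕ} (e : Fin n → Γ(N, V))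
    (he : IsBasisFam N V e) (W : X.Opens) (hW : W ≤ V) (m : Fin n → Γ(M, W)) :
    tmFamEquiv M N V e he W hW m = ∑ i, tm M N W (m i) (mres N hW (e i)) := rfl

theorem projective_pi_fin {R P : Type*} [CommRing R] [AddCommGroup P] [Module R P]
    [Module.Projective R P] (n : ℕ) : Module.Projective R (Fin n → P) :=
  Module.Projective.of_equiv
    (DFinsupp.linearEquivFunOnFintype (R := R) (ι := Fin n) (M := fun _ => P))

/-- tensor products of finite locally free modules are finite locally free. -/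
theorem isFinLocFree_tensorMod {E D : X.Modules} (hE : FlatMod.IsFinLocFree E)
    (hD : FlatMod.IsFinLocFree D) : FlatMod.IsFinLocFree (CohB1.tensorMod E D) := by
  haveI := isQuasicoherent_of_isFinLocFree E hE
  haveI := isQuasicoherent_of_isFinLocFree D hD
  haveI : (CohB1.tensorMod E D).IsQuasicoherent :=
    (Groth.Agent.Lib.Helper11.TildeTensor.isQuasicoherent_tensorMod E D).1
  refine isFinLocFree_of_finite_projective_cover _ fun x => ?_
  obtain ⟨V, n, e, hxV, he⟩ := exists_isBasisFam_of_isFinLocFree hD x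
  obtain ⟨_, ⟨W, hW, rfl⟩, hxW, hWV⟩ := X.isBasis_affineOpens.exists_subset_of_mem_open hxV V.2
  obtain ⟨h1, h2⟩ := finite_projective_sections_of_isFinLocFree E hE hW
  let eq := tmFamEquiv E D V e he W hWV
  haveI := projective_pi_fin (R := Γ(X, W)) (P := Γ(E, W)) n
  exact ⟨W, hW, hxW, Module.Finite.equiv eq, Module.Projective.of_equiv eq⟩

end Groth.Agent.Lib.Helper11.FinFreeBasis
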