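import Mathlib
import Groth.Agent.Lib.Helper11.RelAmpleComp
import Groth.Agent.Lib.Helper11.TensorMap
import Groth.Agent.Lib.Helper20.CocycleMod

set_option autoImplicit false
/-!
# Quotients by sums of negative powers of an ample family (helper11)

`exists_inverse` (an invertible module has a tensor inverse, built with `Helper20.CocycleMod`),
`GenOnBy`, `genOnBy_twist_of_affine` (finitely many global sections of `G ⊗ P^k` generate over an
affine `X_s`), `twistHom` (the map `M ⟶ F` defined by a global section of `F ⊗ Q`, `M` inverse to `Q`),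
`twistHom_locally_surjective`, `epi_desc_of_locally_sum`, `exists_local_quotient`,
`exists_global_quotient`.
-/

namespace Groth.Agent.Lib.Helper11.NegPowers
open CategoryTheory CategoryTheory.Limits AlgebraicGeometry TopologicalSpace Opposite MonoidalCategory
open Groth.Agent.Lib.Helper45 Groth.Agent.Lib.Helper49 Groth.Agent.Lib.Helper11.GenLocus
open Groth.Agent.Lib.Helper20.CocycleMod Groth.Agent.Lib.Helper11.TensorMap

universe u
variable {X : Scheme.{u}}

section Inverse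

variable {Q : X.Modules} {ι : Type u} (V : ι → X.Opens) (t : ∀ i, Γ(Q, V i))
  (ht : ∀ i, IsBasisOn Q (V i) (t i))

include ht in
theorem exists_etaQ (i j : ι) : ∃ η : Γ(X, V i ⊓ V j),
    mres Q (inf_le_right : V i ⊓ V j ≤ V j) (t j) = η • mres Q (inf_le_left : V i ⊓ V j ≤ V i) (t i) := by
  obtain ⟨η, hη⟩ := ((ht i).mono (inf_le_left : V i ⊓ V j ≤ V i)).exists_eq_smul
    (mres Q (inf_le_right : V i ⊓ V j ≤ V j) (t j))
  exact ⟨η, hη.symm⟩

noncomputable def etaQ (ht : ∀ i, IsBasisOn Q (V i) (t i)) (i j : ι) : Γ(X, V i ⊓ V j) :=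
  (exists_etaQ V t ht i j).choose

theorem etaQ_spec (i j : ι) :
    mres Q (inf_le_right : V i ⊓ V j ≤ V j) (t j) =
      etaQ V t ht i j • mres Q (inf_le_left : V i ⊓ V j ≤ V i) (t i) :=
  (exists_etaQ V t ht i j).choose_spec

theorem etaQ_spec' (i j : ι) {W : X.Opens} (hW : W ≤ V i ⊓ V j) :
    mres Q (hW.trans inf_le_right) (t j) =
      fres hW (etaQ V t ht i j) • mres Q (hW.trans inf_le_left) (t i) := by
  have := congrArg (mres Q hW) (etaQ_spec V t ht i j)
  rw [mres_smul, mres_mres, mres_mres] at this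
  exact this

theorem etaQ_cocycle (i j k : ι) :
    fres (inf_le_inf_right (V k) inf_le_left : V i ⊓ V j ⊓ V k ≤ V i ⊓ V k) (etaQ V t ht i k) =
      fres (inf_le_left : V i ⊓ V j ⊓ V k ≤ V i ⊓ V j) (etaQ V t ht i j) *
        fres (inf_le_inf_right (V k) inf_le_right : V i ⊓ V j ⊓ V k ≤ V j ⊓ V k)
          (etaQ V t ht j k) := by
  have hb := (ht i).mono ((inf_le_left.trans inf_le_left : V i ⊓ V j ⊓ V k ≤ V i))
  apply hb.eq_of_smul_eq
  have h1 := etaQ_spec' V t ht i k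
    (inf_le_inf_right (V k) inf_le_left : V i ⊓ V j ⊓ V k ≤ V i ⊓ V k)
  have h2 := etaQ_spec' V t ht i j (inf_le_left : V i ⊓ V j ⊓ V k ≤ V i ⊓ V j)
  have h3 := etaQ_spec' V t ht j k
    (inf_le_inf_right (V k) inf_le_right : V i ⊓ V j ⊓ V k ≤ V j ⊓ V k)
  rw [← h1, mul_comm, mul_smul, ← h2, ← h3]

theorem etaQ_isUnit (i j : ι) : IsUnit (etaQ V t ht i j) := by
  have hle : V i ⊓ V j ≤ V j ⊓ V i := le_of_eq (inf_comm _ _)
  refine IsUnit.of_mul_eq_one (fres hle (etaQ V t ht j i)) ?_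
  have hb := (ht i).mono (inf_le_left : V i ⊓ V j ≤ V i)
  apply hb.eq_of_smul_eq
  have h1 := etaQ_spec V t ht i j
  have h2 := etaQ_spec' V t ht j i hle
  rw [one_smul, mul_comm, mul_smul, ← h1, ← h2]

/-- the inverse module. -/
noncomputable abbrev invMod (ht : ∀ i, IsBasisOn Q (V i) (t i)) : X.Modules :=
  cocycleMod V (etaQ V t ht)

theorem isInvertible_invMod (hV : iSup V = ⊤) : PicF.IsInvertible (invMod V t ht) :=
  isInvertible_cocycleMod _ _ (etaQ_cocycle V t ht) (etaQ_isUnit V t ht) hV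

theorem exists_unit_section (hV : iSup V = ⊤) :
    ∃ σ : Γ(CohB1.tensorMod (invMod V t ht) Q, ⊤),
      IsBasisOn (CohB1.tensorMod (invMod V t ht) Q) ⊤ σ := by
  set M := invMod V t ht with hM
  let bs : ∀ i, Γ(M, V i) := fun i => basisSec V (etaQ V t ht) (etaQ_cocycle V t ht) i
  have hbs : ∀ i, IsBasisOn M (V i) (bs i) := fun i =>
    isBasisOn_basisSec V (etaQ V t ht) (etaQ_cocycle V t ht) (etaQ_isUnit V t ht) i
  let β : ∀ i, Γ(CohB1.tensorMod M Q, V i) := fun i => tm M Q (V i) (bs i) (t i)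
  have hβ : ∀ i, IsBasisOn (CohB1.tensorMod M Q) (V i) (β i) := fun i =>
    isBasisOn_tm (hbs i) (ht i)
  have hcompat : ∀ i j, mres (CohB1.tensorMod M Q) (inf_le_left : V i ⊓ V j ≤ V i) (β i) =
      mres (CohB1.tensorMod M Q) (inf_le_right : V i ⊓ V j ≤ V j) (β j) := by
    intro i j
    change mres _ _ (tm M Q (V i) (bs i) (t i)) = mres _ _ (tm M Q (V j) (bs j) (t j))
    rw [tm_res, tm_res]
    have h1 : mres M (inf_le_left : V i ⊓ V j ≤ V i) (bs i) =
        etaQ V t ht i j • mres M (inf_le_right : V i ⊓ V j ≤ V j) (bs j) :=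
      basisSec_transition V (etaQ V t ht) (etaQ_cocycle V t ht) i j
    rw [h1, etaQ_spec V t ht i j, tm_smul_left, tm_smul_right]
  obtain ⟨(σ : Γ(CohB1.tensorMod M Q, ⊤)), hσ, -⟩ := TopCat.Sheaf.existsUnique_gluing'
    ⟨(CohB1.tensorMod M Q).presheaf, (CohB1.tensorMod M Q).isSheaf⟩ V ⊤
    (fun i => homOfLE le_top) (le_of_eq hV.symm) β hcompat
  refine ⟨σ, IsBasisOn.of_cover V ⊤ (fun i => le_top) (le_of_eq hV.symm) σ (fun i => ?_)⟩
  have : mres (CohB1.tensorMod M Q) (le_top : V i ≤ ⊤) σ = β i := hσ i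
  rw [this]
  exact hβ i

end Inverse

theorem exists_inverse {Q : X.Modules} (hQ : PicF.IsInvertible Q) :
    ∃ M : X.Modules, PicF.IsInvertible M ∧
      Nonempty (CohB1.tensorMod M Q ≅ Coh.structureModule X) := by
  choose V hxV t ht using fun x => exists_isBasisOn_of_isInvertible hQ x
  have hV : iSup V = ⊤ := eq_top_iff.mpr fun x _ => Opens.mem_iSup.mpr ⟨x, hxV x⟩
  obtain ⟨σ, hσ⟩ := exists_unit_section V t ht hV
  have := Groth.Agent.Lib.Helper11.PullbackBasis.isIso_homOfSection_of_isBasisOn σ hσ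
  exact ⟨invMod V t ht, isInvertible_invMod V t ht hV, ⟨(asIso (homOfSection _ σ)).symm⟩⟩

/-- finitely many global sections of `T` generate `T` at all points of `U`. -/
def GenOnBy (T : X.Modules) {r : ℕ} (v : Fin r → Γ(T, ⊤)) (U : X.Opens) : Prop :=
  ∀ (V : X.Opens) (_ : V ≤ U) (a : Γ(T, V)) (x : X), x ∈ V →
    ∃ (W : X.Opens) (hWV : W ≤ V), x ∈ W ∧
      mres T hWV a ∈ Submodule.span Γ(X, W)
        (Set.range fun j : Fin r => mres T (le_top : W ≤ ⊤) (v j))

theorem genOnBy_twist_of_affine [CompactSpace X] [QuasiSeparatedSpace X] (G P : X.Modules)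
    [G.IsQuasicoherent] (hG : SheafOfModules.IsFiniteType (R := X.ringCatSheaf) G)
    (hP : PicF.IsInvertible P) (s : Coh.structureModule X ⟶ P)
    (hA : IsAffineOpen (CohB1.genLocus P s)) :
    ∃ K : ℕ, ∀ k, K ≤ k → ∃ (r : ℕ) (v : Fin r → Γ(CohB1.tensorMod G (CohB1.tensorPow P k), ⊤)),
      GenOnBy (CohB1.tensorMod G (CohB1.tensorPow P k)) v (CohB1.genLocus P s) := by
  classical
  have hfin : Module.Finite Γ(X, CohB1.genLocus P s) Γ(G, CohB1.genLocus P s) :=
    finite_sections_of_isFiniteType G hG hA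
  obtain ⟨r, g, hg⟩ := Module.Finite.exists_fin (R := Γ(X, CohB1.genLocus P s))
    (M := Γ(G, CohB1.genLocus P s))
  choose N₀ hN₀ using fun j => exists_twist_extends_ge X P hP s G (g j)
  refine ⟨Finset.univ.sup N₀, fun k hk => ?_⟩
  have hk' : ∀ j, N₀ j ≤ k := fun j => (Finset.le_sup (Finset.mem_univ j)).trans hk
  choose t ht using fun j => hN₀ j k (hk' j)
  have hbasis : IsBasisOn P (CohB1.genLocus P s) (sec s (CohB1.genLocus P s)) :=
    (le_genLocus_iff_isBasisOn s _).mp le_rfl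
  have hτ := isBasisOn_powSec hbasis k
  have ht' : ∀ j, mres _ (le_top : CohB1.genLocus P s ≤ ⊤) (t j) =
      tm G (CohB1.tensorPow P k) (CohB1.genLocus P s) (g j)
        (powSec P (CohB1.genLocus P s) (sec s (CohB1.genLocus P s)) k) := by
    intro j
    rw [ht j, toΓ_twist_eq_loc s G k _ (sec s (CohB1.genLocus P s)) 1 (one_smul _ _).symm,
      one_pow, one_smul]
    rfl
  refine ⟨r, t, ?_⟩
  intro V hV a x hxV
  obtain ⟨f, hfV, hxf⟩ := hA.exists_basicOpen_le (V := V) ⟨x, hxV⟩ (hV hxV)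
  have hWU : X.basicOpen f ≤ CohB1.genLocus P s := X.basicOpen_le f
  refine ⟨X.basicOpen f, hfV, hxf, ?_⟩
  obtain ⟨b, hb⟩ := tm_basis_surjective G (CohB1.tensorPow P k) _ _ hτ V hV a
  obtain ⟨n, β, hβ⟩ := exists_restrict_eq_pow_smul_of_qcqs G hA.isCompact hA.isQuasiSeparated f
    (mres G hfV b)
  have key : ∀ β' ∈ Submodule.span Γ(X, CohB1.genLocus P s) (Set.range g),
      tm G (CohB1.tensorPow P k) (X.basicOpen f) (mres G hWU β')
        (mres _ hWU (powSec P (CohB1.genLocus P s) (sec s (CohB1.genLocus P s)) k)) ∈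
      Submodule.span Γ(X, X.basicOpen f)
        (Set.range fun j : Fin r =>
          mres _ (le_top : X.basicOpen f ≤ ⊤) (t j)) := by
    intro β' hβ'
    induction hβ' using Submodule.span_induction with
    | mem β' h =>
      obtain ⟨j, rfl⟩ := h
      refine Submodule.subset_span ⟨j, ?_⟩
      have := congrArg (mres _ hWU) (ht' j)
      rw [mres_mres, tm_res] at this
      exact this
    | zero =>
      rw [map_zero, tm_zero_left]
      exact Submodule.zero_mem _
    | add β₁ β₂ _ _ h₁ h₂ =>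
      rw [map_add, tm_add_left]
      exact Submodule.add_mem _ h₁ h₂
    | smul c β' _ h =>
      rw [mres_smul, tm_smul_left]
      exact Submodule.smul_mem _ _ h
  have hβmem : β ∈ Submodule.span Γ(X, CohB1.genLocus P s) (Set.range g) := hg ▸ Submodule.mem_top
  have h3 := key β hβmem
  have h4 : mres _ hfV a = tm G _ (X.basicOpen f) (mres G hfV b)
      (mres _ hWU (powSec P (CohB1.genLocus P s) (sec s (CohB1.genLocus P s)) k)) := by
    rw [← hb, tm_res, mres_mres]
  have hunit : IsUnit (fres (X.basicOpen_le f) f) := RingedSpace.isUnit_res_basicOpen _ f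
  obtain ⟨u, hu⟩ := hunit.pow n
  have h5 : mres G hfV b = (↑u⁻¹ : Γ(X, X.basicOpen f)) • mres G hWU β := by
    have hβ' : mres G hWU β = (↑u : Γ(X, X.basicOpen f)) • mres G hfV b := by
      rw [hu]; exact hβ
    rw [hβ', smul_smul, Units.inv_mul, one_smul]
  rw [h4, h5, tm_smul_left]
  exact Submodule.smul_mem _ _ h3

section Twist

variable {F Q M : X.Modules}

theorem tm_sum_left (A B : X.Modules) (W : X.Opens) {κ : Type*} (S : Finset κ) (a : κ → Γ(A, W))
    (b : Γ(B, W)) : tm A B W (∑ j ∈ S, a j) b = ∑ j ∈ S, tm A B W (a j) b := by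
  classical
  induction S using Finset.induction_on with
  | empty => simp [tm_zero_left]
  | insert j S hj ih => rw [Finset.sum_insert hj, Finset.sum_insert hj, tm_add_left, ih]

/-- `(F ⊗ Q) ⊗ M ≅ F` when `Q ⊗ M ≅ O`. -/
noncomputable def psiIso (F : X.Modules) {Q M : X.Modules}
    (ε : CohB1.tensorMod Q M ≅ Coh.structureModule X) :
    CohB1.tensorMod (CohB1.tensorMod F Q) M ≅ F :=
  tensorModAssoc F Q M ≪≫ tensorModCongr (Iso.refl F) ε ≪≫ tensorUnitIso F

/-- the morphism `M ⟶ F` defined by a global section of `F ⊗ Q`, where `M` is inverse to `Q`. -/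
noncomputable def twistHom (v : Γ(CohB1.tensorMod F Q, ⊤))
    (ε : CohB1.tensorMod Q M ≅ Coh.structureModule X) : M ⟶ F :=
  (unitTensorIso M).inv ≫ tensorModMap (homOfSection _ v) (𝟙 M) ≫ (psiIso F ε).hom

theorem iso_hom_inv_app {A B : X.Modules} (e : A ≅ B) (W : X.Opens) (y : Γ(B, W)) :
    e.hom.app W (e.inv.app W y) = y := by
  have := congrArg (fun φ => φ.app W y) e.inv_hom_id
  exact this

theorem iso_inv_hom_app {A B : X.Modules} (e : A ≅ B) (W : X.Opens) (y : Γ(A, W)) :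
    e.inv.app W (e.hom.app W y) = y := by
  have := congrArg (fun φ => φ.app W y) e.hom_inv_id
  exact this

theorem twistHom_app (v : Γ(CohB1.tensorMod F Q, ⊤))
    (ε : CohB1.tensorMod Q M ≅ Coh.structureModule X) (W : X.Opens) (c : Γ(X, W)) (μ : Γ(M, W)) :
    (twistHom v ε).app W ((unitTensorIso M).hom.app W (tm _ M W (toO W c) μ)) =
      (psiIso F ε).hom.app W (tm _ M W (c • mres _ (le_top : W ≤ ⊤) v) μ) := by
  have h1 : (twistHom v ε).app W ((unitTensorIso M).hom.app W (tm _ M W (toO W c) μ)) =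
      (psiIso F ε).hom.app W ((tensorModMap (homOfSection _ v) (𝟙 M)).app W
        ((unitTensorIso M).inv.app W ((unitTensorIso M).hom.app W (tm _ M W (toO W c) μ)))) := rfl
  rw [h1, iso_inv_hom_app, tensorModMap_tm_id]
  have h2 : (homOfSection (CohB1.tensorMod F Q) v).app W (toO W c) =
      c • mres _ (le_top : W ≤ ⊤) v := by
    have := app_eq_smul_sec (homOfSection (CohB1.tensorMod F Q) v) W c
    rw [sec_homOfSection] at this
    exact this
  rw [h2]

theorem twistHom_locally_surjective {r : ℕ} (v : Fin r → Γ(CohB1.tensorMod F Q, ⊤)) (G : X.Opens)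
    (hgen : GenOnBy (CohB1.tensorMod F Q) v G) (hM : PicF.IsInvertible M)
    (ε : CohB1.tensorMod Q M ≅ Coh.structureModule X)
    (V : X.Opens) (hVG : V ≤ G) (y : Γ(F, V)) (x : X) (hx : x ∈ V) :
    ∃ (W : X.Opens) (hWV : W ≤ V), x ∈ W ∧ ∃ m : Fin r → Γ(M, W),
      mres F hWV y = ∑ j, (twistHom (v j) ε).app W (m j) := by
  set y' := (psiIso F ε).inv.app V y with hy'
  have hyy' : (psiIso F ε).hom.app V y' = y := iso_hom_inv_app _ V y
  obtain ⟨V', hxV', μ, hμ⟩ := exists_isBasisOn_of_isInvertible hM x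
  obtain ⟨w, hw⟩ := tm_basis_surjective (CohB1.tensorMod F Q) M V' μ hμ (V ⊓ V') inf_le_right
    (mres _ inf_le_left y')
  obtain ⟨W, hWV₁, hxW, hmem⟩ := hgen (V ⊓ V') (inf_le_left.trans hVG) w x ⟨hx, hxV'⟩
  obtain ⟨c, hc⟩ := (Submodule.mem_span_range_iff_exists_fun _).mp hmem
  refine ⟨W, hWV₁.trans inf_le_left, hxW,
    fun j => (unitTensorIso M).hom.app W (tm _ M W (toO W (c j)) (mres M (hWV₁.trans inf_le_right) μ)), ?_⟩
  simp only [twistHom_app]
  rw [← map_sum, ← tm_sum_left, hc]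
  have h3 := congrArg (mres _ hWV₁) hw
  rw [tm_res, mres_mres, mres_mres] at h3
  rw [h3, app_mres, hyy']

end Twist

section Epi

attribute [local instance] Abelian.hasFiniteBiproducts

theorem epi_desc_of_locally_sum {F : X.Modules} {k : ℕ} (N : Fin k → X.Modules)
    (φ : ∀ j, N j ⟶ F)
    (h : ∀ (V : X.Opens) (y : Γ(F, V)) (x : X), x ∈ V → ∃ (W : X.Opens) (hWV : W ≤ V), x ∈ W ∧
      ∃ m : ∀ j, Γ(N j, W), mres F hWV y = ∑ j, (φ j).app W (m j)) :
    Epi (biproduct.desc φ) := by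
  refine Preadditive.epi_of_cancel_zero _ fun {Z} g hg => ?_
  have hj : ∀ j, φ j ≫ g = 0 := by
    intro j
    rw [← biproduct.ι_desc_assoc φ j, hg, comp_zero]
  apply Scheme.Modules.hom_ext
  intro V
  ext y
  choose W hWV hxW m hm using fun x : V => h V y x.1 x.2
  refine TopCat.Sheaf.eq_of_locally_eq' ⟨Z.presheaf, Z.isSheaf⟩ W V (fun x => homOfLE (hWV x))
    (fun x hx => Opens.mem_iSup.mpr ⟨⟨x, hx⟩, hxW ⟨x, hx⟩⟩) _ _ (fun x => ?_)
  change mres Z (hWV x) (g.app V y) = mres Z (hWV x) 0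
  rw [map_zero, ← app_mres, hm x, map_sum]
  apply Finset.sum_eq_zero
  intro j _
  have := congrArg (fun ψ => ψ.app (W x) (m x j)) (hj j)
  exact this

end Epi

theorem GenOnBy.of_iso {T T' : X.Modules} (φ : T ≅ T') {U : X.Opens} {r : ℕ}
    {v : Fin r → Γ(T, ⊤)} (h : GenOnBy T v U) :
    GenOnBy T' (fun j => φ.hom.app ⊤ (v j)) U := by
  intro V hV a' x hx
  obtain ⟨W, hWV, hxW, hmem⟩ := h V hV ((φ.inv.app V).hom a') x hx
  refine ⟨W, hWV, hxW, ?_⟩
  have key : ∀ b ∈ Submodule.span Γ(X, W)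
      (Set.range fun j : Fin r => mres T (le_top : W ≤ ⊤) (v j)),
      (φ.hom.app W).hom b ∈ Submodule.span Γ(X, W)
        (Set.range fun j : Fin r => mres T' (le_top : W ≤ ⊤) (φ.hom.app ⊤ (v j))) := by
    intro b hb
    induction hb using Submodule.span_induction with
    | mem b hb =>
      obtain ⟨j, rfl⟩ := hb
      refine Submodule.subset_span ⟨j, ?_⟩
      exact app_res φ.hom (le_top : W ≤ ⊤) (v j)
    | zero => rw [map_zero]; exact Submodule.zero_mem _
    | add b c _ _ hb hc => rw [map_add]; exact Submodule.add_mem _ hb hc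
    | smul r b _ hb =>
      rw [Scheme.Modules.Hom.app_smul]
      exact Submodule.smul_mem _ _ hb
  have h1 := key _ hmem
  have h2 : (φ.hom.app W).hom (mres T hWV ((φ.inv.app V).hom a')) = mres T' hWV a' := by
    have := congrArg (fun ψ : T' ⟶ T' => (ψ.app V).hom a') φ.inv_hom_id
    exact (app_res φ.hom hWV _).symm.trans (congrArg (mres T' hWV) this)
  rwa [h2] at h1

/-- local resolution by a negative power: over an affine `X_s`, `s` a section of `L₀^{n+1}`. -/
theorem exists_local_quotient [CompactSpace X] [QuasiSeparatedSpace X] (F : X.Modules)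
    [F.IsQuasicoherent] (hF : SheafOfModules.IsFiniteType (R := X.ringCatSheaf) F)
    (L₀ : X.Modules) (hL₀ : PicF.IsInvertible L₀) (n : ℕ)
    (s : Coh.structureModule X ⟶ CohB1.tensorPow L₀ (n + 1))
    (ha : IsAffineOpen (CohB1.genLocus _ s)) :
    ∃ (k : ℕ) (M : X.Modules) (r : ℕ) (φ : Fin r → (M ⟶ F)), 0 < k ∧
      Nonempty (CohB1.tensorMod M (CohB1.tensorPow L₀ k) ≅ Coh.structureModule X) ∧
      PicF.IsInvertible M ∧
      ∀ (V : X.Opens) (_ : V ≤ CohB1.genLocus _ s) (y : Γ(F, V)) (x : X), x ∈ V →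
        ∃ (W : X.Opens) (hWV : W ≤ V), x ∈ W ∧ ∃ m : Fin r → Γ(M, W),
          mres F hWV y = ∑ j, (φ j).app W (m j) := by
  have hP := isInvertible_tensorPow hL₀ (n + 1)
  obtain ⟨K, hK⟩ := genOnBy_twist_of_affine F (CohB1.tensorPow L₀ (n + 1)) hF hP s ha
  obtain ⟨r, v, hv⟩ := hK (K + 1) (Nat.le_succ K)
  have hQ := isInvertible_tensorPow hL₀ ((n + 1) * (K + 1))
  let θ := tensorModCongr (Iso.refl F) (tensorPowMul L₀ (n + 1) (K + 1))
  have hv' := hv.of_iso θ
  obtain ⟨M, hM, ⟨e₁⟩⟩ := exists_inverse hQ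
  let ε := tensorModBraid (CohB1.tensorPow L₀ ((n + 1) * (K + 1))) M ≪≫ e₁
  refine ⟨(n + 1) * (K + 1), M, r, fun j => twistHom (θ.hom.app ⊤ (v j)) ε,
    Nat.mul_pos (Nat.succ_pos n) (Nat.succ_pos K), ⟨e₁⟩, hM, ?_⟩
  intro V hV y x hx
  exact twistHom_locally_surjective _ _ hv' hM ε V hV y x hx

section Global

attribute [local instance] Abelian.hasFiniteBiproducts

theorem exists_global_quotient [CompactSpace X] (F : X.Modules) (P : X.Modules → Prop)
    (hloc : ∀ x : X, ∃ (G : X.Opens) (M : X.Modules) (r : ℕ) (φ : Fin r → (M ⟶ F)), x ∈ G ∧ P M ∧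
        ∀ (V : X.Opens) (_ : V ≤ G) (y : Γ(F, V)) (z : X), z ∈ V →
          ∃ (W : X.Opens) (hWV : W ≤ V), z ∈ W ∧ ∃ m : Fin r → Γ(M, W),
            mres F hWV y = ∑ j, (φ j).app W (m j)) :
    ∃ (k : ℕ) (N : Fin k → X.Modules) (π : (⨁ N) ⟶ F), (∀ j, P (N j)) ∧ Epi π := by
  classical
  choose G M r φ hxG hP hsurj using hloc
  obtain ⟨S, hS⟩ := isCompact_univ.elim_finite_subcover (fun x => ((G x : X.Opens) : Set X))
    (fun x => (G x).isOpen) (fun x _ => Set.mem_iUnion.mpr ⟨x, hxG x⟩)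
  let J := Σ x : S, Fin (r x.1)
  let e : J ≃ Fin (Fintype.card J) := Fintype.equivFin J
  let N' : J → X.Modules := fun p => M p.1.1
  let φ' : ∀ p : J, N' p ⟶ F := fun p => φ p.1.1 p.2
  refine ⟨Fintype.card J, fun j' => N' (e.symm j'), biproduct.desc (fun j' => φ' (e.symm j')),
    fun j' => hP _, ?_⟩
  apply epi_desc_of_locally_sum
  intro V y z hz
  obtain ⟨x, hxS, hzx⟩ := Set.mem_iUnion₂.mp (hS (Set.mem_univ z))
  have hzx' : z ∈ G x := hzx
  obtain ⟨W, hWV₁, hzW, m, hm⟩ := hsurj x (V ⊓ G x) inf_le_right (mres F inf_le_left y) z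
    ⟨hz, hzx'⟩
  let m'' : ∀ x' : S, Fin (r x'.1) → Γ(M x'.1, W) := Pi.single (⟨x, hxS⟩ : S) m
  refine ⟨W, hWV₁.trans inf_le_left, hzW, fun j' => m'' (e.symm j').1 (e.symm j').2, ?_⟩
  rw [mres_mres] at hm
  rw [hm]
  have h1 : ∑ j', (φ' (e.symm j')).app W (m'' (e.symm j').1 (e.symm j').2) =
      ∑ p : J, (φ' p).app W (m'' p.1 p.2) :=
    Equiv.sum_comp e.symm (fun p : J => (φ' p).app W (m'' p.1 p.2))
  rw [h1, Fintype.sum_sigma, Finset.sum_eq_single (⟨x, hxS⟩ : S)]
  · simp only [m'', Pi.single_eq_same]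
    rfl
  · intro x' _ hne
    apply Finset.sum_eq_zero
    intro j _
    simp only [m'', Pi.single_eq_of_ne hne]
    exact map_zero _
  · intro h
    exact absurd (Finset.mem_univ _) h

end Global

end Groth.Agent.Lib.Helper11.NegPowers
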