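import Mathlib

/-!
Pullback of `tilde` along a morphism of affine schemes is `tilde` of the base change (helper11).
-/

set_option autoImplicit false
universe u

namespace Groth.Agent.Lib.Helper11

open AlgebraicGeometry CategoryTheory TensorProduct Opposite

/-- Global sections of the pushforward along `Spec.map φ` is restriction of scalars of global
sections. -/
noncomputable def pushΓIso {R S : CommRingCat.{u}} (φ : R ⟶ S) :
    Scheme.Modules.pushforward (Spec.map φ) ⋙ moduleSpecΓFunctor (R := R) ≅
      moduleSpecΓFunctor (R := S) ⋙ ModuleCat.restrictScalars φ.hom :=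
  (Functor.associator _ _ _).symm ≪≫
    Functor.isoWhiskerRight (pushforwardCompModulesSpecToSheafIso φ)
      (TopCat.Sheaf.forget _ _ ⋙ (evaluation _ _).obj (.op ⊤)) ≪≫
    NatIso.ofComponents (fun M => Iso.refl _) (by intros; rfl)

/-- `(Spec φ)^* (M^~) ≅ (S ⊗[R] M)^~`, naturally in `M`. -/
noncomputable def tildePullbackIso {R S : CommRingCat.{u}} (φ : R ⟶ S) :
    tilde.functor R ⋙ Scheme.Modules.pullback (Spec.map φ) ≅
      ModuleCat.extendScalars φ.hom ⋙ tilde.functor S :=
  let adj₁ := (tilde.adjunction (R := R)).comp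
    (Scheme.Modules.pullbackPushforwardAdjunction (Spec.map φ))
  let adj₂ := (ModuleCat.extendRestrictScalarsAdj.{u} φ.hom).comp (tilde.adjunction (R := S))
  (adj₁.ofNatIsoRight (pushΓIso φ)).leftAdjointUniq adj₂


/-- For an honest algebra: the pullback of `N'^~` is `(A ⊗[A'] N')^~`. -/
theorem nonempty_pullback_tilde_iso
    (A' A : Type u) [CommRing A'] [CommRing A] [Algebra A' A]
    (N' : Type u) [AddCommGroup N'] [Module A' N'] :
    Nonempty ((Scheme.Modules.pullback (Spec.map (CommRingCat.ofHom (algebraMap A' A)))).obj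
        (tilde (ModuleCat.of A' N')) ≅ tilde (ModuleCat.of A (A ⊗[A'] N'))) := by
  obtain ⟨f, hf⟩ : ∃ f : A' →+* A, (‹Algebra A' A› : Algebra A' A) = f.toAlgebra :=
    ⟨algebraMap A' A, Algebra.algebra_ext _ _ fun _ => rfl⟩
  subst hf
  exact ⟨(tildePullbackIso (CommRingCat.ofHom f)).app (ModuleCat.of A' N')⟩

end Groth.Agent.Lib.Helper11
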