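import Mathlib
import Groth.Agent.Lib.Helper11.TildePullback
import Groth.Agent.Lib.Helper49.FiniteTypeAffine

/-!
# Pullback of quasi-coherent modules on affine charts

For `i : Z ⟶ X`, affine opens `W ⊆ Z`, `U ⊆ X` with `W ≤ i⁻¹U` and a morphism `u : F ⟶ G` of
quasi-coherent `𝒪_X`-modules, `chartArrowIso` identifies (as arrows) the restriction of `i^* u`
to `Spec Γ(Z, W)` with the tilde of `Γ(Z, W) ⊗_{Γ(X, U)} Γ(U, u)`.
Consequences: `extendScalars_map_ΓU_eq_zero`, `epi_extendScalars_map_ΓU`, and the sectionwise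
`app_mem_ker_smul_top`.
-/

set_option autoImplicit false
universe u

open AlgebraicGeometry CategoryTheory Limits

namespace Groth.Agent.Lib.Helper11.PullbackChart

/-- A natural isomorphism gives an isomorphism of arrows. -/
def arrowIsoOfNatIso {C D : Type*} [Category C] [Category D] {F₁ F₂ : C ⥤ D} (α : F₁ ≅ F₂)
    {X Y : C} (u : X ⟶ Y) : Arrow.mk (F₁.map u) ≅ Arrow.mk (F₂.map u) :=
  Arrow.isoMk (α.app X) (α.app Y) (by simp)

set_option backward.isDefEq.respectTransparency false in
/-- On `Spec R`, a morphism of quasi-coherent modules is (as an arrow) the tilde of its map on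
global sections. -/
noncomputable def arrowIsoTildeΓ {R : CommRingCat.{u}} {F G : (Spec R).Modules}
    [F.IsQuasicoherent] [G.IsQuasicoherent] (u : F ⟶ G) :
    Arrow.mk u ≅ Arrow.mk (tilde.map ((moduleSpecΓFunctor (R := R)).map u)) :=
  have _hF : IsIso (Scheme.Modules.fromTildeΓ (R := R) F) := inferInstance
  have _hG : IsIso (Scheme.Modules.fromTildeΓ (R := R) G) := inferInstance
  (Arrow.isoMk (asIso (Scheme.Modules.fromTildeΓ (R := R) F))
    (asIso (Scheme.Modules.fromTildeΓ (R := R) G))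
    (Scheme.Modules.fromTildeΓNatTrans.naturality u).symm).symm

section arrows

theorem eq_zero_of_arrow_iso {C : Type*} [Category C] [HasZeroMorphisms C] {f g : Arrow C}
    (e : f ≅ g) (h : f.hom = 0) : g.hom = 0 := by
  have h1 : e.inv.left ≫ f.hom = g.hom ≫ e.inv.right := Arrow.w e.inv
  have h2 : g.hom = (e.inv.left ≫ f.hom) ≫ e.hom.right := by
    rw [h1, Category.assoc, ← Arrow.comp_right, e.inv_hom_id, Arrow.id_right, Category.comp_id]
  rw [h2, h, comp_zero, zero_comp]

theorem epi_of_arrow_iso {C : Type*} [Category C] {f g : Arrow C} (e : f ≅ g) (h : Epi f.hom) :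
    Epi g.hom :=
  ((MorphismProperty.epimorphisms C).arrow_iso_iff e).mp h

theorem isIso_of_arrow_iso {C : Type*} [Category C] {f g : Arrow C} (e : f ≅ g)
    (h : IsIso f.hom) : IsIso g.hom :=
  ((MorphismProperty.isomorphisms C).arrow_iso_iff e).mp h

end arrows

section algebra

open TensorProduct in
theorem mem_ker_smul_top_of_one_tmul_eq_zero {R S : Type*} [CommRing R] [CommRing S] [Algebra R S]
    (hs : Function.Surjective (algebraMap R S)) {Q : Type*} [AddCommGroup Q] [Module R Q] (n : Q)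
    (h : (1 : S) ⊗ₜ[R] n = 0) :
    n ∈ (RingHom.ker (algebraMap R S)) • (⊤ : Submodule R Q) := by
  let e : (R ⧸ RingHom.ker (algebraMap R S)) ≃ₐ[R] S :=
    Ideal.quotientKerAlgEquivOfSurjective (f := Algebra.ofId R S) hs
  have h1 := congrArg (e.symm.toLinearMap.rTensor Q) h
  rw [LinearMap.rTensor_tmul, map_zero] at h1
  have h2 : e.symm.toLinearMap (1 : S) = 1 := map_one e.symm
  rw [h2] at h1
  have h3 := congrArg (TensorProduct.quotTensorEquivQuotSMul Q (RingHom.ker (algebraMap R S))) h1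
  rw [TensorProduct.quotTensorEquivQuotSMul_mk_one_tmul, map_zero,
    Submodule.Quotient.mk_eq_zero] at h3
  exact h3

theorem apply_mem_ker_smul_top_of_extendScalars_map_eq_zero {R S : Type u} [CommRing R]
    [CommRing S] (f : R →+* S) (hf : Function.Surjective f) {P Q : ModuleCat.{u} R} (v : P ⟶ Q)
    (h : (ModuleCat.extendScalars f).map v = 0) (p : P) :
    v.hom p ∈ (RingHom.ker f) • (⊤ : Submodule R Q) := by
  let _ := f.toAlgebra
  have h1 : (ModuleCat.extendScalars f).map v ((1 : S) ⊗ₜ[R] p) = 0 := by rw [h]; rfl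
  exact mem_ker_smul_top_of_one_tmul_eq_zero (R := R) (S := S) hf (v.hom p) h1

end algebra

section chart

variable {Z X : Scheme.{u}} (i : Z ⟶ X) {U : X.Opens} (hU : IsAffineOpen U) {W : Z.Opens}
  (hW : IsAffineOpen W) (hWU : W ≤ i ⁻¹ᵁ U) {F G : X.Modules} [F.IsQuasicoherent]
  [G.IsQuasicoherent] (u : F ⟶ G)

/-- The module map `Γ(U, F) → Γ(U, G)`, in the form of global sections of the restriction to
`Spec Γ(X, U)`. -/
noncomputable def ΓU : X.Modules ⥤ ModuleCat.{u} Γ(X, U) :=
  Scheme.Modules.restrictFunctor hU.fromSpec ⋙ moduleSpecΓFunctor (R := Γ(X, U))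

/-- **Chart formula for pullbacks**: over affine charts `W ⊆ Z`, `U ⊆ X` with `W ≤ i⁻¹U`, the
pullback `i^* u` restricted to `Spec Γ(Z, W)` is the tilde of `Γ(Z, W) ⊗ Γ(U, u)`. -/
noncomputable def chartArrowIso :
    Arrow.mk ((Scheme.Modules.pullback hW.fromSpec).map ((Scheme.Modules.pullback i).map u)) ≅
      Arrow.mk (tilde.map ((ModuleCat.extendScalars (i.appLE U W hWU).hom).map
        ((ΓU hU).map u))) :=
  arrowIsoOfNatIso (Scheme.Modules.pullbackComp hW.fromSpec i) u ≪≫
  arrowIsoOfNatIso (Scheme.Modules.pullbackCongr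
    (IsAffineOpen.SpecMap_appLE_fromSpec i hU hW hWU).symm) u ≪≫
  arrowIsoOfNatIso (Scheme.Modules.pullbackComp (Spec.map (i.appLE U W hWU)) hU.fromSpec).symm u ≪≫
  (Scheme.Modules.pullback (Spec.map (i.appLE U W hWU))).mapArrow.mapIso
    (arrowIsoOfNatIso (Scheme.Modules.restrictFunctorIsoPullback hU.fromSpec).symm u ≪≫
      arrowIsoTildeΓ ((Scheme.Modules.restrictFunctor hU.fromSpec).map u)) ≪≫
  arrowIsoOfNatIso (tildePullbackIso (i.appLE U W hWU)) ((ΓU hU).map u)


include hW hWU in
/-- If `i^* u = 0` then `Γ(Z, W) ⊗ Γ(U, u) = 0`. -/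
theorem extendScalars_map_ΓU_eq_zero (h : (Scheme.Modules.pullback i).map u = 0) :
    (ModuleCat.extendScalars (i.appLE U W hWU).hom).map ((ΓU hU).map u) = 0 := by
  have h1 : (Scheme.Modules.pullback hW.fromSpec).map ((Scheme.Modules.pullback i).map u) = 0 := by
    rw [h, Functor.map_zero]
  have h2 := eq_zero_of_arrow_iso (chartArrowIso i hU hW hWU u) h1
  exact (tilde.functor Γ(Z, W)).map_injective (h2.trans tilde.map_zero.symm)

include hW hWU in
/-- If `i^* u` is an epimorphism then so is `Γ(Z, W) ⊗ Γ(U, u)`. -/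
theorem epi_extendScalars_map_ΓU (h : Epi ((Scheme.Modules.pullback i).map u)) :
    Epi ((ModuleCat.extendScalars (i.appLE U W hWU).hom).map ((ΓU hU).map u)) := by
  have h1 : Epi ((Scheme.Modules.pullback hW.fromSpec).map
      ((Scheme.Modules.pullback i).map u)) := inferInstance
  have h2 : Epi (tilde.map ((ModuleCat.extendScalars (i.appLE U W hWU).hom).map
      ((ΓU hU).map u))) := epi_of_arrow_iso (chartArrowIso i hU hW hWU u) h1
  exact (tilde.functor Γ(Z, W)).epi_of_epi_map h2

open Groth.Agent.Lib.Helper49 in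
omit [F.IsQuasicoherent] [G.IsQuasicoherent] in
/-- Naturality of `sectionsFromSpecTopEquiv`. -/
theorem sectionsFromSpecTopEquiv_naturality
    (m : Γ(F.restrict hU.fromSpec, (⊤ : (Spec Γ(X, U)).Opens))) :
    sectionsFromSpecTopEquiv hU G
        ((((Scheme.Modules.restrictFunctor hU.fromSpec).map u).app ⊤).hom m) =
      (u.app U).hom (sectionsFromSpecTopEquiv hU F m) := by
  have hnat := u.mapPresheaf.naturality (eqToHom (fromSpec_image_top hU).symm).op
  have h2 := congrArg (fun k => k.hom m) hnat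
  exact h2.symm

open Groth.Agent.Lib.Helper49 in
include hU hW hWU in
/-- Sectionwise consequence: if `i^* u = 0` and `Γ(X, U) → Γ(Z, W)` is surjective with kernel `I`,
then `u(Γ(F, U)) ⊆ I Γ(G, U)`. -/
theorem app_mem_ker_smul_top (h : (Scheme.Modules.pullback i).map u = 0)
    (hsurj : Function.Surjective (i.appLE U W hWU).hom) (m : Γ(F, U)) :
    (u.app U).hom m ∈
      RingHom.ker (i.appLE U W hWU).hom • (⊤ : Submodule Γ(X, U) Γ(G, U)) := by
  have hv := extendScalars_map_ΓU_eq_zero i hU hW hWU u h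
  obtain ⟨m', rfl⟩ := (sectionsFromSpecTopEquiv hU F).surjective m
  have h1 := apply_mem_ker_smul_top_of_extendScalars_map_eq_zero _ hsurj ((ΓU hU).map u) hv m'
  rw [← sectionsFromSpecTopEquiv_naturality]
  have h2 : (sectionsFromSpecTopEquiv hU G) (((ΓU hU).map u).hom m') ∈
      Submodule.map (sectionsFromSpecTopEquiv hU G).toLinearMap
        (RingHom.ker (i.appLE U W hWU).hom • ⊤) := Submodule.mem_map_of_mem h1
  rw [Submodule.map_smul''] at h2
  exact Submodule.smul_mono le_rfl le_top h2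

end chart

end Groth.Agent.Lib.Helper11.PullbackChart
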