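import Mathlib
import Groth.Agent.Lib.Helper11.NegPowers
import Groth.Prelude.Def_FlatMod2
import Groth.Prelude.Def_PerfAux
import Groth.Agent.S9819
import Groth.Agent.Lib.Helper16.FlatPull.Chart
import Groth.Agent.Lib.Helper49.PullbackSections
import Groth.Agent.Lib.Helper49.FinLocFreeSections
import Groth.Agent.Lib.Helper42.QCohAffineSections

set_option autoImplicit false
/-!
# The resolution property along morphisms (helper11)

`exists_finite_generators_of_affine`, `exists_global_quotient'`, `isFinLocFree_biproduct`,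
`isFinLocFree_pullback`, `adj_symm_app_unit`, `exists_local_finLocFree_maps`,
`exists_finLocFree_quotient`: if `Y` (qcqs) has the resolution property and `H` on `X` is locally
(over affine opens of `Y`) generated by finitely many sections over preimages, then `H` is a quotient
of a finite direct sum of pullbacks of finite locally free modules.
-/

namespace Groth.Agent.Lib.Helper11.ResProp
open CategoryTheory CategoryTheory.Limits AlgebraicGeometry TopologicalSpace Opposite MonoidalCategory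
open Groth.Agent.Lib.Helper45 Groth.Agent.Lib.Helper49 Groth.Agent.Lib.Helper11.GenLocus
open Groth.Agent.Lib.Helper11.NegPowers Groth.Agent.Lib.Helper11.TensorMap

universe u
variable {X : Scheme.{u}}

/-- a finite type quasi-coherent module is generated, over an affine open, by finitely many
sections over that open. -/
theorem exists_finite_generators_of_affine (H : X.Modules) [H.IsQuasicoherent]
    (hH : SheafOfModules.IsFiniteType (R := X.ringCatSheaf) H) {U : X.Opens} (hU : IsAffineOpen U) :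
    ∃ (r : ℕ) (g : Fin r → Γ(H, U)), ∀ (V : X.Opens) (hV : V ≤ U) (y : Γ(H, V)) (z : X), z ∈ V →
      ∃ (W' : X.Opens) (hW'V : W' ≤ V), z ∈ W' ∧
        mres H hW'V y ∈ Submodule.span Γ(X, W')
          (Set.range fun l => mres H (hW'V.trans hV) (g l)) := by
  have hfin : Module.Finite Γ(X, U) Γ(H, U) := finite_sections_of_isFiniteType H hH hU
  obtain ⟨r, g, hg⟩ := Module.Finite.exists_fin (R := Γ(X, U)) (M := Γ(H, U))
  refine ⟨r, g, ?_⟩
  intro V hV y z hz
  obtain ⟨f, hfV, hzf⟩ := hU.exists_basicOpen_le (V := V) ⟨z, hz⟩ (hV hz)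
  have hWU : X.basicOpen f ≤ U := X.basicOpen_le f
  refine ⟨X.basicOpen f, hfV, hzf, ?_⟩
  obtain ⟨n, β, hβ⟩ := exists_restrict_eq_pow_smul_of_qcqs H hU.isCompact hU.isQuasiSeparated f
    (mres H hfV y)
  have key : ∀ β' ∈ Submodule.span Γ(X, U) (Set.range g),
      mres H hWU β' ∈ Submodule.span Γ(X, X.basicOpen f)
        (Set.range fun l => mres H (hfV.trans hV) (g l)) := by
    intro β' hβ'
    induction hβ' using Submodule.span_induction with
    | mem β' h =>
      obtain ⟨j, rfl⟩ := h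
      exact Submodule.subset_span ⟨j, rfl⟩
    | zero =>
      rw [map_zero]
      exact Submodule.zero_mem _
    | add β₁ β₂ _ _ h₁ h₂ =>
      rw [map_add]
      exact Submodule.add_mem _ h₁ h₂
    | smul c β' _ h =>
      rw [mres_smul]
      exact Submodule.smul_mem _ _ h
  have hβmem : β ∈ Submodule.span Γ(X, U) (Set.range g) := hg ▸ Submodule.mem_top
  have h3 := key β hβmem
  have hunit : IsUnit (fres (X.basicOpen_le f) f) := RingedSpace.isUnit_res_basicOpen _ f
  obtain ⟨u, hu⟩ := hunit.pow n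
  have h5 : mres H hfV y = (↑u⁻¹ : Γ(X, X.basicOpen f)) • mres H hWU β := by
    have hβ' : mres H hWU β = (↑u : Γ(X, X.basicOpen f)) • mres H hfV y := by
      rw [hu]; exact hβ
    rw [hβ', smul_smul, Units.inv_mul, one_smul]
  rw [h5]
  exact Submodule.smul_mem _ _ h3

section Global

attribute [local instance] Abelian.hasFiniteBiproducts

theorem exists_global_quotient' [CompactSpace X] (F : X.Modules) (P : X.Modules → Prop)
    (hloc : ∀ x : X, ∃ (G : X.Opens) (r : ℕ) (M : Fin r → X.Modules) (φ : ∀ l, M l ⟶ F), x ∈ G ∧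
        (∀ l, P (M l)) ∧
        ∀ (V : X.Opens) (_ : V ≤ G) (y : Γ(F, V)) (z : X), z ∈ V →
          ∃ (W : X.Opens) (hWV : W ≤ V), z ∈ W ∧ ∃ m : ∀ l, Γ(M l, W),
            mres F hWV y = ∑ l, (φ l).app W (m l)) :
    ∃ (k : ℕ) (N : Fin k → X.Modules) (π : (⨁ N) ⟶ F), (∀ j, P (N j)) ∧ Epi π := by
  classical
  choose G r M φ hxG hP hsurj using hloc
  obtain ⟨S, hS⟩ := isCompact_univ.elim_finite_subcover (fun x => ((G x : X.Opens) : Set X))
    (fun x => (G x).isOpen) (fun x _ => Set.mem_iUnion.mpr ⟨x, hxG x⟩)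
  let J := Σ x : S, Fin (r x.1)
  let e : J ≃ Fin (Fintype.card J) := Fintype.equivFin J
  let N' : J → X.Modules := fun p => M p.1.1 p.2
  let φ' : ∀ p : J, N' p ⟶ F := fun p => φ p.1.1 p.2
  refine ⟨Fintype.card J, fun j' => N' (e.symm j'), biproduct.desc (fun j' => φ' (e.symm j')),
    fun j' => hP _ _, ?_⟩
  apply epi_desc_of_locally_sum
  intro V y z hz
  obtain ⟨x, hxS, hzx⟩ := Set.mem_iUnion₂.mp (hS (Set.mem_univ z))
  have hzx' : z ∈ G x := hzx
  obtain ⟨W, hWV₁, hzW, m, hm⟩ := hsurj x (V ⊓ G x) inf_le_right (mres F inf_le_left y) z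
    ⟨hz, hzx'⟩
  let m'' : ∀ x' : S, ∀ l : Fin (r x'.1), Γ(M x'.1 l, W) := Pi.single (⟨x, hxS⟩ : S) m
  refine ⟨W, hWV₁.trans inf_le_left, hzW, fun j' => m'' (e.symm j').1 (e.symm j').2, ?_⟩
  rw [mres_mres] at hm
  rw [hm]
  have h1 : ∑ j', (φ' (e.symm j')).app W (m'' (e.symm j').1 (e.symm j').2) =
      ∑ p : J, (φ' p).app W (m'' p.1 p.2) :=
    Equiv.sum_comp e.symm (fun p : J => (φ' p).app W (m'' p.1 p.2))
  rw [h1, Fintype.sum_sigma, Finset.sum_eq_single (⟨x, hxS⟩ : S)]
  · simp only [m'', Pi.single_eq_same]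
    rfl
  · intro x' _ hne
    apply Finset.sum_eq_zero
    intro j _
    simp only [m'', Pi.single_eq_of_ne hne]
    exact map_zero _
  · intro h
    exact absurd (Finset.mem_univ _) h

end Global

section Biproduct

attribute [local instance] Abelian.hasFiniteBiproducts

open Groth.Agent.Lib.Helper11.AffineCrit in
theorem isFinLocFree_biproduct {k : ℕ} (N : Fin k → X.Modules)
    (hN : ∀ j, FlatMod.IsFinLocFree (N j)) : FlatMod.IsFinLocFree (⨁ N) := by
  have hq : ∀ j, (N j).IsQuasicoherent := fun j =>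
    Groth.Agent.Lib.Helper49.isQuasicoherent_of_isFinLocFree (N j) (hN j)
  have hq' : (⨁ N).IsQuasicoherent := isQuasicoherent_biproduct' N hq
  refine (Groth.Agent.Lib.Helper49.isFinLocFree_iff_sections (⨁ N)).mpr fun U => ?_
  have hfp := fun j => Groth.Agent.Lib.Helper49.finite_projective_sections_of_isFinLocFree
    (N j) (hN j) U.2
  have : ∀ j, Module.Finite Γ(X, U.1) Γ(N j, U.1) := fun j => (hfp j).1
  have : ∀ j, Module.Projective Γ(X, U.1) Γ(N j, U.1) := fun j => (hfp j).2
  let a : Γ(⨁ N, U.1) →ₗ[Γ(X, U.1)] (∀ j, Γ(N j, U.1)) :=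
    LinearMap.pi fun j => Groth.Agent.Lib.Helper45.appₗ (biproduct.π N j) U.1
  let b : (∀ j, Γ(N j, U.1)) →ₗ[Γ(X, U.1)] Γ(⨁ N, U.1) :=
    ∑ j, (Groth.Agent.Lib.Helper45.appₗ (biproduct.ι N j) U.1).comp (LinearMap.proj j)
  have hba : ∀ m, b (a m) = m := by
    intro m
    have h1 : b (a m) = ∑ j, (biproduct.ι N j).app U.1 ((biproduct.π N j).app U.1 m) := by
      simp [a, b, LinearMap.sum_apply]
    rw [h1]
    have h2 := congrArg (fun φ : (⨁ N) ⟶ (⨁ N) => φ.app U.1 m) (biproduct.total (f := N))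
    rw [Groth.Agent.Lib.Helper11.AffineCrit.sum_app_apply] at h2
    exact h2
  have hsurj : Function.Surjective b := fun m => ⟨a m, hba m⟩
  have hproj : Module.Projective Γ(X, U.1) (∀ j, Γ(N j, U.1)) :=
    Module.Projective.of_equiv' (DFinsupp.linearEquivFunOnFintype (R := Γ(X, U.1))
      (M := fun j => Γ(N j, U.1)))
  exact ⟨Module.Finite.of_surjective b hsurj, Module.Projective.of_split a b (LinearMap.ext hba)⟩

end Biproduct

section Core

variable {Y : Scheme.{u}} (f : X ⟶ Y)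

theorem isFinLocFree_pullback (E : Y.Modules) (hE : FlatMod.IsFinLocFree E) :
    FlatMod.IsFinLocFree ((Scheme.Modules.pullback f).obj E) := by
  have hq := Groth.Agent.Lib.Helper49.isQuasicoherent_of_isFinLocFree E hE
  have hq' := Groth.Agent.Lib.Helper16.FlatPull.isQuasicoherent_pullback f E
  refine Groth.Agent.Lib.Helper49.isFinLocFree_of_finite_projective_cover _ fun x => ?_
  obtain ⟨U, W, hU, hW, hWU, hxW⟩ := Groth.Agent.Lib.Helper16.FlatPull.exists_charts f x
  obtain ⟨h1, h2⟩ :=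
    Groth.Agent.Lib.Helper49.finite_projective_sections_of_isFinLocFree E hE hU
  letI := (f.appLE U W hWU).hom.toAlgebra
  let e := Groth.Agent.Lib.Helper49.pullbackSectionsEquiv f hU hW hWU E
  exact ⟨W, hW, hxW, Module.Finite.equiv e.symm, Module.Projective.of_equiv e.symm⟩

/-- the adjoint of `ρ : E ⟶ f_* H` sends the unit image of a section `e` to `ρ e`. -/
theorem adj_symm_app_unit (E : Y.Modules) (H : X.Modules)
    (ρ : E ⟶ (Scheme.Modules.pushforward f).obj H) (V : Y.Opens) (e : Γ(E, V)) :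
    (((Scheme.Modules.pullbackPushforwardAdjunction f).homEquiv E H).symm ρ).app (f ⁻¹ᵁ V)
      (show Γ((Scheme.Modules.pullback f).obj E, f ⁻¹ᵁ V) from
        (((Scheme.Modules.pullbackPushforwardAdjunction f).unit.app E).app V).hom e) =
      (show Γ(H, f ⁻¹ᵁ V) from (ρ.app V).hom e) := by
  have h1 : (Scheme.Modules.pullbackPushforwardAdjunction f).unit.app E ≫
      (Scheme.Modules.pushforward f).map
        (((Scheme.Modules.pullbackPushforwardAdjunction f).homEquiv E H).symm ρ) = ρ := by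
    have := (Scheme.Modules.pullbackPushforwardAdjunction f).homEquiv_unit (X := E) (Y := H)
      (f := ((Scheme.Modules.pullbackPushforwardAdjunction f).homEquiv E H).symm ρ)
    rw [Equiv.apply_symm_apply] at this
    exact this.symm
  have h2 := congrArg (fun ψ : E ⟶ (Scheme.Modules.pushforward f).obj H => (ψ.app V).hom e) h1
  exact h2

theorem exists_local_finLocFree_maps [CompactSpace Y] [QuasiSeparatedSpace Y] [QuasiCompact f]
    [QuasiSeparated f] (hY : PerfAux.HasResolutionProperty Y) (H : X.Modules) [H.IsQuasicoherent]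
    (Y' : Y.Opens) (hY' : IsAffineOpen Y') {r : ℕ} (g : Fin r → Γ(H, f ⁻¹ᵁ Y')) :
    ∃ (M : Fin r → X.Modules) (φ : ∀ l, M l ⟶ H), (∀ l, FlatMod.IsFinLocFree (M l)) ∧
      ∀ l, ∃ e' : Γ(M l, f ⁻¹ᵁ Y'), (φ l).app (f ⁻¹ᵁ Y') e' = g l := by
  have hG : ((Scheme.Modules.pushforward f).obj H).IsQuasicoherent := isQuasicoherent_pushforward H f
  have key : ∀ l : Fin r, ∃ (M : X.Modules) (φ : M ⟶ H), FlatMod.IsFinLocFree M ∧
      ∃ e' : Γ(M, f ⁻¹ᵁ Y'), φ.app (f ⁻¹ᵁ Y') e' = g l := by
    intro l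
    obtain ⟨G₁, i, hi, hG₁q, hG₁f, g₁, hg₁⟩ := Groth.Agent.S9819.result
      ((Scheme.Modules.pushforward f).obj H) ⟨Y', hY'⟩ (g l)
    obtain ⟨E, π, hE, hπ⟩ := hY G₁ hG₁q hG₁f
    have hEq : E.IsQuasicoherent := Groth.Agent.Lib.Helper49.isQuasicoherent_of_isFinLocFree E hE
    have hG₁q' : G₁.IsQuasicoherent := hG₁q
    obtain ⟨e, he⟩ := Groth.Agent.Lib.Helper42.app_surjective_of_epi π hY' g₁
    refine ⟨(Scheme.Modules.pullback f).obj E,
      ((Scheme.Modules.pullbackPushforwardAdjunction f).homEquiv E H).symm (π ≫ i),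
      isFinLocFree_pullback f E hE,
      (((Scheme.Modules.pullbackPushforwardAdjunction f).unit.app E).app Y').hom e, ?_⟩
    refine (adj_symm_app_unit f E H (π ≫ i) Y' e).trans ?_
    change (i.app Y').hom ((π.app Y').hom e) = g l
    rw [he]
    exact hg₁
  choose M φ hM he using key
  exact ⟨M, φ, hM, he⟩

attribute [local instance] Abelian.hasFiniteBiproducts in
theorem exists_finLocFree_quotient [CompactSpace X] [CompactSpace Y] [QuasiSeparatedSpace Y]
    [QuasiCompact f] [QuasiSeparated f] (hY : PerfAux.HasResolutionProperty Y) (H : X.Modules)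
    [H.IsQuasicoherent]
    (hgen : ∀ x : X, ∃ (Y' : Y.Opens), IsAffineOpen Y' ∧ ∃ (r : ℕ) (g : Fin r → Γ(H, f ⁻¹ᵁ Y'))
        (W : X.Opens) (hW : W ≤ f ⁻¹ᵁ Y'), x ∈ W ∧
        ∀ (V : X.Opens) (hV : V ≤ W) (y : Γ(H, V)) (z : X), z ∈ V →
          ∃ (W' : X.Opens) (hW'V : W' ≤ V), z ∈ W' ∧
            mres H hW'V y ∈ Submodule.span Γ(X, W')
              (Set.range fun l => mres H ((hW'V.trans hV).trans hW) (g l))) :
    ∃ (k : ℕ) (N : Fin k → X.Modules) (π : (⨁ N) ⟶ H),
      (∀ j, FlatMod.IsFinLocFree (N j)) ∧ Epi π := by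
  apply exists_global_quotient' H FlatMod.IsFinLocFree
  intro x
  obtain ⟨Y', hY', r, g, W, hW, hxW, hspan⟩ := hgen x
  obtain ⟨M, φ, hM, he⟩ := exists_local_finLocFree_maps f hY H Y' hY' g
  choose e' he' using he
  refine ⟨W, r, M, φ, hxW, hM, ?_⟩
  intro V hV y z hz
  obtain ⟨W', hW'V, hzW', hmem⟩ := hspan V hV y z hz
  obtain ⟨c, hc⟩ := (Submodule.mem_span_range_iff_exists_fun _).mp hmem
  refine ⟨W', hW'V, hzW', fun l => c l • mres (M l) ((hW'V.trans hV).trans hW) (e' l), ?_⟩
  rw [← hc]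
  refine Finset.sum_congr rfl fun l _ => ?_
  rw [Scheme.Modules.Hom.app_smul, app_mres, he' l]

end Core

end Groth.Agent.Lib.Helper11.ResProp
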