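import Mathlib
import Groth.Agent.Lib.Helper11.TensorQCoh
import Groth.Agent.Lib.Helper49.PullbackSections
import Groth.Agent.Lib.Helper49.SupportPullback

/-! Helper library (helper11): supports of tensor products.
`support_tensorProduct_eq` (`Supp (X ⊗ Y) = Supp X ∩ Supp Y` for finite modules),
`subsingleton_stalk_tilde_iff`, `subsingleton_stalk_congr`, `subsingleton_stalk_restrict`,
`subsingleton_stalk_tensorMod(_affine)`, `support_tensorMod` (support of a tensor product of
quasi-coherent modules of finite type), `isFiniteType_pullback_of_isFiniteType` (the pullback of a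
quasi-coherent module of finite type along any morphism is of finite type). -/

set_option autoImplicit false
set_option linter.style.haveILetI false
universe u
open CategoryTheory CategoryTheory.Limits AlgebraicGeometry TopologicalSpace Opposite TensorProduct

namespace Groth.Agent.Lib.Helper11.SupportTensor
open Groth.Agent.Lib.Helper11.GenLocus Groth.Agent.Lib.Helper49 Groth.Agent.Lib.Helper11.TildeTensor

theorem support_tensorProduct_eq {B : Type u} [CommRing B] (X Y : Type u) [AddCommGroup X]
    [Module B X] [Module.Finite B X] [AddCommGroup Y] [Module B Y] [Module.Finite B Y] :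
    Module.support B (X ⊗[B] Y) = Module.support B X ∩ Module.support B Y := by
  ext q
  rw [Set.mem_inter_iff, Module.mem_support_iff_nontrivial_residueField_tensorProduct,
    Module.mem_support_iff_nontrivial_residueField_tensorProduct,
    Module.mem_support_iff_nontrivial_residueField_tensorProduct,
    (AlgebraTensorModule.distribBaseChange B q.asIdeal.ResidueField X Y).nontrivial_congr]
  constructor
  · intro h
    have hX : Nontrivial (q.asIdeal.ResidueField ⊗[B] X) := by
      by_contra hX
      rw [not_nontrivial_iff_subsingleton] at hX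
      have : Subsingleton ((q.asIdeal.ResidueField ⊗[B] X) ⊗[q.asIdeal.ResidueField]
          (q.asIdeal.ResidueField ⊗[B] Y)) := inferInstance
      exact not_subsingleton _ this
    have : Module.FaithfullyFlat q.asIdeal.ResidueField (q.asIdeal.ResidueField ⊗[B] X) :=
      inferInstance
    exact ⟨hX, (Module.FaithfullyFlat.nontrivial_tensorProduct_iff_right _ _).mp h⟩
  · rintro ⟨hX, hY⟩
    have : Module.FaithfullyFlat q.asIdeal.ResidueField (q.asIdeal.ResidueField ⊗[B] X) :=
      inferInstance
    exact (Module.FaithfullyFlat.nontrivial_tensorProduct_iff_right _ _).mpr hY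


theorem subsingleton_stalk_tilde_iff (R : CommRingCat.{u}) (P : ModuleCat.{u} R)
    (x : Spec R) :
    Subsingleton ((tilde P).presheaf.stalk x) ↔
      (show PrimeSpectrum R from x) ∉ Module.support R P := by
  have e := IsLocalizedModule.iso (show PrimeSpectrum R from x).asIdeal.primeCompl
    (tilde.toStalk P (show PrimeSpectrum.Top R from x)).hom
  rw [Module.mem_support_iff, not_nontrivial_iff_subsingleton]
  exact e.toEquiv.subsingleton_congr.symm

theorem subsingleton_stalk_congr {X : Scheme.{u}} {M N : X.Modules} (e : M ≅ N) (x : X) :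
    Subsingleton (M.presheaf.stalk x) ↔ Subsingleton (N.presheaf.stalk x) := by
  have e' : M.presheaf.stalk x ≅ N.presheaf.stalk x :=
    (TopCat.Presheaf.stalkFunctor Ab x).mapIso ((Scheme.Modules.toPresheaf X).mapIso e)
  exact e'.addCommGroupIsoToAddEquiv.toEquiv.subsingleton_congr

theorem subsingleton_stalk_tensorMod_affine (R : CommRingCat.{u}) (F G : (Spec R).Modules)
    [F.IsQuasicoherent] [G.IsQuasicoherent] (hF : CohB1.IsFT F) (hG : CohB1.IsFT G) (x : Spec R) :
    Subsingleton ((CohB1.tensorMod F G).presheaf.stalk x) ↔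
      Subsingleton (F.presheaf.stalk x) ∨ Subsingleton (G.presheaf.stalk x) := by
  have hF' : IsIso F.fromTildeΓ := (isQuasicoherent_iff_isIso_fromTildeΓ F).mp inferInstance
  have hG' : IsIso G.fromTildeΓ := (isQuasicoherent_iff_isIso_fromTildeΓ G).mp inferInstance
  let eF := asIso F.fromTildeΓ
  let eG := asIso G.fromTildeΓ
  obtain ⟨e⟩ := nonempty_tilde_tensor_iso' R ((modulesSpecToSheaf.obj F).presheaf.obj (.op ⊤))
    ((modulesSpecToSheaf.obj G).presheaf.obj (.op ⊤))
  let e' := e ≪≫ tensorModCongr eF eG
  have f1 : Module.Finite R ((modulesSpecToSheaf.obj F).presheaf.obj (.op ⊤)) :=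
    (isFiniteType_iff_finite_Γ R F).mp hF
  have f2 : Module.Finite R ((modulesSpecToSheaf.obj G).presheaf.obj (.op ⊤)) :=
    (isFiniteType_iff_finite_Γ R G).mp hG
  rw [← subsingleton_stalk_congr e' x, ← subsingleton_stalk_congr eF x,
    ← subsingleton_stalk_congr eG x, subsingleton_stalk_tilde_iff, subsingleton_stalk_tilde_iff,
    subsingleton_stalk_tilde_iff]
  change _ ∉ Module.support R (_ ⊗[R] _) ↔ _
  rw [support_tensorProduct_eq, Set.mem_inter_iff, not_and_or]

theorem subsingleton_stalk_restrict {X Y : Scheme.{u}} (j : Y ⟶ X) [IsOpenImmersion j]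
    (M : X.Modules) (y : Y) :
    Subsingleton ((M.restrict j).presheaf.stalk y) ↔ Subsingleton (M.presheaf.stalk (j y)) := by
  have e' : (M.restrict j).presheaf.stalk y ≅ M.presheaf.stalk (j y) :=
    (Scheme.Modules.restrictStalkNatIso j y).app M
  exact e'.addCommGroupIsoToAddEquiv.toEquiv.subsingleton_congr

theorem subsingleton_stalk_tensorMod {T : Scheme.{u}} (A B : T.Modules) [A.IsQuasicoherent]
    [B.IsQuasicoherent] (hA : CohB1.IsFT A) (hB : CohB1.IsFT B) (z : T) :
    Subsingleton ((CohB1.tensorMod A B).presheaf.stalk z) ↔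
      Subsingleton (A.presheaf.stalk z) ∨ Subsingleton (B.presheaf.stalk z) := by
  obtain ⟨_, ⟨W, hW, rfl⟩, hzW, -⟩ :=
    T.isBasis_affineOpens.exists_subset_of_mem_open (Set.mem_univ z) isOpen_univ
  obtain ⟨z', rfl⟩ : ∃ z' : Spec Γ(T, W), hW.fromSpec z' = z := by
    have : z ∈ Set.range hW.fromSpec := by rw [hW.range_fromSpec]; exact hzW
    exact this
  have : (A.restrict hW.fromSpec).IsQuasicoherent :=
    Scheme.Modules.isQuasicoherent_restrictFunctor _ _
  have : (B.restrict hW.fromSpec).IsQuasicoherent :=
    Scheme.Modules.isQuasicoherent_restrictFunctor _ _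
  rw [← subsingleton_stalk_restrict hW.fromSpec, ← subsingleton_stalk_restrict hW.fromSpec,
    ← subsingleton_stalk_restrict hW.fromSpec,
    ← subsingleton_stalk_congr (restrictTensorIso hW.fromSpec A B) z']
  exact subsingleton_stalk_tensorMod_affine _ _ _ (isFiniteType_restrict A _ hA)
    (isFiniteType_restrict B _ hB) z'

theorem support_tensorMod {T : Scheme.{u}} (A B : T.Modules) [A.IsQuasicoherent]
    [B.IsQuasicoherent] (hA : CohB1.IsFT A) (hB : CohB1.IsFT B) :
    CohB1.support (CohB1.tensorMod A B) = CohB1.support A ∩ CohB1.support B := by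
  ext z
  simp only [CohB1.support, Set.mem_setOf_eq, Set.mem_inter_iff]
  rw [subsingleton_stalk_tensorMod A B hA hB z, not_or]

theorem isFiniteType_pullback_of_isFiniteType {X' X : Scheme.{u}} (g : X' ⟶ X) (F : X.Modules)
    [F.IsQuasicoherent] (hF : SheafOfModules.IsFiniteType (R := X.ringCatSheaf) F) :
    SheafOfModules.IsFiniteType (R := X'.ringCatSheaf) ((Scheme.Modules.pullback g).obj F) := by
  have hq : ((Scheme.Modules.pullback g).obj F).IsQuasicoherent :=
    Groth.Agent.Lib.Helper16.FlatPull.isQuasicoherent_pullback g F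
  choose U W hU hW hWU hxW using Groth.Agent.Lib.Helper16.FlatPull.exists_charts g
  have : ∀ x : X', IsOpenImmersion ((hW x).fromSpec) :=
    fun x => IsAffineOpen.isOpenImmersion_fromSpec _
  refine isFiniteType_of_forall_restrict _ (fun x : X' => Spec Γ(X', W x))
    (fun x => (hW x).fromSpec) (fun x => ⟨x, by rw [(hW x).range_fromSpec]; exact hxW x⟩)
    fun x => ?_
  have : (((Scheme.Modules.pullback g).obj F).restrict (hW x).fromSpec).IsQuasicoherent :=
    Scheme.Modules.isQuasicoherent_restrictFunctor _ _
  refine (isFiniteType_iff_finite_Γ Γ(X', W x) _).mpr ?_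
  letI := (g.appLE (U x) (W x) (hWU x)).hom.toAlgebra
  have hfin : Module.Finite Γ(X, U x) Γ(F, U x) := finite_sections_of_isFiniteType F hF (hU x)
  have h1 : Module.Finite Γ(X', W x) Γ((Scheme.Modules.pullback g).obj F, W x) :=
    Module.Finite.equiv (pullbackSectionsEquiv g (hU x) (hW x) (hWU x) F).symm
  exact Module.Finite.equiv (sectionsFromSpecTopEquiv (hW x) _).symm

end Groth.Agent.Lib.Helper11.SupportTensor
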