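import Mathlib
import Groth.Agent.Lib.Helper11.FinFreeBasis
import Groth.Agent.Lib.Helper45.RefHullCoh
import Groth.Agent.Lib.Helper45.HomExtend

/-!
# Duals of finite locally free modules (helper11)

Built on the prelude's `RefHull.dual` and helper45's API (`evalSec`, `evalGens`, `IsLocalPres`).

* `isLocalPres_of_isBasisFam`: a basis family is a local presentation without relations.
* `evalGens_bijective`, `dualSectionsEquiv`: sections of the dual over opens with a basis family.
* `isFinLocFree_dual`: the dual of a finite locally free module is finite locally free.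
* `evPair F : F ⊗ F^∨ ⟶ O`, `evPair_tm`, `epi_evPair` (positive rank).
-/

set_option autoImplicit false
set_option linter.style.haveILetI false
set_option linter.unusedSectionVars false
namespace Groth.Agent.Lib.Helper11.FinFreeDual
open AlgebraicGeometry CategoryTheory CategoryTheory.Limits TopologicalSpace Opposite TensorProduct
open Groth.Agent.Lib.Helper45 Groth.Agent.Lib.Helper49 Groth.Agent.Lib.Helper11.GenLocus
  Groth.Agent.Lib.Helper11.TensorMap Groth.Agent.Lib.Helper11.FinFreeBasis
  Groth.Agent.Lib.Helper45.RefHullCoh Groth.Agent.Lib.Helper45.RefHullHom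
  Groth.Agent.Lib.Helper45.HomExtend

universe u
variable {X : Scheme.{u}}

theorem germ_mres (F : X.Modules) {V W : X.Opens} (h : W ≤ V) (s : Γ(F, V)) (y : X) (hy : y ∈ W) :
    F.presheaf.germ W y hy (mres F h s) = F.presheaf.germ V y (h hy) s := by
  rw [mres_apply]
  exact TopCat.Presheaf.germ_res_apply F.presheaf (homOfLE h) y hy s

/-- a basis family gives a local presentation without relations. -/
theorem isLocalPres_of_isBasisFam {F : X.Modules} {V : X.Opens} {n : ℕ} {e : Fin n → Γ(F, V)}
    (he : IsBasisFam F V e) :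
    IsLocalPres F V e (fun (j : Fin 0) (_ : Fin n) => j.elim0) := by
  refine ⟨fun j => j.elim0, fun y hy => ?_, fun y hy c hc => ?_⟩
  · rw [eq_top_iff]
    intro γ _
    obtain ⟨W, hyW, m, rfl⟩ := TopCat.Presheaf.exists_germ_eq F.presheaf γ
    obtain ⟨a, ha⟩ := (he (W ⊓ V) inf_le_right).2 (mres F inf_le_left m)
    have ha' : ∑ i, a i • mres F inf_le_right (e i) = mres F inf_le_left m := ha
    have h1 : F.presheaf.germ W y hyW m =
        F.presheaf.germ (W ⊓ V) y ⟨hyW, hy⟩ (mres F inf_le_left m) :=
      (germ_mres F inf_le_left m y ⟨hyW, hy⟩).symm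
    rw [h1, ← ha', germ_sum_smul]
    refine Submodule.sum_mem _ fun i _ => Submodule.smul_mem _ _ (Submodule.subset_span ⟨i, ?_⟩)
    exact (germ_mres F inf_le_right (e i) y ⟨hyW, hy⟩).symm
  · have hc0 : c = 0 := by
      obtain ⟨W, hyW, j, a, ha⟩ := exists_germ_eq_fin' y V hy c
      have hWV : W ≤ V := j.le
      let s : Γ(F, W) := ∑ i, a i • mres F hWV (e i)
      have hs : F.presheaf.germ W y hyW s = 0 := by
        rw [germ_sum_smul, ← hc]
        refine Finset.sum_congr rfl fun i _ => ?_
        rw [ha i, germ_mres]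
      obtain ⟨W', hyW', j', hj'⟩ := exists_map_eq_zero_fin F y (fun _ : Unit => W)
        (fun _ => hyW) (fun _ => s) (fun _ => hs)
      have hW'W : W' ≤ W := (j' ()).le
      have hz : mres F hW'W s = 0 := hj' ()
      have hz' : ∑ i, fres hW'W (a i) • mres F (hW'W.trans hWV) (e i) = 0 := by
        rw [← hz, map_sum]
        refine Finset.sum_congr rfl fun i _ => ?_
        rw [mres_smul, mres_mres]
      have h0 : (fun i => fres hW'W (a i)) = 0 := by
        apply (he W' (hW'W.trans hWV)).1
        simp only [Pi.zero_apply, zero_smul, Finset.sum_const_zero]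
        exact hz'
      funext i
      rw [← ha i]
      have h2 : X.presheaf.germ W y hyW (a i) = X.presheaf.germ W' y hyW' (fres hW'W (a i)) := by
        rw [fres_apply]
        exact (TopCat.Presheaf.germ_res_apply X.presheaf (homOfLE hW'W) y hyW' (a i)).symm
      rw [h2, congrFun h0 i]
      simp
    rw [hc0]
    exact Submodule.zero_mem _


/-- `evalGens` is bijective for a basis family. -/
theorem evalGens_bijective {F : X.Modules} (G : X.Modules) {V : X.Opens} {n : ℕ}
    {e : Fin n → Γ(F, V)} (he : IsBasisFam F V e) {T : X.Opens} (hTV : T ≤ V) :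
    Function.Bijective (evalGens G e hTV) := by
  have hP := isLocalPres_of_isBasisFam he
  refine ⟨evalGens_injective hP hTV, fun nn => ?_⟩
  obtain ⟨h, hh⟩ := exists_section_homSh (G := G) hP hTV nn (fun j => j.elim0)
  refine ⟨h, ?_⟩
  funext i
  change evalSec h (F.presheaf.map (homOfLE hTV).op (e i)) = nn i
  exact evalSec_eq _ _ _ fun y hy => by
    rw [TopCat.Presheaf.germ_res_apply]
    exact (hh y hy i).symm

/-- sections of the dual of a module with a basis family. -/
noncomputable def dualSectionsEquiv {F : X.Modules} {V : X.Opens} {n : ℕ}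
    {e : Fin n → Γ(F, V)} (he : IsBasisFam F V e) {T : X.Opens} (hTV : T ≤ V) :
    Γ(RefHull.dual F, T) ≃ₗ[Γ(X, T)] (Fin n → Γ(X, T)) :=
  (LinearEquiv.ofBijective (evalGens (Coh.structureModule X) e hTV)
    (evalGens_bijective (Coh.structureModule X) he hTV)).trans
    (LinearEquiv.piCongrRight fun _ => unitSectionsEquiv X T)

/-- the dual of a finite locally free module is finite locally free. -/
theorem isFinLocFree_dual {F : X.Modules} (hF : FlatMod.IsFinLocFree F) :
    FlatMod.IsFinLocFree (RefHull.dual F) := by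
  haveI : (Coh.structureModule X).IsQuasicoherent := isQuasicoherent_structureModule X
  haveI : (RefHull.dual F).IsQuasicoherent :=
    isQuasicoherent_homSh F (Coh.structureModule X) (isFinitePresentation_of_isFinLocFree F hF)
  rw [isFinLocFree_iff_affine]
  intro x
  obtain ⟨V, n, e, hxV, he⟩ := exists_isBasisFam_of_isFinLocFree hF x
  obtain ⟨_, ⟨W, hW, rfl⟩, hxW, hWV⟩ := X.isBasis_affineOpens.exists_subset_of_mem_open hxV V.2
  exact ⟨W, n, hW, hxW, ⟨dualSectionsEquiv he hWV⟩⟩

/-- the evaluation pairing `F × F^∨ → O`. -/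
noncomputable def evBilin (F : X.Modules) :
    BilinFamily F (RefHull.dual F) (Coh.structureModule X) where
  β _ a φ := evalSec φ a
  add_left _ a a' φ := evalSec_add_right φ a a'
  smul_left _ r a φ := evalSec_smul_right φ r a
  add_right _ a φ φ' := evalSec_add_left φ φ' a
  smul_right _ r a φ := evalSec_smul_left r φ a
  res i a φ := (evalSec_map i φ a).symm

/-- the evaluation morphism `F ⊗ F^∨ ⟶ O`. -/
noncomputable def evPair (F : X.Modules) :
    CohB1.tensorMod F (RefHull.dual F) ⟶ Coh.structureModule X :=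
  (evBilin F).desc

theorem evPair_tm (F : X.Modules) (U : X.Opens) (a : Γ(F, U)) (φ : Γ(RefHull.dual F, U)) :
    (evPair F).app U (tm F (RefHull.dual F) U a φ) = evalSec φ a :=
  (evBilin F).desc_tmul U a φ

/-- the evaluation morphism is an epimorphism when `F` is locally free of positive rank. -/
theorem epi_evPair (F : X.Modules)
    (hF : ∀ x : X, ∃ (V : X.Opens) (n : ℕ) (e : Fin n → Γ(F, V)), x ∈ V ∧ IsBasisFam F V e ∧
      0 < n) : Epi (evPair F) := by
  rw [epi_iff_isLocallySurjective, TopCat.Presheaf.isLocallySurjective_iff]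
  intro W s x hx
  obtain ⟨V, n, e, hxV, he, hn⟩ := hF x
  have hWV : W ⊓ V ≤ V := inf_le_right
  obtain ⟨φ, hφ⟩ := (evalGens_bijective (Coh.structureModule X) he hWV).2
    (Pi.single (⟨0, hn⟩ : Fin n) (mres (Coh.structureModule X) inf_le_left s))
  refine ⟨W ⊓ V, inf_le_left, ⟨tm F (RefHull.dual F) (W ⊓ V) (mres F hWV (e ⟨0, hn⟩)) φ, ?_⟩,
    ⟨hx, hxV⟩⟩
  have h1 := congrFun hφ ⟨0, hn⟩
  rw [Pi.single_eq_same] at h1
  exact (evPair_tm F (W ⊓ V) _ φ).trans h1

end Groth.Agent.Lib.Helper11.FinFreeDual
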