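import Mathlib
import Groth.Agent.Lib.Helper11.TensorMap
import Groth.Agent.Lib.Helper11.PullbackTensor
import Groth.Agent.Lib.Helper11.FinFreeBasis

/-!
# Formulas for the tensor product of `O_X`-modules (helper11)

* `tensorModMap_id`, `tensorModMap_comp`: functoriality of `tensorModMap`.
* `hom_ext_tm`, `hom_ext_tm_local`, `hom_ext_local`: extensionality for morphisms (out of tensor products).
* `tensorModAssoc_hom_tm`, `tensorModAssoc_inv_tm`: the associator on pure tensors.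
* `tensorUnitIso_hom_tm`, `tensorUnitIso_inv_app`: the right unit isomorphism on sections.
* `tm_zero_right`, `tm_sum_right`.
-/

set_option autoImplicit false
namespace Groth.Agent.Lib.Helper11.TensorFormulas
open AlgebraicGeometry CategoryTheory TopologicalSpace Opposite TensorProduct MonoidalCategory
open Groth.Agent.Lib.Helper45 Groth.Agent.Lib.Helper49 Groth.Agent.Lib.Helper11.GenLocus
  Groth.Agent.Lib.Helper11.TensorMap Groth.Agent.Lib.Helper11.FinFreeBasis
  Groth.Agent.Lib.Helper30.ModTensor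

universe u
variable {X : Scheme.{u}}

theorem tensorPreMap_id (M N : X.Modules) :
    tensorPreMap (𝟙 M) (𝟙 N) = 𝟙 _ := by
  unfold tensorPreMap
  exact MonoidalCategory.id_tensorHom_id (C := CohB1.PMod X) _ _

theorem tensorModMap_id (M N : X.Modules) :
    tensorModMap (𝟙 M) (𝟙 N) = 𝟙 _ := by
  unfold tensorModMap
  rw [tensorPreMap_id]
  exact (CohB1.sheafifyMod X).map_id _

theorem tensorPreMap_comp {M M' M'' N N' N'' : X.Modules} (φ : M ⟶ M') (φ' : M' ⟶ M'')
    (ψ : N ⟶ N') (ψ' : N' ⟶ N'') :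
    tensorPreMap (φ ≫ φ') (ψ ≫ ψ') = tensorPreMap φ ψ ≫ tensorPreMap φ' ψ' := by
  unfold tensorPreMap
  exact (MonoidalCategory.tensorHom_comp_tensorHom (C := CohB1.PMod X) _ _ _ _).symm

theorem tensorModMap_comp {M M' M'' N N' N'' : X.Modules} (φ : M ⟶ M') (φ' : M' ⟶ M'')
    (ψ : N ⟶ N') (ψ' : N' ⟶ N'') :
    tensorModMap (φ ≫ φ') (ψ ≫ ψ') = tensorModMap φ ψ ≫ tensorModMap φ' ψ' := by
  unfold tensorModMap
  rw [tensorPreMap_comp]
  exact (CohB1.sheafifyMod X).map_comp _ _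


/-- the sheafification adjunction. -/
noncomputable abbrev sadj (X : Scheme.{u}) :=
  PresheafOfModules.sheafificationAdjunction.{u, u, u, u}
    (J := Opens.grothendieckTopology X) (𝟙 X.ringCatSheaf.obj)

/-- morphisms out of a tensor product are determined by their values on pure tensors. -/
theorem hom_ext_tm {A B C : X.Modules} (φ ψ : CohB1.tensorMod A B ⟶ C)
    (h : ∀ (W : X.Opens) (a : Γ(A, W)) (b : Γ(B, W)),
      φ.app W (tm A B W a b) = ψ.app W (tm A B W a b)) : φ = ψ := by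
  apply ((sadj X).homEquiv (show X.PresheafOfModules from CohB1.tensorPre A B) C).injective
  rw [Adjunction.homEquiv_unit, Adjunction.homEquiv_unit]
  ext1 U
  refine ModuleCat.MonoidalCategory.tensor_ext (fun a b => ?_)
  exact h U.unop a b


section assoc
variable (A B C : X.Modules)

/-- `shf.map (u ▷ C)`. -/
noncomputable abbrev s1 : (shf X.sheaf).obj ((CohB1.toPMod A ⊗ CohB1.toPMod B) ⊗ CohB1.toPMod C) ⟶
    CohB1.tensorMod (CohB1.tensorMod A B) C :=
  (shf X.sheaf).map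
      (shfUnit (O := X.sheaf) (CohB1.toPMod A ⊗ CohB1.toPMod B) ▷ CohB1.toPMod C)

/-- `shf.map (A ◁ u)`. -/
noncomputable abbrev s2 : (shf X.sheaf).obj (CohB1.toPMod A ⊗ (CohB1.toPMod B ⊗ CohB1.toPMod C)) ⟶
    CohB1.tensorMod A (CohB1.tensorMod B C) :=
  (shf X.sheaf).map
      (CohB1.toPMod A ◁ shfUnit (O := X.sheaf) (CohB1.toPMod B ⊗ CohB1.toPMod C))

theorem tensorModAssoc_hom_eq :
    (tensorModAssoc A B C).hom = (@asIso _ _ _ _ (s1 A B C)
        (isIso_shf_map_whiskerRight _ _ (isIso_shf_map_unit _))).inv ≫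
      (shf X.sheaf).map (α_ (CohB1.toPMod A) (CohB1.toPMod B) (CohB1.toPMod C)).hom ≫ s2 A B C := rfl


/-- the triple pure tensor `(a ⊗ b) ⊗ c` in the presheaf tensor product. -/
noncomputable def pt3l (W : X.Opens) (a : Γ(A, W)) (b : Γ(B, W)) (c : Γ(C, W)) :
    ((CohB1.toPMod A ⊗ CohB1.toPMod B) ⊗ CohB1.toPMod C : CohB1.PMod X).obj (op W) :=
  (pt A B W a b : (CohB1.toPMod A ⊗ CohB1.toPMod B : CohB1.PMod X).obj (op W)) ⊗ₜ[((X.sheaf.obj ⋙ forget₂ CommRingCat RingCat).obj
    (op W))] (show (CohB1.toPMod C).obj (op W) from c)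

/-- the triple pure tensor `a ⊗ (b ⊗ c)` in the presheaf tensor product. -/
noncomputable def pt3r (W : X.Opens) (a : Γ(A, W)) (b : Γ(B, W)) (c : Γ(C, W)) :
    (CohB1.toPMod A ⊗ (CohB1.toPMod B ⊗ CohB1.toPMod C) : CohB1.PMod X).obj (op W) :=
  (show (CohB1.toPMod A).obj (op W) from a) ⊗ₜ[((X.sheaf.obj ⋙ forget₂ CommRingCat RingCat).obj
    (op W))] (pt B C W b c : (CohB1.toPMod B ⊗ CohB1.toPMod C : CohB1.PMod X).obj (op W))

theorem assoc_pt3 (W : X.Opens) (a : Γ(A, W)) (b : Γ(B, W)) (c : Γ(C, W)) :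
    ((α_ (CohB1.toPMod A) (CohB1.toPMod B) (CohB1.toPMod C)).hom.app (op W)).hom (pt3l A B C W a b c) =
      pt3r A B C W a b c := rfl

theorem s1_unit_pt3l (W : X.Opens) (a : Γ(A, W)) (b : Γ(B, W)) (c : Γ(C, W)) :
    ((s1 A B C).val.app (op W)).hom (((shfUnit (O := X.sheaf) _).app (op W)).hom (pt3l A B C W a b c)) =
      tm (CohB1.tensorMod A B) C W (tm A B W a b) c := by
  have hnat := (sadj X).unit.naturality
    (shfUnit (O := X.sheaf) (CohB1.toPMod A ⊗ CohB1.toPMod B) ▷ CohB1.toPMod C)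
  have h2 := congrArg (fun f => (f.app (op W)).hom (pt3l A B C W a b c)) hnat
  exact h2.symm


theorem shf_assoc_unit_pt3l (W : X.Opens) (a : Γ(A, W)) (b : Γ(B, W)) (c : Γ(C, W)) :
    ((((shf X.sheaf).map (α_ (CohB1.toPMod A) (CohB1.toPMod B) (CohB1.toPMod C)).hom).val.app
        (op W)).hom (((shfUnit (O := X.sheaf) _).app (op W)).hom (pt3l A B C W a b c))) =
      ((shfUnit (O := X.sheaf) _).app (op W)).hom (pt3r A B C W a b c) := by
  have hnat := (sadj X).unit.naturality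
    (α_ (CohB1.toPMod A) (CohB1.toPMod B) (CohB1.toPMod C)).hom
  have h2 := congrArg (fun f => (f.app (op W)).hom (pt3l A B C W a b c)) hnat
  exact h2.symm

theorem s2_unit_pt3r (W : X.Opens) (a : Γ(A, W)) (b : Γ(B, W)) (c : Γ(C, W)) :
    ((s2 A B C).val.app (op W)).hom (((shfUnit (O := X.sheaf) _).app (op W)).hom (pt3r A B C W a b c)) =
      tm A (CohB1.tensorMod B C) W a (tm B C W b c) := by
  have hnat := (sadj X).unit.naturality
    (CohB1.toPMod A ◁ shfUnit (O := X.sheaf) (CohB1.toPMod B ⊗ CohB1.toPMod C))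
  have h2 := congrArg (fun f => (f.app (op W)).hom (pt3r A B C W a b c)) hnat
  exact h2.symm

/-- the associator on pure tensors. -/
theorem tensorModAssoc_hom_tm (W : X.Opens) (a : Γ(A, W)) (b : Γ(B, W)) (c : Γ(C, W)) :
    (tensorModAssoc A B C).hom.app W (tm (CohB1.tensorMod A B) C W (tm A B W a b) c) =
      tm A (CohB1.tensorMod B C) W a (tm B C W b c) := by
  have hiso : IsIso (s1 A B C) := isIso_shf_map_whiskerRight _ _ (isIso_shf_map_unit _)
  rw [← s1_unit_pt3l, ← s2_unit_pt3r, ← shf_assoc_unit_pt3l, tensorModAssoc_hom_eq]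
  have h1 : s1 A B C ≫ (@asIso _ _ _ _ (s1 A B C) hiso).inv = 𝟙 _ := (@asIso _ _ _ _ (s1 A B C) hiso).hom_inv_id
  have h2 := congrArg (fun f : (shf X.sheaf).obj ((CohB1.toPMod A ⊗ CohB1.toPMod B) ⊗ CohB1.toPMod C) ⟶ _ => (f.val.app (op W)).hom
    (((shfUnit (O := X.sheaf) _).app (op W)).hom (pt3l A B C W a b c))) h1
  exact congrArg (fun t => ((s2 A B C).val.app (op W)).hom
    ((((shf X.sheaf).map (α_ (CohB1.toPMod A) (CohB1.toPMod B) (CohB1.toPMod C)).hom).val.app
        (op W)).hom t)) h2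

end assoc


theorem tensorModAssoc_inv_tm (A B C : X.Modules) (W : X.Opens) (a : Γ(A, W)) (b : Γ(B, W))
    (c : Γ(C, W)) :
    (tensorModAssoc A B C).inv.app W (tm A (CohB1.tensorMod B C) W a (tm B C W b c)) =
      tm (CohB1.tensorMod A B) C W (tm A B W a b) c := by
  rw [← tensorModAssoc_hom_tm]
  have h3 : (tensorModAssoc A B C).hom.app W ≫ (tensorModAssoc A B C).inv.app W = 𝟙 _ := by
    rw [← Scheme.Modules.Hom.comp_app, Iso.hom_inv_id]
    rfl
  exact congrArg (fun φ => φ.hom (tm (CohB1.tensorMod A B) C W (tm A B W a b) c)) h3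

/-- morphisms agreeing locally on sections are equal. -/
theorem hom_ext_local {F G : X.Modules} (φ ψ : F ⟶ G)
    (h : ∀ x : X, ∃ V : X.Opens, x ∈ V ∧ ∀ (W : X.Opens), W ≤ V → ∀ s : Γ(F, W),
      φ.app W s = ψ.app W s) : φ = ψ := by
  apply Scheme.Modules.hom_ext
  intro U
  ext s
  apply TopCat.Presheaf.section_ext ⟨G.presheaf, G.isSheaf⟩
  intro x hx
  obtain ⟨V, hxV, hV⟩ := h x
  have h1 := hV (U ⊓ V) inf_le_right (mres F inf_le_left s)
  rw [Groth.Agent.Lib.Helper11.TensorMap.app_mres, Groth.Agent.Lib.Helper11.TensorMap.app_mres] at h1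
  have h5 := congrArg (G.presheaf.germ (U ⊓ V) x ⟨hx, hxV⟩) h1
  rw [mres_apply, mres_apply, TopCat.Presheaf.germ_res_apply,
    TopCat.Presheaf.germ_res_apply] at h5
  exact h5

/-- morphisms out of a tensor product agreeing locally on pure tensors are equal. -/
theorem hom_ext_tm_local {A B C : X.Modules} (φ ψ : CohB1.tensorMod A B ⟶ C)
    (h : ∀ x : X, ∃ V : X.Opens, x ∈ V ∧ ∀ (W : X.Opens), W ≤ V → ∀ (a : Γ(A, W)) (b : Γ(B, W)),
      φ.app W (tm A B W a b) = ψ.app W (tm A B W a b)) : φ = ψ := by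
  apply hom_ext_tm
  intro U a b
  apply TopCat.Presheaf.section_ext ⟨C.presheaf, C.isSheaf⟩
  intro x hx
  obtain ⟨V, hxV, hV⟩ := h x
  have h1 := hV (U ⊓ V) inf_le_right (mres A inf_le_left a) (mres B inf_le_left b)
  rw [← tm_res, Groth.Agent.Lib.Helper11.TensorMap.app_mres,
    Groth.Agent.Lib.Helper11.TensorMap.app_mres] at h1
  have h5 := congrArg (C.presheaf.germ (U ⊓ V) x ⟨hx, hxV⟩) h1
  rw [mres_apply, mres_apply, TopCat.Presheaf.germ_res_apply,
    TopCat.Presheaf.germ_res_apply] at h5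
  exact h5

theorem tm_zero_right (M N : X.Modules) (W : X.Opens) (m : Γ(M, W)) : tm M N W m 0 = 0 := by
  have := tm_smul_right M N W (0 : Γ(X, W)) m (0 : Γ(N, W))
  rwa [zero_smul, zero_smul] at this

theorem tm_sum_right (M N : X.Modules) (W : X.Opens) {ι : Type*} (s : Finset ι) (m : Γ(M, W))
    (n : ι → Γ(N, W)) : tm M N W m (∑ i ∈ s, n i) = ∑ i ∈ s, tm M N W m (n i) := by
  classical
  induction s using Finset.induction_on with
  | empty => simp [tm_zero_right]
  | insert a s ha ih =>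
    rw [Finset.sum_insert ha, Finset.sum_insert ha,
      Groth.Agent.Lib.Helper11.PullbackTensor.tm_add_right, ih]

theorem tensorUnitIso_hom_tm (M : X.Modules) (W : X.Opens) (m : Γ(M, W)) (r : Γ(X, W)) :
    (tensorUnitIso M).hom.app W (tm M (Coh.structureModule X) W m (toO W r)) = r • m :=
  SecTwist.unitorR_tmul M W m r

theorem tensorUnitIso_inv_app (M : X.Modules) (W : X.Opens) (m : Γ(M, W)) :
    (tensorUnitIso M).inv.app W m = tm M (Coh.structureModule X) W m (toO W 1) := by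
  have h1 := tensorUnitIso_hom_tm M W m 1
  rw [one_smul] at h1
  have h3 : (tensorUnitIso M).hom.app W ≫ (tensorUnitIso M).inv.app W = 𝟙 _ := by
    rw [← Scheme.Modules.Hom.comp_app, Iso.hom_inv_id]
    rfl
  have h4 : (tensorUnitIso M).inv.app W ((tensorUnitIso M).hom.app W
      (tm M (Coh.structureModule X) W m (toO W 1))) = tm M (Coh.structureModule X) W m (toO W 1) :=
    congrArg (fun φ => φ.hom (tm M (Coh.structureModule X) W m (toO W 1))) h3
  rw [h1] at h4
  exact h4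

end Groth.Agent.Lib.Helper11.TensorFormulas
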