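import Mathlib
import Groth.Agent.Lib.Helper11.TensorFormulas
import Groth.Agent.Lib.Helper11.FinFreeDual

/-!
# Duality for finite locally free modules: the adjunctions `(- ⊗ E^∨) ⊣ (- ⊗ E) ⊣ (- ⊗ E^∨)` (helper11)

* `DualPair P Q`: a bilinear pairing `P × Q → O` with local dual bases; `DualPair.symm`.
* `DualPair.coev : O ⟶ Q ⊗ P`, `DualPair.eta`, `DualPair.eps`, triangle identities,
  `DualPair.adj : tensR Q ⊣ tensR P` where `tensR N = (- ⊗ N)`.
* `dualPairOfFinLocFree hE : DualPair E (RefHull.dual E)`.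
* `injective_tensorMod_of_isFinLocFree`: `E ⊗ I` is injective for `I` injective, `E` finite locally free.
-/

set_option autoImplicit false
set_option linter.style.haveILetI false
namespace Groth.Agent.Lib.Helper11.FinFreeAdj
open AlgebraicGeometry CategoryTheory TopologicalSpace Opposite TensorProduct
open Groth.Agent.Lib.Helper45 Groth.Agent.Lib.Helper49 Groth.Agent.Lib.Helper11.GenLocus
  Groth.Agent.Lib.Helper11.TensorMap Groth.Agent.Lib.Helper11.FinFreeBasis
  Groth.Agent.Lib.Helper11.TensorFormulas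

universe u
variable {X : Scheme.{u}}

section pairing
variable {P Q : X.Modules} (ev : BilinFamily P Q (Coh.structureModule X))

/-- the pairing, valued in functions. -/
noncomputable def pr (W : X.Opens) (p : Γ(P, W)) (q : Γ(Q, W)) : Γ(X, W) := ofO W (ev.β W p q)

theorem pr_add_left (W : X.Opens) (p p' : Γ(P, W)) (q : Γ(Q, W)) :
    pr ev W (p + p') q = pr ev W p q + pr ev W p' q := ev.add_left W p p' q

theorem pr_add_right (W : X.Opens) (p : Γ(P, W)) (q q' : Γ(Q, W)) :
    pr ev W p (q + q') = pr ev W p q + pr ev W p q' := ev.add_right W p q q'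

theorem pr_smul_left (W : X.Opens) (r : Γ(X, W)) (p : Γ(P, W)) (q : Γ(Q, W)) :
    pr ev W (r • p) q = r * pr ev W p q := ev.smul_left W r p q

theorem pr_smul_right (W : X.Opens) (r : Γ(X, W)) (p : Γ(P, W)) (q : Γ(Q, W)) :
    pr ev W p (r • q) = r * pr ev W p q := ev.smul_right W r p q

theorem pr_res {W W' : X.Opens} (h : W' ≤ W) (p : Γ(P, W)) (q : Γ(Q, W)) :
    fres h (pr ev W p q) = pr ev W' (mres P h p) (mres Q h q) := ev.res (homOfLE h) p q

theorem pr_zero_left (W : X.Opens) (q : Γ(Q, W)) : pr ev W 0 q = 0 := by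
  have := pr_smul_left ev W 0 0 q
  rwa [zero_smul, zero_mul] at this

theorem pr_zero_right (W : X.Opens) (p : Γ(P, W)) : pr ev W p 0 = 0 := by
  have := pr_smul_right ev W 0 p 0
  rwa [zero_smul, zero_mul] at this

theorem pr_sum_left (W : X.Opens) {ι : Type*} (s : Finset ι) (p : ι → Γ(P, W)) (q : Γ(Q, W)) :
    pr ev W (∑ i ∈ s, p i) q = ∑ i ∈ s, pr ev W (p i) q := by
  classical
  induction s using Finset.induction_on with
  | empty => simp [pr_zero_left]
  | insert a s ha ih => rw [Finset.sum_insert ha, Finset.sum_insert ha, pr_add_left, ih]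

theorem pr_sum_right (W : X.Opens) {ι : Type*} (s : Finset ι) (p : Γ(P, W)) (q : ι → Γ(Q, W)) :
    pr ev W p (∑ i ∈ s, q i) = ∑ i ∈ s, pr ev W p (q i) := by
  classical
  induction s using Finset.induction_on with
  | empty => simp [pr_zero_right]
  | insert a s ha ih => rw [Finset.sum_insert ha, Finset.sum_insert ha, pr_add_right, ih]

/-- the swapped pairing. -/
noncomputable def swapB : BilinFamily Q P (Coh.structureModule X) where
  β U q p := ev.β U p q
  add_left U a a' b := ev.add_right U b a a'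
  smul_left U r a b := ev.smul_right U r b a
  add_right U a b b' := ev.add_left U b b' a
  smul_right U r a b := ev.smul_left U r b a
  res i a b := ev.res i b a

theorem pr_swapB (W : X.Opens) (p : Γ(P, W)) (q : Γ(Q, W)) :
    pr (swapB ev) W q p = pr ev W p q := rfl

/-- dual bases of `P` and `Q` over `W` (and all smaller opens). -/
structure IsDualBasis (W : X.Opens) {n : ℕ} (e : Fin n → Γ(P, W)) (e' : Fin n → Γ(Q, W)) : Prop where
  basisP : IsBasisFam P W e
  basisQ : IsBasisFam Q W e'
  ortho : ∀ i j, pr ev W (e i) (e' j) = if i = j then 1 else 0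

variable {ev}

theorem IsDualBasis.swap {W : X.Opens} {n : ℕ} {e : Fin n → Γ(P, W)} {e' : Fin n → Γ(Q, W)}
    (h : IsDualBasis ev W e e') : IsDualBasis (swapB ev) W e' e :=
  ⟨h.basisQ, h.basisP, fun i j => by
    rw [pr_swapB, h.ortho]
    simp only [eq_comm]⟩

theorem IsDualBasis.mono {W W' : X.Opens} {n : ℕ} {e : Fin n → Γ(P, W)} {e' : Fin n → Γ(Q, W)}
    (h : IsDualBasis ev W e e') (hW : W' ≤ W) :
    IsDualBasis ev W' (fun i => mres P hW (e i)) (fun i => mres Q hW (e' i)) :=
  ⟨h.basisP.mono hW, h.basisQ.mono hW, fun i j => by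
    rw [← pr_res, h.ortho]
    split_ifs <;> simp⟩

/-- expansion of a section of `P` in the basis `e`. -/
theorem IsDualBasis.expandP {W : X.Opens} {n : ℕ} {e : Fin n → Γ(P, W)} {e' : Fin n → Γ(Q, W)}
    (h : IsDualBasis ev W e e') (p : Γ(P, W)) : p = ∑ j, pr ev W p (e' j) • e j := by
  obtain ⟨a, ha⟩ := (h.basisP W le_rfl).2 p
  simp only [mres_self] at ha
  have hk : ∀ k, pr ev W p (e' k) = a k := by
    intro k
    rw [← ha, pr_sum_left]
    simp only [pr_smul_left, h.ortho]
    simp
  simp only [hk]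
  exact ha.symm

theorem IsDualBasis.expandQ {W : X.Opens} {n : ℕ} {e : Fin n → Γ(P, W)} {e' : Fin n → Γ(Q, W)}
    (h : IsDualBasis ev W e e') (q : Γ(Q, W)) : q = ∑ i, pr ev W (e i) q • e' i :=
  h.swap.expandP q

/-- independence of the dual bases: the Casimir element. -/
theorem IsDualBasis.casimir_eq {W : X.Opens} {n m : ℕ} {e : Fin n → Γ(P, W)} {e' : Fin n → Γ(Q, W)}
    {d : Fin m → Γ(P, W)} {d' : Fin m → Γ(Q, W)}
    (h : IsDualBasis ev W e e') (hd : IsDualBasis ev W d d') :
    ∑ i, tm Q P W (e' i) (e i) = ∑ j, tm Q P W (d' j) (d j) := by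
  calc ∑ i, tm Q P W (e' i) (e i)
      = ∑ i, tm Q P W (e' i) (∑ j, pr ev W (e i) (d' j) • d j) :=
        Finset.sum_congr rfl fun i _ => by rw [← hd.expandP]
    _ = ∑ i, ∑ j, tm Q P W (pr ev W (e i) (d' j) • e' i) (d j) :=
        Finset.sum_congr rfl fun i _ => by
          rw [tm_sum_right]
          exact Finset.sum_congr rfl fun j _ => by rw [tm_smul_right, tm_smul_left]
    _ = ∑ j, ∑ i, tm Q P W (pr ev W (e i) (d' j) • e' i) (d j) := Finset.sum_comm
    _ = ∑ j, tm Q P W (d' j) (d j) :=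
        Finset.sum_congr rfl fun j _ => by
          rw [← tm_sum_left', ← h.expandQ]

end pairing


/-- a perfect pairing between `P` and `Q` with local dual bases. -/
structure DualPair (P Q : X.Modules) where
  /-- the pairing -/
  ev : BilinFamily P Q (Coh.structureModule X)
  loc : ∀ x : X, ∃ (V : X.Opens) (n : ℕ) (e : Fin n → Γ(P, V)) (e' : Fin n → Γ(Q, V)),
    x ∈ V ∧ IsDualBasis ev V e e'

namespace DualPair
variable {P Q : X.Modules} (D : DualPair P Q)

/-- the symmetric dual pair. -/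
noncomputable def symm : DualPair Q P where
  ev := swapB D.ev
  loc x := by
    obtain ⟨V, n, e, e', hx, h⟩ := D.loc x
    exact ⟨V, n, e', e, hx, h.swap⟩

/-- the coevaluation section of `Q ⊗ P`. -/
theorem exists_coev : ∃ c : Γ(CohB1.tensorMod Q P, ⊤), ∀ (W : X.Opens) (n : ℕ) (e : Fin n → Γ(P, W))
    (e' : Fin n → Γ(Q, W)), IsDualBasis D.ev W e e' →
      mres (CohB1.tensorMod Q P) le_top c = ∑ i, tm Q P W (e' i) (e i) := by
  choose V n e e' hxV hV using D.loc
  let sf : ∀ x : X, Γ(CohB1.tensorMod Q P, V x) := fun x => ∑ i, tm Q P (V x) (e' x i) (e x i)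
  have hcompat : TopCat.Presheaf.IsCompatible (CohB1.tensorMod Q P).presheaf V sf := by
    intro x y
    change mres (CohB1.tensorMod Q P) (inf_le_left : V x ⊓ V y ≤ V x) (sf x) =
      mres (CohB1.tensorMod Q P) (inf_le_right : V x ⊓ V y ≤ V y) (sf y)
    simp only [sf]
    rw [sum_tm_res, sum_tm_res]
    exact ((hV x).mono inf_le_left).casimir_eq ((hV y).mono inf_le_right)
  obtain ⟨(c : Γ(CohB1.tensorMod Q P, ⊤)), hc, -⟩ := TopCat.Sheaf.existsUnique_gluing'
    ⟨(CohB1.tensorMod Q P).presheaf, (CohB1.tensorMod Q P).isSheaf⟩ V ⊤ (fun x => homOfLE le_top)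
    (fun x _ => Opens.mem_iSup.mpr ⟨x, hxV x⟩) sf hcompat
  refine ⟨c, fun W m d d' hd => ?_⟩
  apply TopCat.Sheaf.eq_of_locally_eq' ⟨(CohB1.tensorMod Q P).presheaf,
    (CohB1.tensorMod Q P).isSheaf⟩ (fun x : W => W ⊓ V x.1) W (fun x => homOfLE inf_le_left)
    (fun x hx => Opens.mem_iSup.mpr ⟨⟨x, hx⟩, ⟨hx, hxV x⟩⟩)
  intro x
  change mres (CohB1.tensorMod Q P) (inf_le_left : W ⊓ V x.1 ≤ W) (mres _ le_top c) =
    mres (CohB1.tensorMod Q P) (inf_le_left : W ⊓ V x.1 ≤ W) (∑ i, tm Q P W (d' i) (d i))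
  rw [mres_mres, sum_tm_res]
  have h1 : mres (CohB1.tensorMod Q P) (inf_le_right : W ⊓ V x.1 ≤ V x.1)
      (mres (CohB1.tensorMod Q P) le_top c) = mres _ inf_le_right (sf x.1) :=
    congrArg _ (hc x.1)
  rw [mres_mres] at h1
  rw [h1]
  simp only [sf]
  rw [sum_tm_res]
  exact ((hV x.1).mono inf_le_right).casimir_eq (hd.mono inf_le_left)

/-- the coevaluation section. -/
noncomputable def coevSec : Γ(CohB1.tensorMod Q P, ⊤) := D.exists_coev.choose

theorem coevSec_res {W : X.Opens} {n : ℕ} {e : Fin n → Γ(P, W)} {e' : Fin n → Γ(Q, W)}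
    (h : IsDualBasis D.ev W e e') :
    mres (CohB1.tensorMod Q P) le_top D.coevSec = ∑ i, tm Q P W (e' i) (e i) :=
  D.exists_coev.choose_spec W n e e' h

/-- the coevaluation morphism `O ⟶ Q ⊗ P`. -/
noncomputable def coev : Coh.structureModule X ⟶ CohB1.tensorMod Q P :=
  homOfSection _ D.coevSec

theorem coev_app_one {W : X.Opens} {n : ℕ} {e : Fin n → Γ(P, W)} {e' : Fin n → Γ(Q, W)}
    (h : IsDualBasis D.ev W e e') :
    D.coev.app W (toO W 1) = ∑ i, tm Q P W (e' i) (e i) := by
  rw [← D.coevSec_res h]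
  exact sec_homOfSection _ D.coevSec W


/-- the unit `B ⟶ (B ⊗ Q) ⊗ P`. -/
noncomputable def eta (B : X.Modules) : B ⟶ CohB1.tensorMod (CohB1.tensorMod B Q) P :=
  (tensorUnitIso B).inv ≫ tensorModMap (𝟙 B) D.coev ≫ (tensorModAssoc B Q P).inv

theorem eta_app (B : X.Modules) {W : X.Opens} {n : ℕ} {e : Fin n → Γ(P, W)} {e' : Fin n → Γ(Q, W)}
    (h : IsDualBasis D.ev W e e') (b : Γ(B, W)) :
    (D.eta B).app W b = ∑ i, tm (CohB1.tensorMod B Q) P W (tm B Q W b (e' i)) (e i) := by
  have h1 : (D.eta B).app W b = (tensorModAssoc B Q P).inv.app W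
      ((tensorModMap (𝟙 B) D.coev).app W ((tensorUnitIso B).inv.app W b)) := rfl
  rw [h1, tensorUnitIso_inv_app, tensorModMap_tm, D.coev_app_one h, tm_sum_right, map_sum]
  exact Finset.sum_congr rfl fun i _ => tensorModAssoc_inv_tm B Q P W b (e' i) (e i)

/-- the counit `(I ⊗ P) ⊗ Q ⟶ I`. -/
noncomputable def eps (I : X.Modules) : CohB1.tensorMod (CohB1.tensorMod I P) Q ⟶ I :=
  (tensorModAssoc I P Q).hom ≫ tensorModMap (𝟙 I) D.ev.desc ≫ (tensorUnitIso I).hom

theorem eps_tm (I : X.Modules) (W : X.Opens) (x : Γ(I, W)) (p : Γ(P, W)) (q : Γ(Q, W)) :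
    (D.eps I).app W (tm (CohB1.tensorMod I P) Q W (tm I P W x p) q) = pr D.ev W p q • x := by
  have h1 : (D.eps I).app W (tm (CohB1.tensorMod I P) Q W (tm I P W x p) q) =
    (tensorUnitIso I).hom.app W ((tensorModMap (𝟙 I) D.ev.desc).app W
      ((tensorModAssoc I P Q).hom.app W (tm (CohB1.tensorMod I P) Q W (tm I P W x p) q))) := rfl
  rw [h1, tensorModAssoc_hom_tm, tensorModMap_tm]
  have h2 : D.ev.desc.app W (tm P Q W p q) = toO W (pr D.ev W p q) := D.ev.desc_tmul W p q
  rw [h2]
  exact tensorUnitIso_hom_tm I W x _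


theorem comp_app_apply {F G H : X.Modules} (φ : F ⟶ G) (ψ : G ⟶ H) (W : X.Opens) (s : Γ(F, W)) :
    (φ ≫ ψ).app W s = ψ.app W (φ.app W s) := rfl

theorem id_app_apply {F : X.Modules} (W : X.Opens) (s : Γ(F, W)) :
    (𝟙 F : F ⟶ F).app W s = s := rfl

include D in
/-- morphisms out of `(A ⊗ P) ⊗ Q` are determined by their values on pure tensors. -/
theorem hom_ext_tm2 {A C : X.Modules} (φ ψ : CohB1.tensorMod (CohB1.tensorMod A P) Q ⟶ C)
    (h : ∀ (W : X.Opens) (a : Γ(A, W)) (p : Γ(P, W)) (q : Γ(Q, W)),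
      φ.app W (tm _ Q W (tm A P W a p) q) = ψ.app W (tm _ Q W (tm A P W a p) q)) : φ = ψ := by
  apply hom_ext_tm_local
  intro x
  obtain ⟨V, n, e, e', hxV, hV⟩ := D.loc x
  refine ⟨V, hxV, fun W hW y q => ?_⟩
  obtain ⟨a, ha⟩ := tmFam_surjective A P V e hV.basisP W hW y
  rw [← ha, tm_sum_left', map_sum, map_sum]
  exact Finset.sum_congr rfl fun i _ => h W (a i) _ q

theorem eta_naturality {B B' : X.Modules} (u : B ⟶ B') :
    u ≫ D.eta B' = D.eta B ≫ tensorModMap (tensorModMap u (𝟙 Q)) (𝟙 P) := by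
  apply hom_ext_local
  intro x
  obtain ⟨V, n, e, e', hxV, hV⟩ := D.loc x
  refine ⟨V, hxV, fun W hW b => ?_⟩
  rw [comp_app_apply, comp_app_apply, D.eta_app B' (hV.mono hW), D.eta_app B (hV.mono hW), map_sum]
  refine Finset.sum_congr rfl fun i _ => ?_
  rw [tensorModMap_tm, tensorModMap_tm]
  rfl

theorem eps_naturality {I I' : X.Modules} (v : I ⟶ I') :
    tensorModMap (tensorModMap v (𝟙 P)) (𝟙 Q) ≫ D.eps I' = D.eps I ≫ v := by
  apply D.hom_ext_tm2
  intro W a p q
  rw [comp_app_apply, comp_app_apply, tensorModMap_tm, tensorModMap_tm, D.eps_tm, D.eps_tm]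
  exact (Scheme.Modules.Hom.app_smul v _ a).symm

theorem left_triangle (B : X.Modules) :
    tensorModMap (D.eta B) (𝟙 Q) ≫ D.eps (CohB1.tensorMod B Q) = 𝟙 _ := by
  apply hom_ext_tm_local
  intro x
  obtain ⟨V, n, e, e', hxV, hV⟩ := D.loc x
  refine ⟨V, hxV, fun W hW b q => ?_⟩
  have hW' := hV.mono hW
  rw [comp_app_apply, tensorModMap_tm, D.eta_app B hW', tm_sum_left', map_sum, id_app_apply,
    id_app_apply]
  have h1 : ∀ i, (D.eps (CohB1.tensorMod B Q)).app W (tm _ Q W
      (tm (CohB1.tensorMod B Q) P W (tm B Q W b (mres Q hW (e' i))) (mres P hW (e i))) q) =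
      tm B Q W b (pr D.ev W (mres P hW (e i)) q • mres Q hW (e' i)) := by
    intro i
    rw [D.eps_tm, tm_smul_right]
  rw [Finset.sum_congr rfl fun i _ => h1 i, ← tm_sum_right, ← hW'.expandQ]

theorem right_triangle (I : X.Modules) :
    D.eta (CohB1.tensorMod I P) ≫ tensorModMap (D.eps I) (𝟙 P) = 𝟙 _ := by
  apply hom_ext_tm_local
  intro x
  obtain ⟨V, n, e, e', hxV, hV⟩ := D.loc x
  refine ⟨V, hxV, fun W hW a p => ?_⟩
  have hW' := hV.mono hW
  rw [comp_app_apply, D.eta_app _ hW', map_sum, id_app_apply]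
  have h1 : ∀ i, (tensorModMap (D.eps I) (𝟙 P)).app W
      (tm (CohB1.tensorMod (CohB1.tensorMod I P) Q) P W
        (tm (CohB1.tensorMod I P) Q W (tm I P W a p) (mres Q hW (e' i))) (mres P hW (e i))) =
      tm I P W a (pr D.ev W p (mres Q hW (e' i)) • mres P hW (e i)) := by
    intro i
    rw [tensorModMap_tm, D.eps_tm, id_app_apply, tm_smul_right, tm_smul_left]
  rw [Finset.sum_congr rfl fun i _ => h1 i, ← tm_sum_right, ← hW'.expandP]


end DualPair

/-- the functor `- ⊗ N`. -/
noncomputable def tensR (N : X.Modules) : X.Modules ⥤ X.Modules where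
  obj A := CohB1.tensorMod A N
  map u := tensorModMap u (𝟙 N)
  map_id A := tensorModMap_id A N
  map_comp u v := by
    have := tensorModMap_comp u v (𝟙 N) (𝟙 N)
    rwa [Category.comp_id] at this

theorem tensR_obj (N A : X.Modules) : (tensR N).obj A = CohB1.tensorMod A N := rfl

theorem tensR_map (N : X.Modules) {A B : X.Modules} (u : A ⟶ B) :
    (tensR N).map u = tensorModMap u (𝟙 N) := rfl

namespace DualPair
variable {P Q : X.Modules} (D : DualPair P Q)

/-- the adjunction `(- ⊗ Q) ⊣ (- ⊗ P)` of a dual pair. -/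
noncomputable def adj : tensR Q ⊣ tensR P :=
  Adjunction.mkOfUnitCounit
    { unit := { app := fun B => D.eta B
                naturality := fun B B' u => D.eta_naturality u }
      counit := { app := fun I => D.eps I
                  naturality := fun I I' v => D.eps_naturality v }
      left_triangle := by
        refine NatTrans.ext (funext fun B => ?_)
        dsimp only [NatTrans.comp_app, Functor.whiskerRight_app, Functor.associator_hom_app,
          Functor.whiskerLeft_app, NatTrans.id_app, Functor.comp_obj, Functor.id_obj]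
        rw [Category.id_comp]
        exact D.left_triangle B
      right_triangle := by
        refine NatTrans.ext (funext fun I => ?_)
        dsimp only [NatTrans.comp_app, Functor.whiskerRight_app, Functor.associator_inv_app,
          Functor.whiskerLeft_app, NatTrans.id_app, Functor.comp_obj, Functor.id_obj]
        rw [Category.id_comp]
        exact D.right_triangle I }

end DualPair


section dual
open Groth.Agent.Lib.Helper11.FinFreeDual Groth.Agent.Lib.Helper45.RefHullCoh

variable {E : X.Modules}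

theorem dualSectionsEquiv_apply {V : X.Opens} {n : ℕ} {e : Fin n → Γ(E, V)} (he : IsBasisFam E V e)
    {T : X.Opens} (hTV : T ≤ V) (φ : Γ(RefHull.dual E, T)) (i : Fin n) :
    dualSectionsEquiv he hTV φ i = pr (evBilin E) T (mres E hTV (e i)) φ := rfl

/-- the dual basis. -/
noncomputable def dualBasis {V : X.Opens} {n : ℕ} {e : Fin n → Γ(E, V)} (he : IsBasisFam E V e)
    (j : Fin n) : Γ(RefHull.dual E, V) :=
  (dualSectionsEquiv he le_rfl).symm (Pi.single j 1)

theorem pr_dualBasis {V : X.Opens} {n : ℕ} {e : Fin n → Γ(E, V)} (he : IsBasisFam E V e)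
    (i j : Fin n) : pr (evBilin E) V (e i) (dualBasis he j) = if i = j then 1 else 0 := by
  have h1 := dualSectionsEquiv_apply he le_rfl (dualBasis he j) i
  rw [mres_self] at h1
  rw [← h1, dualBasis, LinearEquiv.apply_symm_apply, Pi.single_apply]

theorem isDualBasis_dualBasis {V : X.Opens} {n : ℕ} {e : Fin n → Γ(E, V)} (he : IsBasisFam E V e) :
    IsDualBasis (evBilin E) V e (dualBasis he) := by
  refine ⟨he, fun W hW => ?_, pr_dualBasis he⟩
  have hcomp : ∀ a : Fin n → Γ(X, W),
      dualSectionsEquiv he hW (∑ j, a j • mres (RefHull.dual E) hW (dualBasis he j)) = a := by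
    intro a
    rw [map_sum]
    funext i
    rw [Finset.sum_apply]
    have h2 : ∀ j, (dualSectionsEquiv he hW (a j • mres (RefHull.dual E) hW (dualBasis he j))) i =
        if i = j then a j else 0 := by
      intro j
      rw [map_smul, Pi.smul_apply, dualSectionsEquiv_apply, ← pr_res, pr_dualBasis]
      split_ifs <;> simp
    rw [Finset.sum_congr rfl fun j _ => h2 j]
    simp
  have heq : (fun a : Fin n → Γ(X, W) => ∑ j, a j • mres (RefHull.dual E) hW (dualBasis he j)) =
      (dualSectionsEquiv he hW).symm := by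
    funext a
    rw [LinearEquiv.eq_symm_apply]
    exact hcomp a
  rw [heq]
  exact (dualSectionsEquiv he hW).symm.bijective

/-- a finite locally free module and its dual form a dual pair. -/
noncomputable def dualPairOfFinLocFree (hE : FlatMod.IsFinLocFree E) :
    DualPair E (RefHull.dual E) where
  ev := evBilin E
  loc x := by
    obtain ⟨V, n, e, hxV, he⟩ := exists_isBasisFam_of_isFinLocFree hE x
    exact ⟨V, n, e, dualBasis he, hxV, isDualBasis_dualBasis he⟩


theorem preservesMonomorphisms_tensR {P Q : X.Modules} (D : DualPair P Q) :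
    (tensR P).PreservesMonomorphisms := by
  haveI : Limits.PreservesLimitsOfSize.{0, 0} (tensR P) := D.adj.rightAdjoint_preservesLimits
  infer_instance

theorem injective_tensR {P Q : X.Modules} (D : DualPair P Q) (I : X.Modules) [Injective I] :
    Injective (CohB1.tensorMod I P) := by
  haveI := preservesMonomorphisms_tensR D.symm
  exact Injective.injective_of_adjoint D.adj I

/-- tensoring an injective module with a finite locally free module gives an injective module. -/
theorem injective_tensorMod_of_isFinLocFree (hE : FlatMod.IsFinLocFree E) (I : X.Modules)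
    [Injective I] : Injective (CohB1.tensorMod E I) :=
  Injective.of_iso (tensorModBraid I E) (injective_tensR (dualPairOfFinLocFree hE) I)

end dual

end Groth.Agent.Lib.Helper11.FinFreeAdj
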