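import Mathlib
import Groth.Agent.Lib.Helper11.FinFreeBasis
import Groth.Agent.Lib.Helper49.UnitChart
import Groth.Agent.Lib.Helper45.LocalizingOn
import Groth.Agent.Lib.Helper42.QCohAffineSections
import Groth.Agent.Lib.Helper16.FlatPull.Chart

/-!
# Projection formula for finite locally free morphisms (helper11)

* `pfMap f M : M ⊗ f_* O_X ⟶ f_* f^* M`, given on pure tensors by `m ⊗ b ↦ b • f^* m` (`pfMap_tm`).
* `pfMap_app_bijective`: bijective on sections over affine opens on which `f_* O_X` has a basis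
  family (for `f` affine, `M` quasi-coherent).
* `isIso_pfMap`: `pfMap f M` is an isomorphism when `f` is affine and `f_* O_X` is finite locally
  free.
-/

set_option autoImplicit false
set_option linter.style.haveILetI false
set_option linter.unusedSectionVars false
namespace Groth.Agent.Lib.Helper11.ProjFormula
open AlgebraicGeometry CategoryTheory TopologicalSpace Opposite TensorProduct
open Groth.Agent.Lib.Helper45 Groth.Agent.Lib.Helper49 Groth.Agent.Lib.Helper49.UnitChart
  Groth.Agent.Lib.Helper11.GenLocus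
  Groth.Agent.Lib.Helper11.TensorMap Groth.Agent.Lib.Helper11.FinFreeBasis Scheme.Modules

universe u

section algebra

theorem bijective_sum_smul_of_isBaseChange {R S M P : Type*} [CommRing R] [CommRing S]
    [Algebra R S] [AddCommGroup M] [Module R M] [AddCommGroup P] [Module R P] [Module S P]
    [IsScalarTower R S P] (f : M →ₗ[R] P) (hf : IsBaseChange S f) {n : ℕ} (b : Fin n → S)
    (hb : Function.Bijective (fun a : Fin n → R => ∑ i, a i • b i)) :
    Function.Bijective (fun m : Fin n → M => ∑ i, b i • f (m i)) := by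
  classical
  have : (fun m : Fin n → M => ∑ i, b i • f (m i)) =
      hf.equiv ∘ (TensorProduct.equivFinsuppOfBasisLeft (N := M) (basisOfBij b hb)).symm ∘
        (Finsupp.equivFunOnFinite (α := Fin n) (M := M)).symm := by
    funext m
    simp only [Function.comp_apply]
    rw [TensorProduct.equivFinsuppOfBasisLeft_symm_apply, Finsupp.sum_fintype _ _ (by simp),
      map_sum]
    refine Finset.sum_congr rfl fun i _ => ?_
    rw [basisOfBij_apply, IsBaseChange.equiv_tmul]
    rfl
  rw [this]
  exact hf.equiv.bijective.comp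
    ((TensorProduct.equivFinsuppOfBasisLeft (N := M) (basisOfBij b hb)).symm.bijective.comp
      (Finsupp.equivFunOnFinite (α := Fin n) (M := M)).symm.bijective)

end algebra

variable {X Y : Scheme.{u}} (f : X ⟶ Y) (M : Y.Modules)

/-- `f_* O_X`. -/
noncomputable abbrev pushO : Y.Modules := (pushforward f).obj (Coh.structureModule X)

/-- `f_* f^* M`. -/
noncomputable abbrev pushPull : Y.Modules := (pushforward f).obj ((pullback f).obj M)

/-- view a section of `f_* O_X` over `W` as a function on `f⁻¹ W`. -/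
def ofPushO {W : Y.Opens} (b : Γ(pushO f, W)) : Γ(X, f ⁻¹ᵁ W) := b

/-- view a function on `f⁻¹ W` as a section of `f_* O_X` over `W`. -/
def toPushO {W : Y.Opens} (b : Γ(X, f ⁻¹ᵁ W)) : Γ(pushO f, W) := b

/-- the projection-formula pairing `(m, b) ↦ b • f^* m`. -/
noncomputable def pfβ (W : Y.Opens) (m : Γ(M, W)) (b : Γ(pushO f, W)) : Γ(pushPull f M, W) :=
  (show Γ(pushPull f M, W) from
    (ofPushO f b • pullSLE f M W (f ⁻¹ᵁ W) le_rfl m : Γ((pullback f).obj M, f ⁻¹ᵁ W)))


theorem pushO_smul {W : Y.Opens} (r : Γ(Y, W)) (b : Γ(pushO f, W)) :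
    ofPushO f (r • b) = (f.app W).hom r * ofPushO f b := rfl

/-- the pairing, valued in sections of `f^* M`. -/
noncomputable def pfβ' (W : Y.Opens) (m : Γ(M, W)) (b : Γ(pushO f, W)) :
    Γ((pullback f).obj M, f ⁻¹ᵁ W) :=
  ofPushO f b • pullSLE f M W (f ⁻¹ᵁ W) le_rfl m

theorem pfβ_eq (W : Y.Opens) (m : Γ(M, W)) (b : Γ(pushO f, W)) :
    pfβ f M W m b = (show Γ(pushPull f M, W) from pfβ' f M W m b) := rfl

theorem pfβ'_add_left (W : Y.Opens) (m m' : Γ(M, W)) (b : Γ(pushO f, W)) :
    pfβ' f M W (m + m') b = pfβ' f M W m b + pfβ' f M W m' b := by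
  unfold pfβ'
  rw [pullSLE_add, smul_add]

theorem pfβ'_smul_left (W : Y.Opens) (r : Γ(Y, W)) (m : Γ(M, W)) (b : Γ(pushO f, W)) :
    pfβ' f M W (r • m) b = (f.app W).hom r • pfβ' f M W m b := by
  unfold pfβ'
  rw [pullSLE_smul, smul_comm]
  congr 2
  exact congrArg (fun k => k.hom) (Scheme.Hom.appLE_eq_app (f := f) (U := W))

theorem pfβ'_add_right (W : Y.Opens) (m : Γ(M, W)) (b b' : Γ(pushO f, W)) :
    pfβ' f M W m (b + b') = pfβ' f M W m b + pfβ' f M W m b' := by
  unfold pfβ'
  exact add_smul (ofPushO f b) (ofPushO f b') _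

theorem pfβ'_smul_right (W : Y.Opens) (r : Γ(Y, W)) (m : Γ(M, W)) (b : Γ(pushO f, W)) :
    pfβ' f M W m (r • b) = (f.app W).hom r • pfβ' f M W m b := by
  unfold pfβ'
  rw [pushO_smul, mul_smul]

theorem pfβ'_res {W W' : Y.Opens} (h : W' ≤ W) (m : Γ(M, W)) (b : Γ(pushO f, W)) :
    mres ((pullback f).obj M) (show f ⁻¹ᵁ W' ≤ f ⁻¹ᵁ W from fun _ hx => h hx) (pfβ' f M W m b) =
      pfβ' f M W' (mres M h m) (mres (pushO f) h b) := by
  unfold pfβ'
  rw [mres_smul, mres_pullSLE, pullSLE_mres]
  rfl

/-- the projection-formula bilinear family. -/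
noncomputable def pfBilin : BilinFamily M (pushO f) (pushPull f M) where
  β W m b := pfβ f M W m b
  add_left W m m' b := pfβ'_add_left f M W m m' b
  smul_left W r m b := pfβ'_smul_left f M W r m b
  add_right W m b b' := pfβ'_add_right f M W m b b'
  smul_right W r m b := pfβ'_smul_right f M W r m b
  res i m b := pfβ'_res f M i.le m b

/-- the projection formula morphism `M ⊗ f_* O_X ⟶ f_* f^* M`. -/
noncomputable def pfMap : CohB1.tensorMod M (pushO f) ⟶ pushPull f M := (pfBilin f M).desc

theorem pfMap_tm (W : Y.Opens) (m : Γ(M, W)) (b : Γ(pushO f, W)) :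
    (pfMap f M).app W (tm M (pushO f) W m b) = pfβ f M W m b :=
  (pfBilin f M).desc_tmul W m b


theorem pfMap_sum_tm (W : Y.Opens) {n : ℕ} (m : Fin n → Γ(M, W)) (b : Fin n → Γ(pushO f, W)) :
    (pfMap f M).app W (∑ i, tm M (pushO f) W (m i) (b i)) =
      (show Γ(pushPull f M, W) from ∑ i, pfβ' f M W (m i) (b i)) := by
  rw [map_sum]
  exact Finset.sum_congr rfl fun i _ => pfMap_tm f M W (m i) (b i)

/-- the projection formula map is bijective on sections over affine opens on which `f_* O_X` has a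
basis family. -/
theorem pfMap_app_bijective [IsAffineHom f] [M.IsQuasicoherent] {V : Y.Opens} {n : ℕ}
    {b : Fin n → Γ(pushO f, V)} (hb : IsBasisFam (pushO f) V b) {W : Y.Opens} (hWV : W ≤ V)
    (hW : IsAffineOpen W) : Function.Bijective ((pfMap f M).app W) := by
  have hU : IsAffineOpen (f ⁻¹ᵁ W) := hW.preimage f
  let tmE := tmFamEquiv M (pushO f) V b hb W hWV
  have hcomp : Function.Bijective
      (fun m : Fin n → Γ(M, W) => ∑ i, pfβ' f M W (m i) (mres (pushO f) hWV (b i))) := by
    letI := (f.appLE W (f ⁻¹ᵁ W) le_rfl).hom.toAlgebra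
    letI : Module Γ(Y, W) Γ((pullback f).obj M, f ⁻¹ᵁ W) :=
      Module.compHom _ (f.appLE W (f ⁻¹ᵁ W) le_rfl).hom
    haveI : IsScalarTower Γ(Y, W) Γ(X, f ⁻¹ᵁ W) Γ((pullback f).obj M, f ⁻¹ᵁ W) :=
      IsScalarTower.of_compHom _ _ _
    obtain ⟨c, hc, hbc⟩ := exists_isBaseChange_pullSLE f hW hU le_rfl M
    have hb' : Function.Bijective (fun a : Fin n → Γ(Y, W) =>
        ∑ i, a i • ofPushO f (mres (pushO f) hWV (b i))) := by
      have := hb W hWV
      have e : (fun a : Fin n → Γ(Y, W) => ∑ i, a i • ofPushO f (mres (pushO f) hWV (b i))) =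
          (fun a : Fin n → Γ(Y, W) => ∑ i, a i • mres (pushO f) hWV (b i)) := by
        funext a
        change _ = ofPushO f (∑ i, a i • mres (pushO f) hWV (b i))
        change _ = ∑ i, ofPushO f (a i • mres (pushO f) hWV (b i))
        refine Finset.sum_congr rfl fun i _ => ?_
        rw [pushO_smul, Algebra.smul_def]
        congr 1
        exact congrArg (fun k => k.hom (a i)) (Scheme.Hom.appLE_eq_app (f := f) (U := W))
      rw [e]
      exact this
    have key := bijective_sum_smul_of_isBaseChange c hbc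
      (fun i => ofPushO f (mres (pushO f) hWV (b i))) hb'
    have e2 : (fun m : Fin n → Γ(M, W) => ∑ i, pfβ' f M W (m i) (mres (pushO f) hWV (b i))) =
        (fun m : Fin n → Γ(M, W) => ∑ i, ofPushO f (mres (pushO f) hWV (b i)) • c (m i)) := by
      funext m
      refine Finset.sum_congr rfl fun i _ => ?_
      rw [hc]
      rfl
    rw [e2]
    exact key
  have hfac : ((pfMap f M).app W : Γ(CohB1.tensorMod M (pushO f), W) → Γ(pushPull f M, W)) =
      (fun m : Fin n → Γ(M, W) => (show Γ(pushPull f M, W) from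
        ∑ i, pfβ' f M W (m i) (mres (pushO f) hWV (b i)))) ∘ tmE.symm := by
    funext y
    obtain ⟨m, rfl⟩ := tmE.surjective y
    simp only [Function.comp_apply, LinearEquiv.symm_apply_apply]
    rw [tmFamEquiv_apply]
    exact pfMap_sum_tm f M W m _
  rw [hfac]
  exact hcomp.comp tmE.symm.bijective


/-- **Projection formula** for an affine morphism `f` with `f_* O_X` finite locally free:
`M ⊗ f_* O_X ≅ f_* f^* M` for quasi-coherent `M`. -/
theorem isIso_pfMap [IsAffineHom f] [M.IsQuasicoherent]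
    (hA : FlatMod.IsFinLocFree (pushO f)) : IsIso (pfMap f M) := by
  haveI : (pushO f).IsQuasicoherent := isQuasicoherent_of_isFinLocFree _ hA
  haveI : (CohB1.tensorMod M (pushO f)).IsQuasicoherent :=
    (Groth.Agent.Lib.Helper11.TildeTensor.isQuasicoherent_tensorMod M (pushO f)).1
  haveI : ((pullback f).obj M).IsQuasicoherent :=
    Groth.Agent.Lib.Helper16.FlatPull.isQuasicoherent_pullback f M
  haveI : (pushPull f M).IsQuasicoherent := isQuasicoherent_pushforward ((pullback f).obj M) f
  refine Groth.Agent.Lib.Helper42.isIso_of_app_bijective_of_cover (pfMap f M) fun y => ?_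
  obtain ⟨V, n, b, hyV, hb⟩ := exists_isBasisFam_of_isFinLocFree hA y
  obtain ⟨_, ⟨W, hW, rfl⟩, hyW, hWV⟩ := Y.isBasis_affineOpens.exists_subset_of_mem_open hyV V.2
  exact ⟨W, hW, hyW, pfMap_app_bijective f M hb hWV hW⟩

end Groth.Agent.Lib.Helper11.ProjFormula
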