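import Mathlib
import Groth.Agent.Lib.Helper11.FinFreeAdj
import Groth.Agent.Lib.Helper11.ProjFormula

/-!
# The projection formula morphism `f_* F ⊗ E ⟶ f_* (F ⊗ f^* E)` (helper11)

* `isBasisFam_of_basis`: a family which is a basis on a basis of opens is a basis family.
* `isBasisFam_pullSLE`: the pullback of a basis family is a basis family.
* `theta f E F : f_* F ⊗ E ⟶ f_* (F ⊗ f^* E)`, `theta_tm`, `theta_app_bijective`, `isIso_theta`
  (for `E` finite locally free), `thetaIso : f_* ⋙ (- ⊗ E) ≅ (- ⊗ f^* E) ⋙ f_*`.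
* `isIso_of_locally_bijective`.
-/

set_option autoImplicit false
set_option linter.style.haveILetI false
namespace Groth.Agent.Lib.Helper11.ProjFormulaDerived
open AlgebraicGeometry CategoryTheory TopologicalSpace Opposite TensorProduct
open Groth.Agent.Lib.Helper45 Groth.Agent.Lib.Helper49 Groth.Agent.Lib.Helper11.GenLocus
  Groth.Agent.Lib.Helper11.TensorMap Groth.Agent.Lib.Helper11.FinFreeBasis
  Groth.Agent.Lib.Helper11.TensorFormulas Groth.Agent.Lib.Helper11.FinFreeAdj
  Groth.Agent.Lib.Helper49.UnitChart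

universe u
variable {X : Scheme.{u}}

theorem sum_smul_res (N : X.Modules) {W W' : X.Opens} (h : W' ≤ W) {n : ℕ} (a : Fin n → Γ(X, W))
    (s : Fin n → Γ(N, W)) :
    mres N h (∑ i, a i • s i) = ∑ i, fres h (a i) • mres N h (s i) := by
  rw [map_sum]
  exact Finset.sum_congr rfl fun i _ => mres_smul N h (a i) (s i)

/-- functions agreeing locally are equal. -/
theorem fun_ext_local {W : X.Opens} (a b : Γ(X, W))
    (h : ∀ x ∈ W, ∃ (U : X.Opens) (hU : U ≤ W), x ∈ U ∧ fres hU a = fres hU b) : a = b := by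
  have h1 : toO W a = toO W b := by
    apply TopCat.Presheaf.section_ext ⟨(Coh.structureModule X).presheaf,
      (Coh.structureModule X).isSheaf⟩
    intro x hx
    obtain ⟨U, hU, hxU, hab⟩ := h x hx
    have h2 : mres (Coh.structureModule X) hU (toO W a) = mres (Coh.structureModule X) hU (toO W b) := by
      rw [mres_apply, mres_apply, toO_res, toO_res]
      exact congrArg (toO U) hab
    have h5 := congrArg ((Coh.structureModule X).presheaf.germ U x hxU) h2
    rw [mres_apply, mres_apply, TopCat.Presheaf.germ_res_apply,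
      TopCat.Presheaf.germ_res_apply] at h5
    exact h5
  exact h1

/-- a family which is a basis on the members of a basis of the topology of `V` is a basis family. -/
theorem isBasisFam_of_basis {N : X.Modules} {V : X.Opens} {n : ℕ} (e : Fin n → Γ(N, V))
    (h : ∀ x ∈ V, ∀ V' : X.Opens, x ∈ V' → ∃ (U : X.Opens) (hU : U ≤ V), x ∈ U ∧ U ≤ V' ∧
      Function.Bijective (fun a : Fin n → Γ(X, U) => ∑ i, a i • mres N hU (e i))) :
    IsBasisFam N V e := by
  have hinj : ∀ (W : X.Opens) (hW : W ≤ V),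
      Function.Injective (fun a : Fin n → Γ(X, W) => ∑ i, a i • mres N hW (e i)) := by
    intro W hW a b hab
    funext i
    apply fun_ext_local
    intro x hx
    obtain ⟨U, hU, hxU, hUW, hbij⟩ := h x (hW hx) W hx
    refine ⟨U, hUW, hxU, ?_⟩
    have h1 := congrArg (mres N hUW) hab
    simp only [] at h1
    rw [sum_smul_res, sum_smul_res] at h1
    simp only [mres_mres] at h1
    exact congrFun (hbij.1 h1) i
  intro W hW
  refine ⟨hinj W hW, fun s => ?_⟩
  have hloc : ∀ x : W, ∃ (U : X.Opens) (hU : U ≤ W), x.1 ∈ U ∧ ∃ a : Fin n → Γ(X, U),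
      ∑ i, a i • mres N (hU.trans hW) (e i) = mres N hU s := by
    intro x
    obtain ⟨U, hU, hxU, hUW, hbij⟩ := h x.1 (hW x.2) W x.2
    obtain ⟨a, ha⟩ := hbij.2 (mres N hUW s)
    exact ⟨U, hUW, hxU, a, ha⟩
  choose U hU hxU aa haa using hloc
  have hcov : W ≤ iSup U := by
    intro x hx
    exact Opens.mem_iSup.mpr ⟨⟨x, hx⟩, hxU ⟨x, hx⟩⟩
  have hglue : ∀ i : Fin n, ∃ m : Γ(Coh.structureModule X, W),
      ∀ j, mres (Coh.structureModule X) (hU j) m = toO (U j) (aa j i) := by
    intro i
    obtain ⟨m, hm, -⟩ := TopCat.Sheaf.existsUnique_gluing'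
      ⟨(Coh.structureModule X).presheaf, (Coh.structureModule X).isSheaf⟩ U W
      (fun j => homOfLE (hU j)) hcov (fun j => toO (U j) (aa j i)) (by
        intro j k
        change mres (Coh.structureModule X) inf_le_left (toO (U j) (aa j i)) =
          mres (Coh.structureModule X) inf_le_right (toO (U k) (aa k i))
        rw [mres_apply, mres_apply, toO_res, toO_res]
        have key := hinj (U j ⊓ U k) (inf_le_left.trans ((hU j).trans hW))
          (a₁ := fun i => fres inf_le_left (aa j i)) (a₂ := fun i => fres inf_le_right (aa k i)) (by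
            have h1 := congrArg (mres N (inf_le_left : U j ⊓ U k ≤ U j)) (haa j)
            have h2 := congrArg (mres N (inf_le_right : U j ⊓ U k ≤ U k)) (haa k)
            rw [sum_smul_res, mres_mres] at h1 h2
            simp only [mres_mres] at h1 h2
            simp only []
            rw [h1, h2])
        exact congrArg (toO _) (congrFun key i))
    exact ⟨m, hm⟩
  choose m hm using hglue
  refine ⟨fun i => ofO W (m i), ?_⟩
  apply TopCat.Sheaf.eq_of_locally_eq' ⟨N.presheaf, N.isSheaf⟩ U W (fun j => homOfLE (hU j)) hcov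
  intro j
  change mres N (hU j) (∑ i, ofO W (m i) • mres N hW (e i)) = mres N (hU j) s
  rw [sum_smul_res]
  simp only [mres_mres]
  rw [← haa j]
  refine Finset.sum_congr rfl fun i _ => ?_
  congr 1
  have := hm i j
  rw [mres_apply] at this
  exact congrArg (ofO (U j)) this


section algebra

theorem bijective_sum_smul_of_isBaseChange_right {R S M P : Type*} [CommRing R] [CommRing S]
    [Algebra R S] [AddCommGroup M] [Module R M] [AddCommGroup P] [Module R P] [Module S P]
    [IsScalarTower R S P] (f : M →ₗ[R] P) (hf : IsBaseChange S f) {n : ℕ} (e : Fin n → M)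
    (he : Function.Bijective (fun a : Fin n → R => ∑ i, a i • e i)) :
    Function.Bijective (fun s : Fin n → S => ∑ i, s i • f (e i)) := by
  classical
  have : (fun s : Fin n → S => ∑ i, s i • f (e i)) =
      hf.equiv ∘ (TensorProduct.equivFinsuppOfBasisRight (M := S) (basisOfBij e he)).symm ∘
        (Finsupp.equivFunOnFinite (α := Fin n) (M := S)).symm := by
    funext s
    simp only [Function.comp_apply]
    rw [TensorProduct.equivFinsuppOfBasisRight_symm_apply, Finsupp.sum_fintype _ _ (by simp),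
      map_sum]
    refine Finset.sum_congr rfl fun i _ => ?_
    rw [basisOfBij_apply, IsBaseChange.equiv_tmul]
    rfl
  rw [this]
  exact hf.equiv.bijective.comp
    ((TensorProduct.equivFinsuppOfBasisRight (M := S) (basisOfBij e he)).symm.bijective.comp
      (Finsupp.equivFunOnFinite (α := Fin n) (M := S)).symm.bijective)

end algebra


section pullbackBasis
variable {Y : Scheme.{u}} (f : X ⟶ Y) (E : Y.Modules)

/-- the pullback of a basis family is a basis family. -/
theorem isBasisFam_pullSLE [E.IsQuasicoherent] {V : Y.Opens} {n : ℕ} {e : Fin n → Γ(E, V)}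
    (he : IsBasisFam E V e) :
    IsBasisFam ((Scheme.Modules.pullback f).obj E) (f ⁻¹ᵁ V)
      (fun i => pullSLE f E V (f ⁻¹ᵁ V) le_rfl (e i)) := by
  apply isBasisFam_of_basis
  intro x hx V' hxV'
  obtain ⟨_, ⟨W, hW, rfl⟩, hfxW, hWV⟩ :=
    Y.isBasis_affineOpens.exists_subset_of_mem_open (show f.base x ∈ V from hx) V.2
  obtain ⟨_, ⟨U, hU, rfl⟩, hxU, hUle⟩ :=
    X.isBasis_affineOpens.exists_subset_of_mem_open
      (show x ∈ f ⁻¹ᵁ W ⊓ V' from ⟨hfxW, hxV'⟩) (f ⁻¹ᵁ W ⊓ V').2
  have hUW : U ≤ f ⁻¹ᵁ W := fun z hz => (hUle hz).1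
  have hUV' : U ≤ V' := fun z hz => (hUle hz).2
  have hUV : U ≤ f ⁻¹ᵁ V := fun z hz => hWV (hUW hz)
  refine ⟨U, hUV, hxU, hUV', ?_⟩
  letI := (f.appLE W U hUW).hom.toAlgebra
  letI : Module Γ(Y, W) Γ((Scheme.Modules.pullback f).obj E, U) :=
    Module.compHom _ (f.appLE W U hUW).hom
  haveI : IsScalarTower Γ(Y, W) Γ(X, U) Γ((Scheme.Modules.pullback f).obj E, U) :=
    IsScalarTower.of_compHom _ _ _
  obtain ⟨c, hc, hbc⟩ := exists_isBaseChange_pullSLE f hW hU hUW E
  have key := bijective_sum_smul_of_isBaseChange_right c hbc (fun i => mres E hWV (e i)) (he W hWV)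
  have e2 : (fun a : Fin n → Γ(X, U) => ∑ i, a i • mres ((Scheme.Modules.pullback f).obj E) hUV
        (pullSLE f E V (f ⁻¹ᵁ V) le_rfl (e i))) =
      (fun s : Fin n → Γ(X, U) => ∑ i, s i • c (mres E hWV (e i))) := by
    funext a
    refine Finset.sum_congr rfl fun i _ => ?_
    rw [hc, pullSLE_mres, mres_pullSLE]
  rw [e2]
  exact key

end pullbackBasis


section theta
open Scheme.Modules
variable {Y : Scheme.{u}} (f : X ⟶ Y) (E : Y.Modules) (F : X.Modules)

/-- view a section of `f_* G` over `W` as a section of `G` over `f⁻¹ W`. -/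
def ofPush {G : X.Modules} {W : Y.Opens} (s : Γ((pushforward f).obj G, W)) : Γ(G, f ⁻¹ᵁ W) := s

/-- view a section of `G` over `f⁻¹ W` as a section of `f_* G` over `W`. -/
def toPush {G : X.Modules} {W : Y.Opens} (s : Γ(G, f ⁻¹ᵁ W)) : Γ((pushforward f).obj G, W) := s

theorem ofPush_smul {G : X.Modules} {W : Y.Opens} (r : Γ(Y, W)) (s : Γ((pushforward f).obj G, W)) :
    ofPush f (r • s) = (f.app W).hom r • ofPush f s := rfl

theorem toPush_smul {G : X.Modules} {W : Y.Opens} (r : Γ(Y, W)) (s : Γ(G, f ⁻¹ᵁ W)) :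
    toPush f ((f.app W).hom r • s) = r • toPush f s := rfl

theorem ofPush_res {G : X.Modules} {W W' : Y.Opens} (h : W' ≤ W)
    (s : Γ((pushforward f).obj G, W)) :
    ofPush f (mres ((pushforward f).obj G) h s) =
      mres G (show f ⁻¹ᵁ W' ≤ f ⁻¹ᵁ W from fun _ hx => h hx) (ofPush f s) := rfl

/-- the pairing `(s, a) ↦ s ⊗ f^* a`, valued in sections over `f⁻¹ W`. -/
noncomputable def thβ' (W : Y.Opens) (s : Γ((pushforward f).obj F, W)) (a : Γ(E, W)) :
    Γ(CohB1.tensorMod F ((pullback f).obj E), f ⁻¹ᵁ W) :=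
  tm F ((pullback f).obj E) (f ⁻¹ᵁ W) (ofPush f s) (pullSLE f E W (f ⁻¹ᵁ W) le_rfl a)

theorem thβ'_add_left (W : Y.Opens) (s s' : Γ((pushforward f).obj F, W)) (a : Γ(E, W)) :
    thβ' f E F W (s + s') a = thβ' f E F W s a + thβ' f E F W s' a :=
  tm_add_left _ _ _ _ _ _

theorem thβ'_smul_left (W : Y.Opens) (r : Γ(Y, W)) (s : Γ((pushforward f).obj F, W))
    (a : Γ(E, W)) :
    thβ' f E F W (r • s) a = (f.app W).hom r • thβ' f E F W s a := by
  unfold thβ'
  rw [ofPush_smul, tm_smul_left]

theorem thβ'_add_right (W : Y.Opens) (s : Γ((pushforward f).obj F, W)) (a a' : Γ(E, W)) :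
    thβ' f E F W s (a + a') = thβ' f E F W s a + thβ' f E F W s a' := by
  unfold thβ'
  rw [pullSLE_add, Groth.Agent.Lib.Helper11.PullbackTensor.tm_add_right]

theorem thβ'_smul_right (W : Y.Opens) (r : Γ(Y, W)) (s : Γ((pushforward f).obj F, W))
    (a : Γ(E, W)) :
    thβ' f E F W s (r • a) = (f.app W).hom r • thβ' f E F W s a := by
  unfold thβ'
  rw [pullSLE_smul, tm_smul_right]
  congr 2
  exact congrArg (fun k => k.hom) (Scheme.Hom.appLE_eq_app (f := f) (U := W))

theorem thβ'_res {W W' : Y.Opens} (h : W' ≤ W) (s : Γ((pushforward f).obj F, W)) (a : Γ(E, W)) :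
    mres (CohB1.tensorMod F ((pullback f).obj E))
        (show f ⁻¹ᵁ W' ≤ f ⁻¹ᵁ W from fun _ hx => h hx) (thβ' f E F W s a) =
      thβ' f E F W' (mres ((pushforward f).obj F) h s) (mres E h a) := by
  unfold thβ'
  rw [tm_res, mres_pullSLE, pullSLE_mres]
  rfl

/-- the bilinear family `(s, a) ↦ s ⊗ f^* a`. -/
noncomputable def thBilin : BilinFamily ((pushforward f).obj F) E
    ((pushforward f).obj (CohB1.tensorMod F ((pullback f).obj E))) where
  β W s a := toPush f (thβ' f E F W s a)
  add_left W s s' a := thβ'_add_left f E F W s s' a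
  smul_left W r s a := thβ'_smul_left f E F W r s a
  add_right W s a a' := thβ'_add_right f E F W s a a'
  smul_right W r s a := thβ'_smul_right f E F W r s a
  res i s a := thβ'_res f E F i.le s a

/-- the projection formula morphism `f_* F ⊗ E ⟶ f_* (F ⊗ f^* E)`. -/
noncomputable def theta : CohB1.tensorMod ((pushforward f).obj F) E ⟶
    (pushforward f).obj (CohB1.tensorMod F ((pullback f).obj E)) := (thBilin f E F).desc

theorem theta_tm (W : Y.Opens) (s : Γ((pushforward f).obj F, W)) (a : Γ(E, W)) :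
    (theta f E F).app W (tm ((pushforward f).obj F) E W s a) = toPush f (thβ' f E F W s a) :=
  (thBilin f E F).desc_tmul W s a


theorem theta_app_bijective [E.IsQuasicoherent] {V : Y.Opens} {n : ℕ} {e : Fin n → Γ(E, V)}
    (he : IsBasisFam E V e) {W : Y.Opens} (hWV : W ≤ V) :
    Function.Bijective ((theta f E F).app W) := by
  have hWV' : f ⁻¹ᵁ W ≤ f ⁻¹ᵁ V := fun _ hx => hWV hx
  let tmE := tmFamEquiv ((pushforward f).obj F) E V e he W hWV
  have he' := isBasisFam_pullSLE f E he
  let tmE' := tmFamEquiv F ((pullback f).obj E) (f ⁻¹ᵁ V) _ he' (f ⁻¹ᵁ W) hWV'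
  have hfac : ((theta f E F).app W : Γ(CohB1.tensorMod ((pushforward f).obj F) E, W) →
        Γ((pushforward f).obj (CohB1.tensorMod F ((pullback f).obj E)), W)) =
      (fun m : Fin n → Γ((pushforward f).obj F, W) =>
        toPush f (tmE' (fun i => ofPush f (m i)))) ∘ tmE.symm := by
    funext y
    obtain ⟨m, rfl⟩ := tmE.surjective y
    simp only [Function.comp_apply, LinearEquiv.symm_apply_apply]
    rw [tmFamEquiv_apply, tmFamEquiv_apply, map_sum]
    change _ = ∑ i, toPush f (tm F ((pullback f).obj E) (f ⁻¹ᵁ W) (ofPush f (m i))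
      (mres ((pullback f).obj E) hWV' (pullSLE f E V (f ⁻¹ᵁ V) le_rfl (e i))))
    refine Finset.sum_congr rfl fun i _ => ?_
    rw [theta_tm]
    unfold thβ'
    rw [pullSLE_mres, mres_pullSLE]
  rw [hfac]
  exact (show Function.Bijective (fun m : Fin n → Γ((pushforward f).obj F, W) =>
    toPush f (tmE' (fun i => ofPush f (m i)))) from tmE'.bijective).comp tmE.symm.bijective


theorem pushforward_map_app {G G' : X.Modules} (v : G ⟶ G') (W : Y.Opens)
    (t : Γ(G, f ⁻¹ᵁ W)) :
    ((pushforward f).map v).app W (toPush f t) = toPush f (v.app (f ⁻¹ᵁ W) t) := rfl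

theorem theta_naturality {F F' : X.Modules} (u : F ⟶ F') :
    tensorModMap ((pushforward f).map u) (𝟙 E) ≫ theta f E F' =
      theta f E F ≫ (pushforward f).map (tensorModMap u (𝟙 ((pullback f).obj E))) := by
  apply hom_ext_tm
  intro W s a
  rw [DualPair.comp_app_apply, DualPair.comp_app_apply, tensorModMap_tm, theta_tm,
    theta_tm, pushforward_map_app]
  unfold thβ'
  rw [tensorModMap_tm]
  rfl

end theta

section iso
open Scheme.Modules

/-- a morphism which is bijective on sections over all small opens is an isomorphism. -/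
theorem isIso_of_locally_bijective {M N : X.Modules} (φ : M ⟶ N)
    (h : ∀ x : X, ∃ V : X.Opens, x ∈ V ∧ ∀ W : X.Opens, W ≤ V →
      Function.Bijective (φ.app W).hom) : IsIso φ := by
  have hst : ∀ x, StalkIso φ x := by
    intro x
    obtain ⟨V, hxV, hV⟩ := h x
    have h1 : IsIso ((Scheme.Modules.restrictFunctor V.ι).map φ) := by
      rw [isIso_restrict_iff]
      intro W hW
      rw [Groth.Agent.Lib.Helper11.GenLocus.isIso_iff_bijective]
      exact hV W hW
    exact stalkIso_of_isIso_restrict φ V x hxV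
  rw [Scheme.Modules.Hom.isIso_iff_isIso_app]
  intro W
  exact app_isIso_of_stalkIso φ W (fun x _ => hst x)

variable {Y : Scheme.{u}} (f : X ⟶ Y) (E : Y.Modules) (F : X.Modules)

theorem isIso_theta (hE : FlatMod.IsFinLocFree E) : IsIso (theta f E F) := by
  haveI := isQuasicoherent_of_isFinLocFree E hE
  apply isIso_of_locally_bijective
  intro y
  obtain ⟨V, n, e, hyV, he⟩ := exists_isBasisFam_of_isFinLocFree hE y
  exact ⟨V, hyV, fun W hW => theta_app_bijective f E F he hW⟩

/-- the natural isomorphism `f_* (-) ⊗ E ≅ f_* (- ⊗ f^* E)`. -/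
noncomputable def thetaIso (hE : FlatMod.IsFinLocFree E) :
    pushforward f ⋙ tensR E ≅ tensR ((pullback f).obj E) ⋙ pushforward f :=
  NatIso.ofComponents (fun F => @asIso _ _ _ _ (theta f E F) (isIso_theta f E F hE))
    (fun u => theta_naturality f E u)

end iso

end Groth.Agent.Lib.Helper11.ProjFormulaDerived
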