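import Mathlib
import Groth.Agent.Lib.Helper11.ProjFormulaDerived
import Groth.Agent.Lib.Helper5.RDerExchange2
import Groth.Agent.Lib.Helper11.ResProp
import Groth.Prelude.Def_Coh

/-!
# The projection formula for higher direct images and finite locally free modules (helper11)

`projection_formula : E ⊗ R^q f_* F ≅ R^q f_* (f^* E ⊗ F)` for `E` finite locally free; exactness and
additivity of `- ⊗ P` for a dual pair.
-/

set_option autoImplicit false
set_option linter.style.haveILetI false
namespace Groth.Agent.Lib.Helper11.ProjFormulaRq
open AlgebraicGeometry CategoryTheory TopologicalSpace Opposite Limits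
open Groth.Agent.Lib.Helper45 Groth.Agent.Lib.Helper49 Groth.Agent.Lib.Helper11.GenLocus
  Groth.Agent.Lib.Helper11.TensorMap Groth.Agent.Lib.Helper11.FinFreeBasis
  Groth.Agent.Lib.Helper11.TensorFormulas Groth.Agent.Lib.Helper11.FinFreeAdj
  Groth.Agent.Lib.Helper11.ProjFormulaDerived

universe u
variable {X Y : Scheme.{u}}

theorem preservesLimits_tensR {P Q : X.Modules} (D : DualPair P Q) :
    PreservesLimitsOfSize.{0, 0} (tensR P) := D.adj.rightAdjoint_preservesLimits

theorem preservesColimits_tensR {P Q : X.Modules} (D : DualPair P Q) :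
    PreservesColimitsOfSize.{0, 0} (tensR P) := D.symm.adj.leftAdjoint_preservesColimits

theorem additive_tensR {P Q : X.Modules} (D : DualPair P Q) : (tensR P).Additive := by
  haveI := preservesLimits_tensR D
  haveI : (tensR P).IsRightAdjoint := D.adj.isRightAdjoint
  exact Functor.additive_of_preserves_binary_products _

theorem projection_formula (f : X ⟶ Y) [HasInjectiveResolutions X.Modules]
    (F : X.Modules) (E : Y.Modules) (hE : FlatMod.IsFinLocFree E) (q : ℕ) :
    Nonempty (CohB1.tensorMod E ((Coh.Rpush f q).obj F) ≅
      (Coh.Rpush f q).obj (CohB1.tensorMod ((Scheme.Modules.pullback f).obj E) F)) := by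
  have hE' : FlatMod.IsFinLocFree ((Scheme.Modules.pullback f).obj E) :=
    Groth.Agent.Lib.Helper11.ResProp.isFinLocFree_pullback f E hE
  let D := dualPairOfFinLocFree hE
  let D' := dualPairOfFinLocFree hE'
  haveI := preservesLimits_tensR D
  haveI := preservesColimits_tensR D
  haveI := additive_tensR D
  haveI := preservesLimits_tensR D'
  haveI := preservesColimits_tensR D'
  haveI := additive_tensR D'
  obtain ⟨e⟩ := Groth.Agent.Lib.Helper5.RDerExchange2.nonempty_rightDerived_exchange_iso₂
    (tensR ((Scheme.Modules.pullback f).obj E)) (tensR E)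
    (Scheme.Modules.pushforward f) (Scheme.Modules.pushforward f) (thetaIso f E hE)
    (fun I hI n => by
      haveI := hI
      haveI : Injective ((tensR ((Scheme.Modules.pullback f).obj E)).obj I) := injective_tensR D' I
      exact Functor.isZero_rightDerived_obj_injective_succ _ n _) q
  exact ⟨tensorModBraid _ _ ≪≫ e.app F ≪≫
    (Coh.Rpush f q).mapIso (tensorModBraid F ((Scheme.Modules.pullback f).obj E))⟩

end Groth.Agent.Lib.Helper11.ProjFormulaRq
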