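import Mathlib
import Groth.Agent.Lib.Helper11.ProjFormulaRq
import Groth.Agent.Lib.Helper5.ExtAdjunction
import Groth.Agent.Lib.Helper83.ModCoh
import Groth.Prelude.Def_DCoh4
import Groth.Prelude.Def_Coh

/-!
# `Ext^p(A, B) ≅ H^p(X, Hom(A, B))` for `A` finite locally free (helper11)

* `tensorModBraid_hom_tm`, `braidNat : N ⊗ - ≅ - ⊗ N`.
* `dcohSheafHomIso : DCoh.sheafHom A ≅ tensR A^∨` for `A` finite locally free.
* `ext_finLocFree`.
-/

set_option autoImplicit false
set_option linter.style.haveILetI false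
namespace Groth.Agent.Lib.Helper11.ExtFinLocFree
open AlgebraicGeometry CategoryTheory TopologicalSpace Opposite Limits MonoidalCategory
open Groth.Agent.Lib.Helper45 Groth.Agent.Lib.Helper49 Groth.Agent.Lib.Helper11.GenLocus
  Groth.Agent.Lib.Helper11.TensorMap Groth.Agent.Lib.Helper11.FinFreeBasis
  Groth.Agent.Lib.Helper11.TensorFormulas Groth.Agent.Lib.Helper11.FinFreeAdj
  Groth.Agent.Lib.Helper11.ProjFormulaRq

universe u
variable {X : Scheme.{u}}

theorem tensorBi_obj_map (N : X.Modules) {A B : X.Modules} (u : A ⟶ B) :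
    ((DCoh.tensorBi (X := X)).obj N).map u = tensorModMap (𝟙 N) u := by
  change (DCoh.shP (X := X)).map _ = (CohB1.sheafifyMod X).map _
  unfold tensorPreMap
  congr 1

/-- the braiding on pure tensors. -/
theorem tensorModBraid_hom_tm (A B : X.Modules) (W : X.Opens) (a : Γ(A, W)) (b : Γ(B, W)) :
    (tensorModBraid A B).hom.app W (tm A B W a b) = tm B A W b a := by
  have hnat := (sadj X).unit.naturality
    (show (show X.PresheafOfModules from CohB1.tensorPre A B) ⟶
        (show X.PresheafOfModules from CohB1.tensorPre B A) from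
      (@BraidedCategory.braiding _ _ _
        (PresheafOfModules.symmetricCategory (R := X.sheaf.obj)).toBraidedCategory
        (CohB1.toPMod A) (CohB1.toPMod B)).hom)
  have h2 := congrArg (fun f => (f.app (op W)).hom (pt A B W a b)) hnat
  exact h2.symm


/-- the braiding as a natural isomorphism `N ⊗ - ≅ - ⊗ N`. -/
noncomputable def braidNat (N : X.Modules) : (DCoh.tensorBi (X := X)).obj N ≅ tensR N :=
  NatIso.ofComponents (fun A => tensorModBraid N A) (fun {A B} u => by
    rw [tensorBi_obj_map]
    change tensorModMap (𝟙 N) u ≫ (tensorModBraid N B).hom =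
      (tensorModBraid N A).hom ≫ tensorModMap u (𝟙 N)
    apply hom_ext_tm
    intro W a b
    rw [DualPair.comp_app_apply, DualPair.comp_app_apply, tensorModMap_tm,
      tensorModBraid_hom_tm, tensorModBraid_hom_tm, tensorModMap_tm])

/-- for finite locally free `A`, the internal hom `Hom(A, -)` (right adjoint of `A ⊗ -`) is
`- ⊗ A^∨`. -/
noncomputable def dcohSheafHomIso {A : X.Modules} (hA : FlatMod.IsFinLocFree A)
    [DCoh.HasSheafHom A] : DCoh.sheafHom A ≅ tensR (RefHull.dual A) :=
  Adjunction.rightAdjointUniq ((DCoh.sheafHomAdj A).ofNatIsoLeft (braidNat A))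
    (dualPairOfFinLocFree hA).symm.adj


section Ext
open Abelian

/-- transport of `Ext` along an isomorphism in the second variable. -/
noncomputable def extAddEquivOfIsoRight {A : Type*} [Category A] [Abelian A] [HasExt A]
    (Z : A) {Y Y' : A} (e : Y ≅ Y') (n : ℕ) : Ext Z Y n ≃+ Ext Z Y' n where
  toFun x := x.comp (Ext.mk₀ e.hom) (add_zero n)
  invFun x := x.comp (Ext.mk₀ e.inv) (add_zero n)
  left_inv x := by
    dsimp only
    rw [Ext.comp_assoc_of_third_deg_zero, Ext.mk₀_comp_mk₀, e.hom_inv_id, Ext.comp_mk₀_id]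
  right_inv x := by
    dsimp only
    rw [Ext.comp_assoc_of_third_deg_zero, Ext.mk₀_comp_mk₀, e.inv_hom_id, Ext.comp_mk₀_id]
  map_add' := fun x y => Ext.add_comp _ _ _ _

instance : EnoughInjectives X.Modules :=
  inferInstanceAs (EnoughInjectives (SheafOfModules.{u} X.ringCatSheaf))

theorem ext_finLocFree [HasExt.{u} X.Modules] (A B : X.Modules) (hA : FlatMod.IsFinLocFree A)
    [DCoh.HasSheafHom A] (p : ℕ) :
    Nonempty (Abelian.Ext A B p ≃+ Coh.HH X ((DCoh.sheafHom A).obj B) p) := by
  let D := dualPairOfFinLocFree hA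
  haveI := preservesLimits_tensR D
  haveI := preservesColimits_tensR D
  haveI := additive_tensR D
  haveI := preservesLimits_tensR D.symm
  haveI := preservesColimits_tensR D.symm
  haveI := additive_tensR D.symm
  let e1 : Ext A B p ≃+ Ext ((tensR A).obj (Coh.structureModule X)) B p :=
    Groth.Agent.Lib.Helper83.ModCoh.extAddEquivOfIsoLeft (unitTensorIso A).symm B p
  let e2 : Ext ((tensR A).obj (Coh.structureModule X)) B p ≃+
      Ext (Coh.structureModule X) ((tensR (RefHull.dual A)).obj B) p :=
    Groth.Agent.Lib.Helper5.extAdjAddEquiv D.symm.adj (Coh.structureModule X) B p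
  let e3 : Ext (Coh.structureModule X) ((tensR (RefHull.dual A)).obj B) p ≃+
      Ext (Coh.structureModule X) ((DCoh.sheafHom A).obj B) p :=
    extAddEquivOfIsoRight _ ((dcohSheafHomIso hA).symm.app B) p
  haveI hext : HasExt.{u} (SheafOfModules.{u} X.ringCatSheaf) := ‹HasExt.{u} X.Modules›
  obtain ⟨e4⟩ := Groth.Agent.Lib.Helper83.ModCoh.nonempty_ext_unit_addEquiv_H X.ringCatSheaf
    ((DCoh.sheafHom A).obj B) p
  exact ⟨e1.trans (e2.trans (e3.trans e4))⟩

end Ext

end Groth.Agent.Lib.Helper11.ExtFinLocFree
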