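import Mathlib

/-!
# Algebra for flat base change of sections

`liftT p hp : A' ⊗[A] P →ₗ[A'] P'` is the `A'`-linear extension of a semilinear additive map.
`liftT_injective`, `liftT_bijective`: the left-exactness argument (for `A'` flat over `A`);
`liftT_pi_injective`, `liftT_pi_bijective`: finite products.
-/

set_option autoImplicit false
namespace Groth.Agent.Lib.Helper11.FlatBCAlg
open TensorProduct

universe u

section Alg

variable {A A' : Type u} [CommRing A] [CommRing A'] [Algebra A A']

/-- the `A'`-linear extension `A' ⊗[A] P → P'` of a semilinear additive map `p : P → P'`. -/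
noncomputable def liftT {P P' : Type u} [AddCommGroup P] [Module A P] [AddCommGroup P'] [Module A' P']
    (p : P →+ P') (hp : ∀ (a : A) (x : P), p (a • x) = algebraMap A A' a • p x) :
    A' ⊗[A] P →ₗ[A'] P' :=
  letI : Module A P' := Module.compHom P' (algebraMap A A')
  haveI : IsScalarTower A A' P' := IsScalarTower.of_compHom _ _ _
  LinearMap.liftBaseChange A' ({ toFun := p, map_add' := p.map_add, map_smul' := hp } : P →ₗ[A] P')

theorem liftT_tmul {P P' : Type u} [AddCommGroup P] [Module A P] [AddCommGroup P'] [Module A' P']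
    (p : P →+ P') (hp : ∀ (a : A) (x : P), p (a • x) = algebraMap A A' a • p x) (a' : A') (x : P) :
    liftT p hp (a' ⊗ₜ x) = a' • p x := rfl

variable {P E Q : Type u} [AddCommGroup P] [Module A P] [AddCommGroup E] [Module A E]
  [AddCommGroup Q] [Module A Q]
  {P' E' Q' : Type u} [AddCommGroup P'] [Module A' P'] [AddCommGroup E'] [Module A' E']
  [AddCommGroup Q'] [Module A' Q']

theorem liftT_comm (r : P →ₗ[A] E) (r' : P' →ₗ[A'] E')
    (p : P →+ P') (hp : ∀ (a : A) (x : P), p (a • x) = algebraMap A A' a • p x)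
    (π : E →+ E') (hπ : ∀ (a : A) (x : E), π (a • x) = algebraMap A A' a • π x)
    (h1 : ∀ x, r' (p x) = π (r x)) (z : A' ⊗[A] P) :
    r' (liftT p hp z) = liftT π hπ (r.lTensor A' z) := by
  induction z using TensorProduct.induction_on with
  | zero => simp
  | tmul a x => rw [liftT_tmul, map_smul, h1, LinearMap.lTensor_tmul, liftT_tmul]
  | add x y hx hy => rw [map_add, map_add, hx, hy, map_add, map_add]

theorem liftT_injective [Module.Flat A A'] (r : P →ₗ[A] E) (hr : Function.Injective r)
    (r' : P' →ₗ[A'] E')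
    (p : P →+ P') (hp : ∀ (a : A) (x : P), p (a • x) = algebraMap A A' a • p x)
    (π : E →+ E') (hπ : ∀ (a : A) (x : E), π (a • x) = algebraMap A A' a • π x)
    (h1 : ∀ x, r' (p x) = π (r x)) (hinj : Function.Injective (liftT π hπ)) :
    Function.Injective (liftT p hp) := by
  rw [injective_iff_map_eq_zero]
  intro z hz
  have h2 := liftT_comm r r' p hp π hπ h1 z
  rw [hz, map_zero] at h2
  have h3 : r.lTensor A' z = 0 := hinj (by rw [← h2, map_zero])
  exact Module.Flat.lTensor_preserves_injective_linearMap r hr (by rw [h3, map_zero])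

theorem liftT_bijective [Module.Flat A A'] (r : P →ₗ[A] E) (d : E →ₗ[A] Q)
    (hr : Function.Injective r) (hrd : Function.Exact r d)
    (r' : P' →ₗ[A'] E') (d' : E' →ₗ[A'] Q') (hr' : Function.Injective r')
    (hrd' : ∀ x, d' (r' x) = 0)
    (p : P →+ P') (hp : ∀ (a : A) (x : P), p (a • x) = algebraMap A A' a • p x)
    (π : E →+ E') (hπ : ∀ (a : A) (x : E), π (a • x) = algebraMap A A' a • π x)
    (q : Q →+ Q') (hq : ∀ (a : A) (x : Q), q (a • x) = algebraMap A A' a • q x)
    (h1 : ∀ x, r' (p x) = π (r x)) (h2 : ∀ y, d' (π y) = q (d y))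
    (hπb : Function.Bijective (liftT π hπ)) (hqi : Function.Injective (liftT q hq)) :
    Function.Bijective (liftT p hp) := by
  refine ⟨liftT_injective r hr r' p hp π hπ h1 hπb.1, fun s' => ?_⟩
  obtain ⟨ξ, hξ⟩ := hπb.2 (r' s')
  have h3 : d.lTensor A' ξ = 0 := by
    apply hqi
    rw [map_zero, ← liftT_comm d d' π hπ q hq h2 ξ, hξ, hrd']
  obtain ⟨η, hη⟩ := (Module.Flat.lTensor_exact A' hrd ξ).mp h3
  refine ⟨η, hr' ?_⟩
  rw [liftT_comm r r' p hp π hπ h1 η, hη, hξ]

variable {ι : Type u} [Fintype ι] [DecidableEq ι] {F : ι → Type u} [∀ i, AddCommGroup (F i)]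
  [∀ i, Module A (F i)] {F' : ι → Type u} [∀ i, AddCommGroup (F' i)] [∀ i, Module A' (F' i)]

theorem liftT_pi_apply (p : ∀ i, F i →+ F' i)
    (hp : ∀ i (a : A) (x : F i), p i (a • x) = algebraMap A A' a • p i x)
    (π : (∀ i, F i) →+ (∀ i, F' i)) (hπ : ∀ (a : A) (x : ∀ i, F i), π (a • x) = algebraMap A A' a • π x)
    (hπp : ∀ x i, π x i = p i (x i)) (z : A' ⊗[A] (∀ i, F i)) (i : ι) :
    liftT π hπ z i = liftT (p i) (hp i) (TensorProduct.piRight A A' A' F z i) := by
  induction z using TensorProduct.induction_on with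
  | zero => simp
  | tmul a x =>
    rw [liftT_tmul, TensorProduct.piRight_apply, TensorProduct.piRightHom_tmul, liftT_tmul,
      Pi.smul_apply, hπp]
  | add x y hx hy => rw [map_add, Pi.add_apply, hx, hy, map_add, Pi.add_apply, map_add]

theorem liftT_pi_injective (p : ∀ i, F i →+ F' i)
    (hp : ∀ i (a : A) (x : F i), p i (a • x) = algebraMap A A' a • p i x)
    (π : (∀ i, F i) →+ (∀ i, F' i)) (hπ : ∀ (a : A) (x : ∀ i, F i), π (a • x) = algebraMap A A' a • π x)
    (hπp : ∀ x i, π x i = p i (x i)) (h : ∀ i, Function.Injective (liftT (p i) (hp i))) :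
    Function.Injective (liftT π hπ) := by
  intro z w hzw
  apply (TensorProduct.piRight A A' A' F).injective
  funext i
  apply h i
  rw [← liftT_pi_apply p hp π hπ hπp, ← liftT_pi_apply p hp π hπ hπp, hzw]

theorem liftT_pi_bijective (p : ∀ i, F i →+ F' i)
    (hp : ∀ i (a : A) (x : F i), p i (a • x) = algebraMap A A' a • p i x)
    (π : (∀ i, F i) →+ (∀ i, F' i)) (hπ : ∀ (a : A) (x : ∀ i, F i), π (a • x) = algebraMap A A' a • π x)
    (hπp : ∀ x i, π x i = p i (x i)) (h : ∀ i, Function.Bijective (liftT (p i) (hp i))) :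
    Function.Bijective (liftT π hπ) := by
  refine ⟨liftT_pi_injective p hp π hπ hπp fun i => (h i).1, fun y => ?_⟩
  choose w hw using fun i => (h i).2 (y i)
  refine ⟨(TensorProduct.piRight A A' A' F).symm w, ?_⟩
  funext i
  rw [liftT_pi_apply p hp π hπ hπp, LinearEquiv.apply_symm_apply, hw]


/-- if `c₁ : P → P₁` is a base change and `β : P₁ → P'` is `A'`-linear with `β ∘ c₁ = p ∘ e`
(`e` an `A`-linear identification) and `liftT p` is bijective, then `β` is bijective. -/
theorem bijective_of_liftT_bijective {P Pₛ P₁ P' : Type u} [AddCommGroup P] [Module A P]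
    [AddCommGroup Pₛ] [Module A Pₛ] [AddCommGroup P₁] [Module A P₁] [Module A' P₁]
    [IsScalarTower A A' P₁] [AddCommGroup P'] [Module A' P'] (e : P ≃ₗ[A] Pₛ)
    (c₁ : P →ₗ[A] P₁) (hb₁ : IsBaseChange A' c₁)
    (p : Pₛ →+ P') (hp : ∀ (a : A) (x : Pₛ), p (a • x) = algebraMap A A' a • p x)
    (β : P₁ →+ P') (hβ : ∀ (a' : A') (z : P₁), β (a' • z) = a' • β z)
    (hβc : ∀ s, β (c₁ s) = p (e s)) (hT : Function.Bijective (liftT p hp)) :
    Function.Bijective β := by
  have key : ∀ w : A' ⊗[A] P, β (hb₁.equiv w) = liftT p hp (e.toLinearMap.lTensor A' w) := by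
    intro w
    induction w using TensorProduct.induction_on with
    | zero => simp
    | tmul a s =>
      rw [IsBaseChange.equiv_tmul, hβ, hβc, LinearMap.lTensor_tmul, liftT_tmul]
      rfl
    | add x y hx hy => rw [map_add, map_add, hx, hy, map_add, map_add]
  have hl : Function.Bijective (e.toLinearMap.lTensor A') :=
    (TensorProduct.congr (LinearEquiv.refl A A') e).bijective
  have h2 : (β : P₁ → P') = (liftT p hp ∘ e.toLinearMap.lTensor A') ∘ hb₁.equiv.symm := by
    funext z
    have := key (hb₁.equiv.symm z)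
    rw [LinearEquiv.apply_symm_apply] at this
    exact this
  rw [h2]
  exact (hT.comp hl).comp hb₁.equiv.symm.bijective

end Alg

end Groth.Agent.Lib.Helper11.FlatBCAlg
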