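import Mathlib
import Groth.Agent.Lib.Helper49.AffineBaseChange
import Groth.Agent.Lib.Helper11.FlatBCAlg

/-!
# Flat base change for direct images of quasi-coherent modules (degree zero)

For a cartesian square with `f : X ⟶ Y` quasi-compact quasi-separated and `g : Y' ⟶ Y` flat, and a
quasi-coherent module `M` on `X`, the base change map `g^* f_* M ⟶ f'_* g'^* M` is an isomorphism
(`isIso_bcMap_of_flat`).  On affine charts `V' ≤ g⁻¹ V` the sections statement is
`bcMap_app_bijective_of_flat`; the core is `liftT_pU_bijective_of_qcqs`: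
`Γ(Y', V') ⊗ Γ(M, U) ≃ Γ(g'^* M, g'⁻¹ U ∩ f'⁻¹ V')` for `U ≤ f⁻¹ V` quasi-compact quasi-separated.
Builds on helper49's `UnitChart`/`AffineBaseChange`.
-/

set_option autoImplicit false
set_option linter.style.haveILetI false
set_option linter.unusedSectionVars false
namespace Groth.Agent.Lib.Helper11.FlatBC
open AlgebraicGeometry CategoryTheory TopologicalSpace Opposite TensorProduct
open Groth.Agent.Lib.Helper49 Groth.Agent.Lib.Helper49.UnitChart
  Groth.Agent.Lib.Helper11.FlatBCAlg Scheme.Modules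

universe u

section SecOver

variable {X Y : Scheme.{u}}

/-- sections of `M` over `U ≤ f⁻¹ V`, as a `Γ(Y, V)`-module. -/
def SecOver (f : X ⟶ Y) (M : X.Modules) (V : Y.Opens) (U : X.Opens) (_hU : U ≤ f ⁻¹ᵁ V) : Type u :=
  Γ(M, U)

variable (f : X ⟶ Y) (M : X.Modules) (V : Y.Opens) (U : X.Opens) (hU : U ≤ f ⁻¹ᵁ V)

noncomputable instance : AddCommGroup (SecOver f M V U hU) := inferInstanceAs (AddCommGroup Γ(M, U))

noncomputable instance : Module Γ(Y, V) (SecOver f M V U hU) :=
  Module.compHom Γ(M, U) (f.appLE V U hU).hom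

/-- view a section as an element of `SecOver`. -/
def SecOver.mk (s : Γ(M, U)) : SecOver f M V U hU := s

/-- the underlying section. -/
def SecOver.val (s : SecOver f M V U hU) : Γ(M, U) := s

theorem SecOver.smul_val (a : Γ(Y, V)) (s : SecOver f M V U hU) :
    SecOver.val f M V U hU (a • s) = (f.appLE V U hU).hom a • SecOver.val f M V U hU s := rfl

/-- restriction of sections, as a `Γ(Y, V)`-linear map. -/
noncomputable def resL {U₁ U₂ : X.Opens} (h : U₂ ≤ U₁) (hU₁ : U₁ ≤ f ⁻¹ᵁ V) :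
    SecOver f M V U₁ hU₁ →ₗ[Γ(Y, V)] SecOver f M V U₂ (h.trans hU₁) where
  toFun s := mres M h s
  map_add' s t := map_add (mres M h) s t
  map_smul' a s := by
    let s' : Γ(M, U₁) := s
    change mres M h ((f.appLE V U₁ hU₁).hom a • s') =
      (f.appLE V U₂ (h.trans hU₁)).hom a • mres M h s'
    rw [mres_smul]
    congr 1
    have := f.appLE_map hU₁ (homOfLE h).op
    exact congrArg (fun k => k.hom a) this

end SecOver


section BC

variable {X Y X' Y' : Scheme.{u}} {f : X ⟶ Y} {g : Y' ⟶ Y} {g' : X' ⟶ X} {f' : X' ⟶ Y'}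

/-- the open `g'⁻¹ U ∩ f'⁻¹ V'` of `X'`. -/
abbrev pre (g' : X' ⟶ X) (f' : X' ⟶ Y') (V' : Y'.Opens) (U : X.Opens) : X'.Opens :=
  g' ⁻¹ᵁ U ⊓ f' ⁻¹ᵁ V'

theorem pre_mono (g' : X' ⟶ X) (f' : X' ⟶ Y') (V' : Y'.Opens) {U₁ U₂ : X.Opens} (h : U₂ ≤ U₁) :
    pre g' f' V' U₂ ≤ pre g' f' V' U₁ :=
  inf_le_inf_right _ (fun _ hx => h hx)

variable (f) (g') (f') (M : X.Modules) (V : Y.Opens) (V' : Y'.Opens)

/-- pullback of sections `Γ(M, U) → Γ(g'^* M, g'⁻¹ U ∩ f'⁻¹ V')`, as an additive map. -/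
noncomputable def pU (U : X.Opens) (hU : U ≤ f ⁻¹ᵁ V) :
    SecOver f M V U hU →+
      SecOver f' ((pullback g').obj M) V' (pre g' f' V' U) inf_le_right :=
  AddMonoidHom.mk' (fun s => pullSLE g' M U (pre g' f' V' U) inf_le_left s)
    (pullSLE_add g' M U _ inf_le_left)

variable {f g' f' V V'}

theorem pU_smul (hw : g' ≫ f = f' ≫ g) (hV' : V' ≤ g ⁻¹ᵁ V) (U : X.Opens) (hU : U ≤ f ⁻¹ᵁ V)
    (a : Γ(Y, V)) (s : SecOver f M V U hU) :
    pU f g' f' M V V' U hU (a • s) = (g.appLE V V' hV').hom a • pU f g' f' M V V' U hU s := by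
  let s' : Γ(M, U) := s
  change pullSLE g' M U (pre g' f' V' U) inf_le_left ((f.appLE V U hU).hom a • s') =
    (f'.appLE V' (pre g' f' V' U) inf_le_right).hom ((g.appLE V V' hV').hom a) •
      pullSLE g' M U (pre g' f' V' U) inf_le_left s'
  rw [pullSLE_smul]
  congr 1
  have e : f.appLE V U hU ≫ g'.appLE U (pre g' f' V' U) inf_le_left =
      g.appLE V V' hV' ≫ f'.appLE V' (pre g' f' V' U) inf_le_right := by
    simp only [Scheme.Hom.appLE_comp_appLE, hw]
  exact congrArg (fun k => k.hom a) e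

theorem pU_res (U₁ U₂ : X.Opens) (h : U₂ ≤ U₁) (hU₁ : U₁ ≤ f ⁻¹ᵁ V)
    (s : SecOver f M V U₁ hU₁) :
    resL f' ((pullback g').obj M) V' (pre_mono g' f' V' h) inf_le_right
      (pU f g' f' M V V' U₁ hU₁ s) =
    pU f g' f' M V V' U₂ (h.trans hU₁) (resL f M V h hU₁ s) := by
  let s' : Γ(M, U₁) := s
  change mres _ (pre_mono g' f' V' h) (pullSLE g' M U₁ (pre g' f' V' U₁) inf_le_left s') =
    pullSLE g' M U₂ (pre g' f' V' U₂) inf_le_left (mres M h s')
  rw [mres_pullSLE, pullSLE_mres]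


/-- (A) the affine case: `A' ⊗[A] Γ(M, U) → Γ(g'^* M, U')` is bijective for `U` affine. -/
theorem liftT_pU_bijective_of_isAffineOpen (h : IsPullback g' f' f g) [M.IsQuasicoherent]
    (hV : IsAffineOpen V) (hV'a : IsAffineOpen V') (hV' : V' ≤ g ⁻¹ᵁ V) (U : X.Opens)
    (hU : U ≤ f ⁻¹ᵁ V) (hUa : IsAffineOpen U) :
    letI := (g.appLE V V' hV').hom.toAlgebra
    Function.Bijective (liftT (pU f g' f' M V V' U hU) (pU_smul M h.w hV' U hU)) := by
  letI algAA' : Algebra Γ(Y, V) Γ(Y', V') := (g.appLE V V' hV').hom.toAlgebra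
  have hU' : IsAffineOpen (pre g' f' V' U) := by
    have : IsAffine (V : Scheme.{u}) := hV
    have : IsAffine (V' : Scheme.{u}) := hV'a
    have : IsAffine (U : Scheme.{u}) := hUa
    exact .of_isIso (Scheme.Hom.isPullback_resLE h hV' hU rfl).isoPullback.hom
  have hpo := (isIso_pushoutSection_iff h hV' hU rfl).mp
    (isIso_pushoutSection_of_isAffineOpen h hV' hU rfl hV hV'a hUa)
  letI algBB' : Algebra Γ(X, U) Γ(X', pre g' f' V' U) :=
    (g'.appLE U (pre g' f' V' U) inf_le_left).hom.toAlgebra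
  letI algAB : Algebra Γ(Y, V) Γ(X, U) := (f.appLE V U hU).hom.toAlgebra
  letI algA'B' : Algebra Γ(Y', V') Γ(X', pre g' f' V' U) :=
    (f'.appLE V' (pre g' f' V' U) inf_le_right).hom.toAlgebra
  letI algAB' : Algebra Γ(Y, V) Γ(X', pre g' f' V' U) :=
    ((f.appLE V U hU) ≫ (g'.appLE U (pre g' f' V' U) inf_le_left)).hom.toAlgebra
  haveI : IsScalarTower Γ(Y, V) Γ(X, U) Γ(X', pre g' f' V' U) :=
    IsScalarTower.of_algebraMap_eq (fun x => rfl)
  haveI : IsScalarTower Γ(Y, V) Γ(Y', V') Γ(X', pre g' f' V' U) :=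
    IsScalarTower.of_algebraMap_eq (fun x => congrArg (fun k => k.hom x) hpo.w)
  haveI hpush : Algebra.IsPushout Γ(Y, V) Γ(Y', V') Γ(X, U) Γ(X', pre g' f' V' U) := by
    have h1 : Algebra.IsPushout Γ(Y, V) Γ(X, U) Γ(Y', V') Γ(X', pre g' f' V' U) :=
      CommRingCat.isPushout_iff_isPushout.mp hpo
    exact h1.symm
  letI modAN : Module Γ(Y, V) Γ(M, U) := Module.compHom Γ(M, U) (f.appLE V U hU).hom
  haveI : IsScalarTower Γ(Y, V) Γ(X, U) Γ(M, U) :=
    IsScalarTower.of_algebraMap_smul (fun a n => rfl)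
  letI modBP₂ : Module Γ(X, U) Γ((pullback g').obj M, pre g' f' V' U) :=
    Module.compHom _ (g'.appLE U (pre g' f' V' U) inf_le_left).hom
  haveI : IsScalarTower Γ(X, U) Γ(X', pre g' f' V' U) Γ((pullback g').obj M, pre g' f' V' U) :=
    IsScalarTower.of_compHom _ _ _
  obtain ⟨c₂, hc₂, hb₂⟩ := exists_isBaseChange_pullSLE g' hUa hU' inf_le_left M
  exact Groth.Agent.Lib.Helper49.BaseChangeAlg.bijective_of_isBaseChange_of_isPushout
    (A := Γ(Y, V)) (A' := Γ(Y', V')) (B := Γ(X, U)) (B' := Γ(X', pre g' f' V' U))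
    (N := Γ(M, U)) (P₁ := Γ(Y', V') ⊗[Γ(Y, V)] Γ(M, U))
    (P₂ := Γ((pullback g').obj M, pre g' f' V' U))
    (TensorProduct.mk Γ(Y, V) Γ(Y', V') Γ(M, U) 1) (TensorProduct.isBaseChange _ _ _) c₂ hb₂
    (liftT (pU f g' f' M V V' U hU) (pU_smul M h.w hV' U hU)).toAddMonoidHom
    (fun a' z => by
      have := (liftT (pU f g' f' M V V' U hU) (pU_smul M h.w hV' U hU)).map_smul a' z
      exact this)
    (fun n => by
      change liftT (pU f g' f' M V V' U hU) (pU_smul M h.w hV' U hU) ((1 : Γ(Y', V')) ⊗ₜ n) = c₂ n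
      rw [liftT_tmul, one_smul, hc₂]
      rfl)


section Family

variable (h : IsPullback g' f' f g) (hV' : V' ≤ g ⁻¹ᵁ V) {ι : Type u} [Fintype ι] [DecidableEq ι]
  (Ui : ι → X.Opens) (U : X.Opens) (hU : U ≤ f ⁻¹ᵁ V) (hle : ∀ i, Ui i ≤ U) (hcov : U ≤ iSup Ui)

/-- the product of the restriction maps. -/
noncomputable def rPi : SecOver f M V U hU →ₗ[Γ(Y, V)] ∀ i, SecOver f M V (Ui i) ((hle i).trans hU) :=
  LinearMap.pi fun i => resL f M V (hle i) hU

omit [Fintype ι] [DecidableEq ι] in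
include hcov in
theorem rPi_injective : Function.Injective (rPi M Ui U hU hle) := by
  intro s t hst
  let s' : Γ(M, U) := s
  let t' : Γ(M, U) := t
  change s' = t'
  refine TopCat.Sheaf.eq_of_locally_eq' ⟨M.presheaf, M.isSheaf⟩ Ui U (fun i => homOfLE (hle i))
    hcov s' t' (fun i => ?_)
  exact congrFun hst i

/-- the product of the pullback maps. -/
noncomputable def piP :
    (∀ i, SecOver f M V (Ui i) ((hle i).trans hU)) →+
      (∀ i, SecOver f' ((pullback g').obj M) V' (pre g' f' V' (Ui i)) inf_le_right) :=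
  AddMonoidHom.mk' (fun x i => pU f g' f' M V V' (Ui i) ((hle i).trans hU) (x i))
    (fun _ _ => funext fun _ => map_add _ _ _)

include h in
theorem piP_smul (a : Γ(Y, V)) (x : ∀ i, SecOver f M V (Ui i) ((hle i).trans hU)) :
    piP (g' := g') (f' := f') (V' := V') M Ui U hU hle (a • x) =
      (g.appLE V V' hV').hom a • piP (g' := g') (f' := f') (V' := V') M Ui U hU hle x :=
  funext fun i => pU_smul M h.w hV' (Ui i) ((hle i).trans hU) a (x i)

include hcov in
/-- (B') injectivity passes from the members of a finite cover to the union. -/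
theorem liftT_pU_injective_of_cover [Flat g] (hV : IsAffineOpen V) (hV'a : IsAffineOpen V')
    (hinj : ∀ i, letI := (g.appLE V V' hV').hom.toAlgebra
      Function.Injective (liftT (pU f g' f' M V V' (Ui i) ((hle i).trans hU))
        (pU_smul M h.w hV' (Ui i) ((hle i).trans hU)))) :
    letI := (g.appLE V V' hV').hom.toAlgebra
    Function.Injective (liftT (pU f g' f' M V V' U hU) (pU_smul M h.w hV' U hU)) := by
  letI algAA' : Algebra Γ(Y, V) Γ(Y', V') := (g.appLE V V' hV').hom.toAlgebra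
  haveI : Module.Flat Γ(Y, V) Γ(Y', V') := g.flat_appLE hV hV'a hV'
  refine liftT_injective (rPi M Ui U hU hle) (rPi_injective M Ui U hU hle hcov)
    (rPi ((pullback g').obj M) (fun i => pre g' f' V' (Ui i)) (pre g' f' V' U) inf_le_right
      (fun i => pre_mono g' f' V' (hle i)))
    (pU f g' f' M V V' U hU) (pU_smul M h.w hV' U hU)
    (piP (g' := g') (f' := f') (V' := V') M Ui U hU hle) (piP_smul M h hV' Ui U hU hle)
    (fun x => funext fun i => pU_res M U (Ui i) (hle i) hU x) ?_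
  exact liftT_pi_injective
    (fun i => pU f g' f' M V V' (Ui i) ((hle i).trans hU))
    (fun i => pU_smul M h.w hV' (Ui i) ((hle i).trans hU)) _ _ (fun x i => rfl) hinj


/-- the difference of the two restrictions to the pairwise intersections. -/
noncomputable def dPi : (∀ i, SecOver f M V (Ui i) ((hle i).trans hU)) →ₗ[Γ(Y, V)]
    ∀ ij : ι × ι, SecOver f M V (Ui ij.1 ⊓ Ui ij.2) ((inf_le_left.trans (hle ij.1)).trans hU) :=
  LinearMap.pi fun ij =>
    (resL f M V (inf_le_left : Ui ij.1 ⊓ Ui ij.2 ≤ Ui ij.1) ((hle ij.1).trans hU)).comp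
        (LinearMap.proj ij.1) -
      (resL f M V (inf_le_right : Ui ij.1 ⊓ Ui ij.2 ≤ Ui ij.2) ((hle ij.2).trans hU)).comp
        (LinearMap.proj ij.2)

theorem dPi_rPi (s : SecOver f M V U hU) : dPi M Ui U hU hle (rPi M Ui U hU hle s) = 0 := by
  funext ij
  let s' : Γ(M, U) := s
  change mres M (inf_le_left : Ui ij.1 ⊓ Ui ij.2 ≤ Ui ij.1) (mres M (hle ij.1) s') -
    mres M (inf_le_right : Ui ij.1 ⊓ Ui ij.2 ≤ Ui ij.2) (mres M (hle ij.2) s') = 0
  rw [mres_mres, mres_mres, sub_self]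

include hcov in
theorem exact_rPi_dPi : Function.Exact (rPi M Ui U hU hle) (dPi M Ui U hU hle) := by
  intro y
  constructor
  · intro hy
    let y' : ∀ i, Γ(M, Ui i) := y
    have hcompat : ∀ i j, mres M (inf_le_left : Ui i ⊓ Ui j ≤ Ui i) (y' i) =
        mres M (inf_le_right : Ui i ⊓ Ui j ≤ Ui j) (y' j) := by
      intro i j
      have := congrFun hy (i, j)
      exact sub_eq_zero.mp this
    obtain ⟨s, hs, -⟩ := TopCat.Sheaf.existsUnique_gluing' ⟨M.presheaf, M.isSheaf⟩ Ui U
      (fun i => homOfLE (hle i)) hcov y' hcompat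
    exact ⟨s, funext fun i => hs i⟩
  · rintro ⟨s, rfl⟩
    exact dPi_rPi M Ui U hU hle s

/-- the product of the pullback maps over the pairwise intersections. -/
noncomputable def piQ :
    (∀ ij : ι × ι, SecOver f M V (Ui ij.1 ⊓ Ui ij.2) ((inf_le_left.trans (hle ij.1)).trans hU)) →+
      (∀ ij : ι × ι, SecOver f' ((pullback g').obj M) V' (pre g' f' V' (Ui ij.1 ⊓ Ui ij.2))
        inf_le_right) :=
  AddMonoidHom.mk' (fun x ij => pU f g' f' M V V' (Ui ij.1 ⊓ Ui ij.2)
      ((inf_le_left.trans (hle ij.1)).trans hU) (x ij))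
    (fun _ _ => funext fun _ => map_add _ _ _)

include h in
theorem piQ_smul (a : Γ(Y, V))
    (x : ∀ ij : ι × ι, SecOver f M V (Ui ij.1 ⊓ Ui ij.2) ((inf_le_left.trans (hle ij.1)).trans hU)) :
    piQ (g' := g') (f' := f') (V' := V') M Ui U hU hle (a • x) =
      (g.appLE V V' hV').hom a • piQ (g' := g') (f' := f') (V' := V') M Ui U hU hle x :=
  funext fun ij => pU_smul M h.w hV' _ _ a (x ij)

/-- the difference map on the pulled back side. -/
noncomputable def dPi' :
    (∀ i, SecOver f' ((pullback g').obj M) V' (pre g' f' V' (Ui i)) inf_le_right) →ₗ[Γ(Y', V')]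
    ∀ ij : ι × ι, SecOver f' ((pullback g').obj M) V' (pre g' f' V' (Ui ij.1 ⊓ Ui ij.2))
      inf_le_right :=
  LinearMap.pi fun ij =>
    (resL f' ((pullback g').obj M) V' (pre_mono g' f' V' (inf_le_left : Ui ij.1 ⊓ Ui ij.2 ≤ Ui ij.1))
        inf_le_right).comp (LinearMap.proj ij.1) -
      (resL f' ((pullback g').obj M) V' (pre_mono g' f' V' (inf_le_right : Ui ij.1 ⊓ Ui ij.2 ≤ Ui ij.2))
        inf_le_right).comp (LinearMap.proj ij.2)

include hcov in
/-- (C') bijectivity passes from the members of a finite cover to the union, given injectivity on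
pairwise intersections. -/
theorem liftT_pU_bijective_of_cover [Flat g] (hV : IsAffineOpen V) (hV'a : IsAffineOpen V')
    (hbij : ∀ i, letI := (g.appLE V V' hV').hom.toAlgebra
      Function.Bijective (liftT (pU f g' f' M V V' (Ui i) ((hle i).trans hU))
        (pU_smul M h.w hV' (Ui i) ((hle i).trans hU))))
    (hinj : ∀ i j, letI := (g.appLE V V' hV').hom.toAlgebra
      Function.Injective (liftT (pU f g' f' M V V' (Ui i ⊓ Ui j)
        ((inf_le_left.trans (hle i)).trans hU))
        (pU_smul M h.w hV' (Ui i ⊓ Ui j) ((inf_le_left.trans (hle i)).trans hU)))) :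
    letI := (g.appLE V V' hV').hom.toAlgebra
    Function.Bijective (liftT (pU f g' f' M V V' U hU) (pU_smul M h.w hV' U hU)) := by
  letI algAA' : Algebra Γ(Y, V) Γ(Y', V') := (g.appLE V V' hV').hom.toAlgebra
  haveI : Module.Flat Γ(Y, V) Γ(Y', V') := g.flat_appLE hV hV'a hV'
  refine liftT_bijective (rPi M Ui U hU hle) (dPi M Ui U hU hle)
    (rPi_injective M Ui U hU hle hcov) (exact_rPi_dPi M Ui U hU hle hcov)
    (rPi ((pullback g').obj M) (fun i => pre g' f' V' (Ui i)) (pre g' f' V' U) inf_le_right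
      (fun i => pre_mono g' f' V' (hle i)))
    (dPi' (g' := g') (f' := f') (V' := V') M Ui)
    (rPi_injective ((pullback g').obj M) (fun i => pre g' f' V' (Ui i)) (pre g' f' V' U)
      inf_le_right (fun i => pre_mono g' f' V' (hle i)) ?_) ?_
    (pU f g' f' M V V' U hU) (pU_smul M h.w hV' U hU)
    (piP (g' := g') (f' := f') (V' := V') M Ui U hU hle) (piP_smul M h hV' Ui U hU hle)
    (piQ (g' := g') (f' := f') (V' := V') M Ui U hU hle) (piQ_smul M h hV' Ui U hU hle)
    (fun x => funext fun i => pU_res M U (Ui i) (hle i) hU x) ?_ ?_ ?_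
  · -- the preimages cover
    intro x hx
    obtain ⟨i, hi⟩ := Opens.mem_iSup.mp (hcov hx.1)
    exact Opens.mem_iSup.mpr ⟨i, hi, hx.2⟩
  · -- d' ∘ r' = 0
    intro s
    funext ij
    let s' : Γ((pullback g').obj M, pre g' f' V' U) := s
    change mres _ (pre_mono g' f' V' (inf_le_left : Ui ij.1 ⊓ Ui ij.2 ≤ Ui ij.1))
        (mres _ (pre_mono g' f' V' (hle ij.1)) s') -
      mres _ (pre_mono g' f' V' (inf_le_right : Ui ij.1 ⊓ Ui ij.2 ≤ Ui ij.2))
        (mres _ (pre_mono g' f' V' (hle ij.2)) s') = 0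
    rw [mres_mres, mres_mres, sub_self]
  · -- d' ∘ π = q ∘ d
    intro y
    funext ij
    have e1 := pU_res (g' := g') (f' := f') (V' := V') M (Ui ij.1) (Ui ij.1 ⊓ Ui ij.2) inf_le_left
      ((hle ij.1).trans hU) (y ij.1)
    have e2 := pU_res (g' := g') (f' := f') (V' := V') M (Ui ij.2) (Ui ij.1 ⊓ Ui ij.2) inf_le_right
      ((hle ij.2).trans hU) (y ij.2)
    change resL f' ((pullback g').obj M) V' (pre_mono g' f' V' inf_le_left) inf_le_right
        (pU f g' f' M V V' (Ui ij.1) ((hle ij.1).trans hU) (y ij.1)) -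
      resL f' ((pullback g').obj M) V' (pre_mono g' f' V' inf_le_right) inf_le_right
        (pU f g' f' M V V' (Ui ij.2) ((hle ij.2).trans hU) (y ij.2)) =
      pU f g' f' M V V' (Ui ij.1 ⊓ Ui ij.2) ((inf_le_left.trans (hle ij.1)).trans hU)
        (resL f M V inf_le_left ((hle ij.1).trans hU) (y ij.1) -
          resL f M V inf_le_right ((hle ij.2).trans hU) (y ij.2))
    rw [map_sub, e1, e2]
  · exact liftT_pi_bijective
      (fun i => pU f g' f' M V V' (Ui i) ((hle i).trans hU))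
      (fun i => pU_smul M h.w hV' (Ui i) ((hle i).trans hU)) _ _ (fun x i => rfl) hbij
  · exact liftT_pi_injective
      (fun ij : ι × ι => pU f g' f' M V V' (Ui ij.1 ⊓ Ui ij.2)
        ((inf_le_left.trans (hle ij.1)).trans hU))
      (fun ij => pU_smul M h.w hV' _ _) _ _ (fun x i => rfl) (fun ij => hinj ij.1 ij.2)

end Family


/-- (B) for `U` quasi-compact, `A' ⊗[A] Γ(M, U) → Γ(g'^* M, U')` is injective. -/
theorem liftT_pU_injective_of_isCompact (h : IsPullback g' f' f g) [M.IsQuasicoherent] [Flat g]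
    (hV : IsAffineOpen V) (hV'a : IsAffineOpen V') (hV' : V' ≤ g ⁻¹ᵁ V) (U : X.Opens)
    (hU : U ≤ f ⁻¹ᵁ V) (hUc : IsCompact (U : Set X)) :
    letI := (g.appLE V V' hV').hom.toAlgebra
    Function.Injective (liftT (pU f g' f' M V V' U hU) (pU_smul M h.w hV' U hU)) := by
  classical
  obtain ⟨I, hI, e⟩ := isCompact_iff_finite_and_eq_biUnion_affineOpens.mp hUc
  have := hI.to_subtype
  cases nonempty_fintype I
  have e' : U = ⨆ i : I, (i.1 : X.Opens) := by
    symm
    rwa [iSup_subtype, eq_comm]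
  have hle : ∀ i : I, (i.1 : X.Opens) ≤ U := fun i => by
    rw [e']
    exact le_iSup (fun i : I => (i.1 : X.Opens)) i
  exact liftT_pU_injective_of_cover M h hV' (fun i : I => (i.1 : X.Opens)) U hU hle (le_of_eq e')
    hV hV'a (fun i => (liftT_pU_bijective_of_isAffineOpen M h hV hV'a hV' _ _ i.1.2).1)

/-- (C) for `U` quasi-compact and quasi-separated, `A' ⊗[A] Γ(M, U) → Γ(g'^* M, U')` is
bijective. -/
theorem liftT_pU_bijective_of_qcqs (h : IsPullback g' f' f g) [M.IsQuasicoherent] [Flat g]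
    (hV : IsAffineOpen V) (hV'a : IsAffineOpen V') (hV' : V' ≤ g ⁻¹ᵁ V) (U : X.Opens)
    (hU : U ≤ f ⁻¹ᵁ V) (hUc : IsCompact (U : Set X)) (hUs : IsQuasiSeparated (U : Set X)) :
    letI := (g.appLE V V' hV').hom.toAlgebra
    Function.Bijective (liftT (pU f g' f' M V V' U hU) (pU_smul M h.w hV' U hU)) := by
  classical
  obtain ⟨I, hI, e⟩ := isCompact_iff_finite_and_eq_biUnion_affineOpens.mp hUc
  have := hI.to_subtype
  cases nonempty_fintype I
  have e' : U = ⨆ i : I, (i.1 : X.Opens) := by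
    symm
    rwa [iSup_subtype, eq_comm]
  have hle : ∀ i : I, (i.1 : X.Opens) ≤ U := fun i => by
    rw [e']
    exact le_iSup (fun i : I => (i.1 : X.Opens)) i
  refine liftT_pU_bijective_of_cover M h hV' (fun i : I => (i.1 : X.Opens)) U hU hle (le_of_eq e')
    hV hV'a (fun i => liftT_pU_bijective_of_isAffineOpen M h hV hV'a hV' _ _ i.1.2) (fun i j => ?_)
  exact liftT_pU_injective_of_isCompact M h hV hV'a hV' _ _
    (hUs _ _ (hle i) i.1.1.2 i.1.2.isCompact (hle j) j.1.1.2 j.1.2.isCompact)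

end BC


section Final

variable {X Y X' Y' : Scheme.{u}} {f : X ⟶ Y} {g : Y' ⟶ Y} {g' : X' ⟶ X} {f' : X' ⟶ Y'}

open Groth.Agent.Lib.Helper49.AffineBaseChange in
/-- **Flat base change on sections**: for `f` qcqs and `g` flat, the base change map is bijective
on sections over affine charts `V' ≤ g⁻¹ V`. -/
theorem bcMap_app_bijective_of_flat (h : IsPullback g' f' f g) [QuasiCompact f] [QuasiSeparated f]
    [Flat g] (M : X.Modules) [M.IsQuasicoherent] {V : Y.Opens} (hV : IsAffineOpen V)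
    {V' : Y'.Opens} (hV'a : IsAffineOpen V') (hV' : V' ≤ g ⁻¹ᵁ V) :
    Function.Bijective ((bcMap f g g' f' h.w M).app V').hom := by
  haveI : ((pushforward f).obj M).IsQuasicoherent := isQuasicoherent_pushforward M f
  have hUc : IsCompact ((f ⁻¹ᵁ V : X.Opens) : Set X) :=
    QuasiCompact.isCompact_preimage (f := f) _ V.2 hV.isCompact
  have hUs : IsQuasiSeparated ((f ⁻¹ᵁ V : X.Opens) : Set X) :=
    Scheme.Hom.isQuasiSeparated_preimage f hV.isQuasiSeparated
  letI algAA' : Algebra Γ(Y, V) Γ(Y', V') := (g.appLE V V' hV').hom.toAlgebra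
  have hT := liftT_pU_bijective_of_qcqs M h hV hV'a hV' (f ⁻¹ᵁ V) le_rfl hUc hUs
  letI modAP₁ : Module Γ(Y, V) Γ((pullback g).obj ((pushforward f).obj M), V') :=
    Module.compHom _ (g.appLE V V' hV').hom
  haveI : IsScalarTower Γ(Y, V) Γ(Y', V') Γ((pullback g).obj ((pushforward f).obj M), V') :=
    IsScalarTower.of_compHom _ _ _
  obtain ⟨c₁, hc₁, hb₁⟩ := exists_isBaseChange_pullSLE g hV hV'a hV' ((pushforward f).obj M)
  let e : Γ((pushforward f).obj M, V) ≃ₗ[Γ(Y, V)] SecOver f M V (f ⁻¹ᵁ V) le_rfl :=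
    { toFun := fun s => s
      invFun := fun s => s
      left_inv := fun _ => rfl
      right_inv := fun _ => rfl
      map_add' := fun _ _ => rfl
      map_smul' := fun a s => by
        change (a • s : Γ((pushforward f).obj M, V)) =
          (f.appLE V (f ⁻¹ᵁ V) le_rfl).hom a • (show Γ(M, f ⁻¹ᵁ V) from s)
        rw [← Scheme.Hom.app_eq_appLE]
        rfl }
  have hle : f' ⁻¹ᵁ V' ≤ pre g' f' V' (f ⁻¹ᵁ V) := le_inf (preimage_le_of_comm h.w hV') le_rfl
  have hpre : pre g' f' V' (f ⁻¹ᵁ V) ≤ f' ⁻¹ᵁ V' := inf_le_right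
  let ρ : Γ((pullback g').obj M, f' ⁻¹ᵁ V') →+
      SecOver f' ((pullback g').obj M) V' (pre g' f' V' (f ⁻¹ᵁ V)) inf_le_right :=
    mres ((pullback g').obj M) hpre
  have hρ : Function.Bijective ρ := by
    refine Function.bijective_iff_has_inverse.mpr ⟨mres ((pullback g').obj M) hle, fun x => ?_,
      fun x => ?_⟩
    · change mres _ hle (mres _ hpre x) = x
      rw [mres_mres, mres_self]
    · change mres ((pullback g').obj M) hpre (mres ((pullback g').obj M) hle x) = x
      rw [mres_mres, mres_self]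
  let β' : Γ((pullback g).obj ((pushforward f).obj M), V') →+
      SecOver f' ((pullback g').obj M) V' (pre g' f' V' (f ⁻¹ᵁ V)) inf_le_right :=
    ρ.comp ((bcMap f g g' f' h.w M).app V').hom
  have hβ' : Function.Bijective β' := by
    refine bijective_of_liftT_bijective e c₁ hb₁ (pU f g' f' M V V' (f ⁻¹ᵁ V) le_rfl)
      (pU_smul M h.w hV' (f ⁻¹ᵁ V) le_rfl) β' (fun a' z => ?_) (fun s => ?_) hT
    · have h1 := Scheme.Modules.Hom.app_smul (bcMap f g g' f' h.w M) a' z
      change mres ((pullback g').obj M) hpre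
          (((bcMap f g g' f' h.w M).app V').hom (a' • z)) =
        (f'.appLE V' (pre g' f' V' (f ⁻¹ᵁ V)) inf_le_right).hom a' •
          mres ((pullback g').obj M) hpre (((bcMap f g g' f' h.w M).app V').hom z)
      rw [h1, Groth.Agent.Lib.Helper45.pushforward_smul, mres_smul]
      rfl
    · change mres ((pullback g').obj M) hpre
          (((bcMap f g g' f' h.w M).app V').hom (c₁ s)) =
        pullSLE g' M (f ⁻¹ᵁ V) (pre g' f' V' (f ⁻¹ᵁ V)) inf_le_left s
      rw [hc₁, bcMap_pullSLE h.w M V V' hV' s, mres_pullSLE]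
  exact (Function.Bijective.of_comp_iff' hρ _).mp hβ'

/-- **Flat base change**: for `f` quasi-compact and quasi-separated, `g` flat, a cartesian square
and a quasi-coherent module `M`, the base change map `g^* f_* M ⟶ f'_* g'^* M` is an
isomorphism. -/
theorem isIso_bcMap_of_flat (h : IsPullback g' f' f g) [QuasiCompact f] [QuasiSeparated f]
    [Flat g] (M : X.Modules) [M.IsQuasicoherent] :
    IsIso (Groth.Agent.Lib.Helper49.AffineBaseChange.bcMap f g g' f' h.w M) := by
  have hf'c : QuasiCompact f' := MorphismProperty.of_isPullback (P := @QuasiCompact) h inferInstance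
  have hf's : QuasiSeparated f' :=
    MorphismProperty.of_isPullback (P := @QuasiSeparated) h inferInstance
  haveI : ((pushforward f).obj M).IsQuasicoherent := isQuasicoherent_pushforward M f
  haveI : ((pullback g).obj ((pushforward f).obj M)).IsQuasicoherent :=
    Groth.Agent.Lib.Helper16.FlatPull.isQuasicoherent_pullback g _
  haveI : ((pullback g').obj M).IsQuasicoherent :=
    Groth.Agent.Lib.Helper16.FlatPull.isQuasicoherent_pullback g' _
  haveI : ((pushforward f').obj ((pullback g').obj M)).IsQuasicoherent :=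
    isQuasicoherent_pushforward _ f'
  apply Groth.Agent.Lib.Helper42.isIso_of_app_bijective_of_cover
  intro x'
  obtain ⟨V, V', hV, hV'a, hV', hx'⟩ := Groth.Agent.Lib.Helper16.FlatPull.exists_charts g x'
  exact ⟨V', hV'a, hx', bcMap_app_bijective_of_flat h M hV hV'a hV'⟩

end Final

end Groth.Agent.Lib.Helper11.FlatBC
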