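import Mathlib
import Groth.Agent.Lib.Helper11.FlatBC
import Groth.Agent.Lib.Helper49.PullbackSections
import Groth.Agent.Lib.Helper11.PullbackTensor
import Groth.Agent.Lib.Helper11.GlobalGen
import Groth.Agent.Lib.Helper11.CounitAmple
import Groth.Agent.Lib.Helper11.CounitEpi2
import Groth.Agent.Lib.Helper11.SupportTensor
import Groth.Agent.Lib.Helper11.RelAmpleComp
import Groth.Agent.S0079
import Groth.Agent.S0081
import Groth.Agent.S4381

/-!
# fpqc descent of relative ampleness

* `epi_of_epi_pullback`: epimorphisms of quasi-coherent modules descend along fpqc morphisms.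
* `counit_pullSLE`, `epi_pullback_counit`: if the counit of `f'` at `g'^* H` is epi then so is the
  pullback of the counit of `f` at `H` (flat base change on sections).
* `isIso_Delta_of_isInvertible_right`, `pullbackTensorIso'`: `f^*(A ⊗ B) ≅ f^* A ⊗ f^* B` for `A`
  quasi-coherent and `B` invertible.
* `isRelAmple_of_isRelAmple_pullback_of_isAffine`, `isRelAmple_of_isRelAmple_pullback`: if the
  pullback of an invertible `L` along a flat surjective quasi-compact base change is relatively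
  ample, then `L` is relatively ample.
-/

set_option autoImplicit false
set_option linter.style.haveILetI false
set_option linter.unusedSectionVars false
namespace Groth.Agent.Lib.Helper11.AmpleDescent
open AlgebraicGeometry CategoryTheory TopologicalSpace Opposite TensorProduct
open Groth.Agent.Lib.Helper45 Groth.Agent.Lib.Helper49 Groth.Agent.Lib.Helper49.UnitChart
  Groth.Agent.Lib.Helper11.GenLocus Groth.Agent.Lib.Helper11.PullbackTensor
  Groth.Agent.Lib.Helper11.PullbackBasis Groth.Agent.Lib.Helper11.FlatBCAlg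
  Groth.Agent.Lib.Helper11.FlatBC Scheme.Modules

universe u

section EpiDescent

variable {X' X : Scheme.{u}} (g : X' ⟶ X) [Flat g] [Surjective g] [QuasiCompact g]

/-- epimorphisms of quasi-coherent modules descend along flat, surjective, quasi-compact
morphisms. -/
theorem epi_of_epi_pullback {F G : X.Modules} [F.IsQuasicoherent] [G.IsQuasicoherent] (φ : F ⟶ G)
    (h : Epi ((pullback g).map φ)) : Epi φ := by
  haveI : ((pullback g).obj F).IsQuasicoherent :=
    Groth.Agent.Lib.Helper16.FlatPull.isQuasicoherent_pullback g F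
  haveI : ((pullback g).obj G).IsQuasicoherent :=
    Groth.Agent.Lib.Helper16.FlatPull.isQuasicoherent_pullback g G
  have haff : ∀ U : X.Opens, IsAffineOpen U →
      Function.Surjective (Groth.Agent.Lib.Helper45.appₗ φ U) := by
    intro U hU
    obtain ⟨ι, hι, W, hW, hWU, hflat, hsurj⟩ := exists_descent_cover g hU
    letI : ∀ j, Algebra Γ(X, U) Γ(X', W j) := fun j => (g.appLE U (W j) (hWU j)).hom.toAlgebra
    refine FamilyDescent.surjective_of_forall_lTensor_surjective hsurj
      (Groth.Agent.Lib.Helper45.appₗ φ U) fun j => ?_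
    letI : Module Γ(X, U) Γ((pullback g).obj F, W j) :=
      Module.compHom _ (g.appLE U (W j) (hWU j)).hom
    haveI : IsScalarTower Γ(X, U) Γ(X', W j) Γ((pullback g).obj F, W j) :=
      IsScalarTower.of_compHom _ _ _
    letI : Module Γ(X, U) Γ((pullback g).obj G, W j) :=
      Module.compHom _ (g.appLE U (W j) (hWU j)).hom
    haveI : IsScalarTower Γ(X, U) Γ(X', W j) Γ((pullback g).obj G, W j) :=
      IsScalarTower.of_compHom _ _ _
    obtain ⟨cF, hcF, hbF⟩ := exists_isBaseChange_pullSLE g hU (hW j) (hWU j) F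
    obtain ⟨cG, hcG, hbG⟩ := exists_isBaseChange_pullSLE g hU (hW j) (hWU j) G
    have hs := Groth.Agent.Lib.Helper42.app_surjective_of_epi ((pullback g).map φ) (hW j)
    have key : ∀ z : Γ(X', W j) ⊗[Γ(X, U)] Γ(F, U),
        (((pullback g).map φ).app (W j)).hom (hbF.equiv z) =
          hbG.equiv ((Groth.Agent.Lib.Helper45.appₗ φ U).lTensor Γ(X', W j) z) := by
      intro z
      induction z using TensorProduct.induction_on with
      | zero => simp
      | tmul a s =>
        rw [IsBaseChange.equiv_tmul, Scheme.Modules.Hom.app_smul, hcF, pullSLE_naturality,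
          LinearMap.lTensor_tmul, IsBaseChange.equiv_tmul, hcG]
        rfl
      | add x y hx hy => rw [map_add, map_add, hx, hy, map_add, map_add]
    intro y
    obtain ⟨z', hz'⟩ := hs (hbG.equiv y)
    obtain ⟨z, rfl⟩ := hbF.equiv.surjective z'
    exact ⟨z, hbG.equiv.injective ((key z).symm.trans hz')⟩
  rw [Groth.Agent.Lib.Helper45.epi_iff_isLocallySurjective,
    TopCat.Presheaf.isLocallySurjective_iff]
  intro V t x hx
  obtain ⟨_, ⟨U, hU, rfl⟩, hxU, hUV⟩ := X.isBasis_affineOpens.exists_subset_of_mem_open hx V.2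
  obtain ⟨s, hs⟩ := haff U hU (mres G hUV t)
  exact ⟨U, hUV, ⟨s, hs⟩, hxU⟩

end EpiDescent


section StarStar

variable {X Y X' Y' : Scheme.{u}} {f : X ⟶ Y} {g : Y' ⟶ Y} {g' : X' ⟶ X} {f' : X' ⟶ Y'}

open Groth.Agent.Lib.Helper11.PullbackBasis in
theorem counit_pullSLE (f : X ⟶ Y) (H : X.Modules) (V : Y.Opens) (W : X.Opens)
    (hW : W ≤ f ⁻¹ᵁ V) (t : Γ((pushforward f).obj H, V)) :
    (((pullbackPushforwardAdjunction f).counit.app H).app W).hom
      (pullSLE f ((pushforward f).obj H) V W hW t) = mres H hW (show Γ(H, f ⁻¹ᵁ V) from t) := by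
  have h := (pullbackPushforwardAdjunction f).right_triangle_components H
  have h2 := congrArg (fun φ : (pushforward f).obj H ⟶ (pushforward f).obj H => (φ.app V).hom t) h
  have h3 : (((pullbackPushforwardAdjunction f).counit.app H).app (f ⁻¹ᵁ V)).hom
      (pullS f ((pushforward f).obj H) V t) = (show Γ(H, f ⁻¹ᵁ V) from t) := h2
  unfold pullSLE
  exact (Groth.Agent.Lib.Helper49.UnitChart.app_mres
    ((pullbackPushforwardAdjunction f).counit.app H) hW _).trans (congrArg (mres H hW) h3)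

/-- if the counit of `f'` at `g'^* H` is an epimorphism, then so is the pullback along `g'` of the
counit of `f` at `H` (for `g` flat and `f` quasi-compact quasi-separated). -/
theorem epi_pullback_counit (h : IsPullback g' f' f g) [QuasiCompact f] [QuasiSeparated f] [Flat g]
    (H : X.Modules) [H.IsQuasicoherent]
    (hepi : Epi ((pullbackPushforwardAdjunction f').counit.app ((pullback g').obj H))) :
    Epi ((pullback g').map ((pullbackPushforwardAdjunction f).counit.app H)) := by
  have hf'c : QuasiCompact f' := MorphismProperty.of_isPullback (P := @QuasiCompact) h inferInstance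
  have hf's : QuasiSeparated f' :=
    MorphismProperty.of_isPullback (P := @QuasiSeparated) h inferInstance
  haveI : ((pullback g').obj H).IsQuasicoherent :=
    Groth.Agent.Lib.Helper16.FlatPull.isQuasicoherent_pullback g' H
  haveI : ((pushforward f').obj ((pullback g').obj H)).IsQuasicoherent :=
    isQuasicoherent_pushforward _ f'
  haveI : ((pullback f').obj ((pushforward f').obj ((pullback g').obj H))).IsQuasicoherent :=
    Groth.Agent.Lib.Helper16.FlatPull.isQuasicoherent_pullback f' _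
  let D : (pullback g').obj ((pullback f).obj ((pushforward f).obj H)) ⟶ (pullback g').obj H :=
    (pullback g').map ((pullbackPushforwardAdjunction f).counit.app H)
  let ε' : (pullback f').obj ((pushforward f').obj ((pullback g').obj H)) ⟶ (pullback g').obj H :=
    (pullbackPushforwardAdjunction f').counit.app ((pullback g').obj H)
  have hepi' : Epi ε' := hepi
  change Epi D
  rw [Groth.Agent.Lib.Helper45.epi_iff_isLocallySurjective,
    TopCat.Presheaf.isLocallySurjective_iff]
  intro W₀ y x' hx'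
  obtain ⟨V, T, hV, hT, hTV, hx'T⟩ := Groth.Agent.Lib.Helper16.FlatPull.exists_charts g (f' x')
  have hx'W₁ : x' ∈ W₀ ⊓ f' ⁻¹ᵁ T := ⟨hx', hx'T⟩
  obtain ⟨_, ⟨W, hW, rfl⟩, hxW, hWW₁⟩ :=
    X'.isBasis_affineOpens.exists_subset_of_mem_open hx'W₁ (W₀ ⊓ f' ⁻¹ᵁ T).2
  have hWW₀ : W ≤ W₀ := fun _ hz => (hWW₁ hz).1
  have hWT : W ≤ f' ⁻¹ᵁ T := fun _ hz => (hWW₁ hz).2
  have hWpre : W ≤ pre g' f' T (f ⁻¹ᵁ V) :=
    le_inf (hWT.trans (Groth.Agent.Lib.Helper49.AffineBaseChange.preimage_le_of_comm h.w hTV)) hWT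
  have hWV : W ≤ g' ⁻¹ᵁ (f ⁻¹ᵁ V) := hWpre.trans inf_le_left
  -- the range of `D` over `W`
  let R : Submodule Γ(X', W) Γ((pullback g').obj H, W) :=
    LinearMap.range (Groth.Agent.Lib.Helper45.appₗ D W)
  -- (v) pullbacks of sections over `f⁻¹ V` are in the range
  have hv : ∀ t : Γ(H, f ⁻¹ᵁ V), pullSLE g' H (f ⁻¹ᵁ V) W hWV t ∈ R := by
    intro t
    obtain ⟨t₀, ht₀⟩ := Groth.Agent.Lib.Helper11.CounitEpi2.exists_counit_app_eq f H V t
    refine ⟨pullSLE g' _ (f ⁻¹ᵁ V) W hWV t₀, ?_⟩
    change (D.app W).hom (pullSLE g' _ (f ⁻¹ᵁ V) W hWV t₀) = _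
    have e0 := pullSLE_naturality g' ((pullbackPushforwardAdjunction f).counit.app H) (f ⁻¹ᵁ V) W
      hWV t₀
    rw [ht₀] at e0
    exact e0
  -- (iv) all sections over `f'⁻¹ T` restrict into the range
  have hUc : IsCompact ((f ⁻¹ᵁ V : X.Opens) : Set X) :=
    QuasiCompact.isCompact_preimage (f := f) _ V.2 hV.isCompact
  have hUs : IsQuasiSeparated ((f ⁻¹ᵁ V : X.Opens) : Set X) :=
    Scheme.Hom.isQuasiSeparated_preimage f hV.isQuasiSeparated
  letI algAA' : Algebra Γ(Y, V) Γ(Y', T) := (g.appLE V T hTV).hom.toAlgebra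
  have hbij := liftT_pU_bijective_of_qcqs H h hV hT hTV (f ⁻¹ᵁ V) le_rfl hUc hUs
  let ρW : SecOver f' ((pullback g').obj H) T (pre g' f' T (f ⁻¹ᵁ V)) inf_le_right →+
      Γ((pullback g').obj H, W) := mres ((pullback g').obj H) hWpre
  have hiv : ∀ w : Γ(Y', T) ⊗[Γ(Y, V)] SecOver f H V (f ⁻¹ᵁ V) le_rfl,
      ρW (liftT (pU f g' f' H V T (f ⁻¹ᵁ V) le_rfl) (pU_smul H h.w hTV (f ⁻¹ᵁ V) le_rfl) w) ∈ R := by
    intro w
    induction w using TensorProduct.induction_on with
    | zero => rw [map_zero, map_zero]; exact R.zero_mem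
    | tmul a t =>
      rw [liftT_tmul]
      have e1 : ρW (a • pU f g' f' H V T (f ⁻¹ᵁ V) le_rfl t) =
          (f'.appLE T W hWT).hom a • pullSLE g' H (f ⁻¹ᵁ V) W hWV t := by
        change mres ((pullback g').obj H) hWpre
          ((f'.appLE T (pre g' f' T (f ⁻¹ᵁ V)) inf_le_right).hom a •
            pullSLE g' H (f ⁻¹ᵁ V) (pre g' f' T (f ⁻¹ᵁ V)) inf_le_left t) = _
        rw [mres_smul, mres_pullSLE]
        congr 1
        have := f'.appLE_map (inf_le_right : pre g' f' T (f ⁻¹ᵁ V) ≤ f' ⁻¹ᵁ T) (homOfLE hWpre).op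
        exact congrArg (fun k => k.hom a) this
      rw [e1]
      exact R.smul_mem _ (hv t)
    | add x y hx hy =>
      rw [map_add, map_add]
      exact R.add_mem hx hy
  have hiv' : ∀ t' : Γ((pullback g').obj H, f' ⁻¹ᵁ T), mres ((pullback g').obj H) hWT t' ∈ R := by
    intro t'
    obtain ⟨w, hw⟩ := hbij.2
      (show SecOver f' ((pullback g').obj H) T (pre g' f' T (f ⁻¹ᵁ V)) inf_le_right from
        mres ((pullback g').obj H) (inf_le_right : pre g' f' T (f ⁻¹ᵁ V) ≤ f' ⁻¹ᵁ T) t')
    have := hiv w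
    rw [hw] at this
    have e2 : mres ((pullback g').obj H) hWpre
        (mres ((pullback g').obj H) (inf_le_right : pre g' f' T (f ⁻¹ᵁ V) ≤ f' ⁻¹ᵁ T) t') =
        mres ((pullback g').obj H) hWT t' := mres_mres _ _ _ _
    rw [← e2]
    exact this
  -- (ii)-(iii) the image of the counit of `f'` over `W` is contained in the range
  letI algTW : Algebra Γ(Y', T) Γ(X', W) := (f'.appLE T W hWT).hom.toAlgebra
  letI : Module Γ(Y', T) Γ((pullback f').obj ((pushforward f').obj ((pullback g').obj H)), W) :=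
    Module.compHom _ (f'.appLE T W hWT).hom
  haveI : IsScalarTower Γ(Y', T) Γ(X', W)
      Γ((pullback f').obj ((pushforward f').obj ((pullback g').obj H)), W) :=
    IsScalarTower.of_compHom _ _ _
  obtain ⟨c, hc, hb⟩ := exists_isBaseChange_pullSLE f' hT hW hWT
    ((pushforward f').obj ((pullback g').obj H))
  have hii : ∀ z : Γ((pullback f').obj ((pushforward f').obj ((pullback g').obj H)), W),
      (ε'.app W).hom z ∈ R := by
    intro z
    refine hb.inductionOn z (fun z => (ε'.app W).hom z ∈ R) ?_ ?_ ?_ ?_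
    · rw [map_zero]; exact R.zero_mem
    · intro t'
      rw [hc, counit_pullSLE]
      exact hiv' t'
    · intro a z hz
      rw [Scheme.Modules.Hom.app_smul]
      exact R.smul_mem _ hz
    · intro z₁ z₂ h₁ h₂
      rw [map_add]
      exact R.add_mem h₁ h₂
  -- conclusion
  obtain ⟨z, hz⟩ := Groth.Agent.Lib.Helper42.app_surjective_of_epi ε' hW
    (mres ((pullback g').obj H) hWW₀ y)
  obtain ⟨s, hs⟩ := hii z
  exact ⟨W, hWW₀, ⟨s, hs.trans hz⟩, hxW⟩

end StarStar


section DeltaIso

variable {X Y : Scheme.{u}} (f : X ⟶ Y) (A B : Y.Modules)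

theorem Delta_pullSLE_tm (V : Y.Opens) (W : X.Opens) (hWV : W ≤ f ⁻¹ᵁ V) (a : Γ(A, V))
    (b : Γ(B, V)) :
    ((Delta f A B).app W).hom (pullSLE f _ V W hWV (tm A B V a b)) =
      tm _ _ W (pullSLE f A V W hWV a) (pullSLE f B V W hWV b) := by
  unfold pullSLE
  rw [Groth.Agent.Lib.Helper49.UnitChart.app_mres, Delta_pullS_tm, tm_res]

/-- `f^* (A ⊗ B) ≅ f^* A ⊗ f^* B` for `A` quasi-coherent and `B` invertible. -/
theorem isIso_Delta_of_isInvertible_right [A.IsQuasicoherent] (hB : PicF.IsInvertible B) :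
    IsIso (Delta f A B) := by
  haveI : (CohB1.tensorMod A B).IsQuasicoherent := isQuasicoherent_tensorMod_of_isInvertible A B hB
  haveI : ((pullback f).obj (CohB1.tensorMod A B)).IsQuasicoherent :=
    Groth.Agent.Lib.Helper16.FlatPull.isQuasicoherent_pullback f _
  haveI : ((pullback f).obj A).IsQuasicoherent :=
    Groth.Agent.Lib.Helper16.FlatPull.isQuasicoherent_pullback f _
  haveI : (T f A B).IsQuasicoherent :=
    isQuasicoherent_tensorMod_of_isInvertible _ _ (isInvertible_pullback f hB)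
  apply Groth.Agent.Lib.Helper42.isIso_of_app_bijective_of_cover
  intro x
  obtain ⟨V₀, hxV₀, b₀, hb₀⟩ := exists_isBasisOn_of_isInvertible hB (f x)
  obtain ⟨_, ⟨V, hV, rfl⟩, hxV, hVV₀⟩ := Y.isBasis_affineOpens.exists_subset_of_mem_open hxV₀ V₀.2
  have hxV' : x ∈ f ⁻¹ᵁ V := hxV
  obtain ⟨_, ⟨W, hW, rfl⟩, hxW, hWV⟩ :=
    X.isBasis_affineOpens.exists_subset_of_mem_open hxV' (f ⁻¹ᵁ V).2
  refine ⟨W, hW, hxW, ?_⟩
  set b : Γ(B, V) := mres B hVV₀ b₀ with hb
  have hbV : IsBasisOn B V b := hb₀.mono hVV₀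
  have hb' : IsBasisOn ((pullback f).obj B) (f ⁻¹ᵁ V) (pullS f B V b) := isBasisOn_pullS f V B b hbV
  -- the linear equivalence `a ↦ a ⊗ b`
  let τ₀ : Γ(A, V) →ₗ[Γ(Y, V)] Γ(CohB1.tensorMod A B, V) :=
    { toFun := fun a => tm A B V a b
      map_add' := fun a a' => tm_add_left A B V a a' b
      map_smul' := fun r a => tm_smul_left A B V r a b }
  have hτ₀ : Function.Bijective τ₀ := tm_basis_bijective A B V₀ b₀ hb₀ V hVV₀
  let τ : Γ(A, V) ≃ₗ[Γ(Y, V)] Γ(CohB1.tensorMod A B, V) := LinearEquiv.ofBijective τ₀ hτ₀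
  have hτ' : Function.Bijective (fun m : Γ((pullback f).obj A, W) =>
      tm ((pullback f).obj A) ((pullback f).obj B) W m (pullSLE f B V W hWV b)) :=
    tm_basis_bijective _ _ (f ⁻¹ᵁ V) (pullS f B V b) hb' W hWV
  -- base change data
  letI algVW : Algebra Γ(Y, V) Γ(X, W) := (f.appLE V W hWV).hom.toAlgebra
  letI : Module Γ(Y, V) Γ((pullback f).obj A, W) := Module.compHom _ (f.appLE V W hWV).hom
  haveI : IsScalarTower Γ(Y, V) Γ(X, W) Γ((pullback f).obj A, W) := IsScalarTower.of_compHom _ _ _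
  letI : Module Γ(Y, V) Γ((pullback f).obj (CohB1.tensorMod A B), W) :=
    Module.compHom _ (f.appLE V W hWV).hom
  haveI : IsScalarTower Γ(Y, V) Γ(X, W) Γ((pullback f).obj (CohB1.tensorMod A B), W) :=
    IsScalarTower.of_compHom _ _ _
  obtain ⟨cA, hcA, hbA⟩ := exists_isBaseChange_pullSLE f hV hW hWV A
  obtain ⟨cAB, hcAB, hbAB⟩ := exists_isBaseChange_pullSLE f hV hW hWV (CohB1.tensorMod A B)
  have key : ∀ w : Γ(X, W) ⊗[Γ(Y, V)] Γ(A, V),
      ((Delta f A B).app W).hom (hbAB.equiv (τ.toLinearMap.lTensor Γ(X, W) w)) =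
        tm ((pullback f).obj A) ((pullback f).obj B) W (hbA.equiv w) (pullSLE f B V W hWV b) := by
    intro w
    induction w using TensorProduct.induction_on with
    | zero => simp [tm_zero_left]
    | tmul r a =>
      rw [LinearMap.lTensor_tmul, IsBaseChange.equiv_tmul, IsBaseChange.equiv_tmul,
        Scheme.Modules.Hom.app_smul, hcAB, hcA, tm_smul_left]
      congr 1
      exact Delta_pullSLE_tm f A B V W hWV a b
    | add x y hx hy => rw [map_add, map_add, map_add, hx, hy, map_add, tm_add_left]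
  have hΘ : Function.Bijective (τ.toLinearMap.lTensor Γ(X, W)) :=
    (TensorProduct.congr (LinearEquiv.refl Γ(Y, V) Γ(X, W)) τ).bijective
  have h2 : (((Delta f A B).app W).hom : _ → _) =
      ((fun m : Γ((pullback f).obj A, W) =>
        tm ((pullback f).obj A) ((pullback f).obj B) W m (pullSLE f B V W hWV b)) ∘ hbA.equiv) ∘
        ((Equiv.ofBijective _ hΘ).symm ∘ hbAB.equiv.symm) := by
    funext z
    obtain ⟨w', rfl⟩ := hbAB.equiv.surjective z
    obtain ⟨w, rfl⟩ := hΘ.2 w'
    rw [key w]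
    simp only [Function.comp_apply, LinearEquiv.symm_apply_apply]
    congr 2
    exact ((Equiv.ofBijective _ hΘ).symm_apply_apply w).symm
  change Function.Bijective (((Delta f A B).app W).hom : _ → _)
  rw [h2]
  exact (hτ'.comp hbA.equiv.bijective).comp
    ((Equiv.ofBijective _ hΘ).symm.bijective.comp hbAB.equiv.symm.bijective)

/-- `f^* (A ⊗ B) ≅ f^* A ⊗ f^* B` for `A` quasi-coherent and `B` invertible. -/
noncomputable def pullbackTensorIso' [A.IsQuasicoherent] (hB : PicF.IsInvertible B) :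
    (pullback f).obj (CohB1.tensorMod A B) ≅
      CohB1.tensorMod ((pullback f).obj A) ((pullback f).obj B) :=
  @asIso _ _ _ _ (Delta f A B) (isIso_Delta_of_isInvertible_right f A B hB)

end DeltaIso



section AffineBase

variable {X Y X' Y' : Scheme.{u}} {f : X ⟶ Y} {g : Y' ⟶ Y} {g' : X' ⟶ X} {f' : X' ⟶ Y'}

/-- descent of relative ampleness along a flat, surjective, quasi-compact base change, over an
affine base. -/
theorem isRelAmple_of_isRelAmple_pullback_of_isAffine [IsAffine Y] (h : IsPullback g' f' f g)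
    [QuasiCompact g] [Flat g] [Surjective g] (L : X.Modules) (hL : PicF.IsInvertible L)
    (hL' : RelAmple.IsRelAmple f' ((pullback g').obj L)) : RelAmple.IsRelAmple f L := by
  have hf'c : QuasiCompact f' := hL'.1
  have hf's : IsSeparated f' :=
    Groth.Agent.Lib.Helper11.AmpleSeparated.isSeparated_of_isRelAmple f' _ hL'
  have hfpqc : (@Surjective ⊓ @Flat ⊓ @QuasiCompact : MorphismProperty Scheme.{u}) g :=
    ⟨⟨inferInstance, inferInstance⟩, inferInstance⟩
  have hfc : QuasiCompact f :=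
    Groth.Agent.S0079.result.of_isPullback h.flip hfpqc hf'c
  have hfs : IsSeparated f :=
    Groth.Agent.S0081.result.of_isPullback h.flip hfpqc hf's
  have hXc : CompactSpace X := QuasiCompact.compactSpace_of_compactSpace f
  have hXs : X.IsSeparated := ⟨by rw [← Limits.terminal.comp_from f]; infer_instance⟩
  have hg'c : QuasiCompact g' := MorphismProperty.of_isPullback (P := @QuasiCompact) h.flip inferInstance
  have hg'f : Flat g' := MorphismProperty.of_isPullback (P := @Flat) h.flip inferInstance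
  have hg's : Surjective g' := MorphismProperty.of_isPullback (P := @Surjective) h.flip inferInstance
  have hX'c : CompactSpace X' := QuasiCompact.compactSpace_of_compactSpace g'
  apply Groth.Agent.Lib.Helper11.CounitAmple.relAmple_of_counit_ideal_twist_epi f L hL
  intro J i hi hJq hJft
  haveI : J.IsQuasicoherent := hJq
  have hJ'q : Coh.IsQCoh ((pullback g').obj J) :=
    Groth.Agent.Lib.Helper16.FlatPull.isQuasicoherent_pullback g' J
  have hJ'ft : CohB1.IsFT ((pullback g').obj J) :=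
    Groth.Agent.Lib.Helper11.SupportTensor.isFiniteType_pullback_of_isFiniteType g' J hJft
  obtain ⟨n₀, hn₀pos, hn₀⟩ := Groth.Agent.Lib.Helper11.CounitEpi2.eventually_epi_counit_of_relAmple
    f' _ hL' ((pullback g').obj J) hJ'q hJ'ft
  refine ⟨n₀, hn₀pos, ?_⟩
  have hepi := hn₀ n₀ le_rfl
  have hLn : PicF.IsInvertible (CohB1.tensorPow L n₀) := isInvertible_tensorPow hL n₀
  haveI hHq : (CohB1.tensorMod J (CohB1.tensorPow L n₀)).IsQuasicoherent :=
    isQuasicoherent_tensorMod_of_isInvertible J _ hLn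
  let e : (pullback g').obj (CohB1.tensorMod J (CohB1.tensorPow L n₀)) ≅
      CohB1.tensorMod ((pullback g').obj J) (CohB1.tensorPow ((pullback g').obj L) n₀) :=
    pullbackTensorIso' g' J (CohB1.tensorPow L n₀) hLn ≪≫
      tensorModCongr (Iso.refl _) (pullbackTensorPowIso g' hL n₀)
  have hepi' : Epi ((pullbackPushforwardAdjunction f').counit.app
      ((pullback g').obj (CohB1.tensorMod J (CohB1.tensorPow L n₀)))) := by
    have hnat := (pullbackPushforwardAdjunction f').counit.naturality e.hom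
    have h1 : (pullbackPushforwardAdjunction f').counit.app
        ((pullback g').obj (CohB1.tensorMod J (CohB1.tensorPow L n₀))) =
        ((pushforward f' ⋙ pullback f').map e.hom ≫
          (pullbackPushforwardAdjunction f').counit.app _) ≫ e.inv := by
      rw [hnat, Category.assoc]
      simp
    rw [h1]
    infer_instance
  have h2 := epi_pullback_counit h (CohB1.tensorMod J (CohB1.tensorPow L n₀)) hepi'
  haveI : ((pushforward f).obj (CohB1.tensorMod J (CohB1.tensorPow L n₀))).IsQuasicoherent :=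
    isQuasicoherent_pushforward _ f
  haveI : ((pullback f).obj ((pushforward f).obj
      (CohB1.tensorMod J (CohB1.tensorPow L n₀)))).IsQuasicoherent :=
    Groth.Agent.Lib.Helper16.FlatPull.isQuasicoherent_pullback f _
  exact epi_of_epi_pullback g'
    (F := (pullback f).obj ((pushforward f).obj (CohB1.tensorMod J (CohB1.tensorPow L n₀))))
    (G := CohB1.tensorMod J (CohB1.tensorPow L n₀))
    ((pullbackPushforwardAdjunction f).counit.app (CohB1.tensorMod J (CohB1.tensorPow L n₀))) h2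

end AffineBase



section General

variable {X Y X' Y' : Scheme.{u}} {f : X ⟶ Y} {g : Y' ⟶ Y} {g' : X' ⟶ X} {f' : X' ⟶ Y'}

theorem relAmple_of_iso {X Y : Scheme.{u}} (f : X ⟶ Y) {L L' : X.Modules} (e : L ≅ L')
    (h : RelAmple.IsRelAmple f L) : RelAmple.IsRelAmple f L' :=
  ⟨h.1, fun V => isAmple_of_iso ((Scheme.Modules.restrictFunctor _).mapIso e) (h.2 V)⟩

/-- pulling back a restriction along a restricted morphism. -/
noncomputable def pullbackResLEIso (g' : X' ⟶ X) (L : X.Modules) (UX : X.Opens) (UY : X'.Opens)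
    (e : UY ≤ g' ⁻¹ᵁ UX) :
    (pullback (g'.resLE UX UY e)).obj (L.restrict UX.ι) ≅ ((pullback g').obj L).restrict UY.ι :=
  (pullback (g'.resLE UX UY e)).mapIso ((restrictFunctorIsoPullback UX.ι).app L) ≪≫
    (pullbackComp (g'.resLE UX UY e) UX.ι).app L ≪≫
    (pullbackCongr (Scheme.Hom.resLE_comp_ι g' e)).app L ≪≫
    (pullbackComp UY.ι g').symm.app L ≪≫
    (restrictFunctorIsoPullback UY.ι).symm.app ((pullback g').obj L)

/-- **fpqc descent of relative ampleness.** -/
theorem isRelAmple_of_isRelAmple_pullback (h : IsPullback g' f' f g)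
    [QuasiCompact g] [Flat g] [Surjective g] (L : X.Modules) (hL : PicF.IsInvertible L)
    (hL' : RelAmple.IsRelAmple f' ((pullback g').obj L)) : RelAmple.IsRelAmple f L := by
  have hf'c : QuasiCompact f' := hL'.1
  have hfpqc : (@Surjective ⊓ @Flat ⊓ @QuasiCompact : MorphismProperty Scheme.{u}) g :=
    ⟨⟨inferInstance, inferInstance⟩, inferInstance⟩
  have hfc : QuasiCompact f :=
    Groth.Agent.S0079.result.of_isPullback h.flip hfpqc hf'c
  refine ⟨hfc, fun V => ?_⟩
  have hUY : f' ⁻¹ᵁ (g ⁻¹ᵁ V.1) = g' ⁻¹ᵁ (f ⁻¹ᵁ V.1) ⊓ f' ⁻¹ᵁ (g ⁻¹ᵁ V.1) := by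
    refine le_antisymm (le_inf ?_ le_rfl) inf_le_right
    exact Groth.Agent.Lib.Helper49.AffineBaseChange.preimage_le_of_comm h.w le_rfl
  have hsqV := Scheme.Hom.isPullback_resLE h (US := V.1) (UT := g ⁻¹ᵁ V.1) (UX := f ⁻¹ᵁ V.1)
    le_rfl le_rfl hUY
  haveI : IsAffine (V.1 : Scheme.{u}) := V.2
  -- the restricted `g`
  have e1 : g.resLE V.1 (g ⁻¹ᵁ V.1) le_rfl = g ∣_ V.1 := Scheme.Hom.resLE_eq_morphismRestrict g
  haveI : QuasiCompact (g.resLE V.1 (g ⁻¹ᵁ V.1) le_rfl) := by rw [e1]; infer_instance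
  haveI : Flat (g.resLE V.1 (g ⁻¹ᵁ V.1) le_rfl) := by rw [e1]; infer_instance
  haveI : Surjective (g.resLE V.1 (g ⁻¹ᵁ V.1) le_rfl) := by
    rw [e1]
    exact MorphismProperty.of_isPullback (P := @Surjective) (isPullback_morphismRestrict g V.1).flip
      inferInstance
  -- the restricted `f'`
  have e2 : f'.resLE (g ⁻¹ᵁ V.1) (f' ⁻¹ᵁ (g ⁻¹ᵁ V.1)) le_rfl = f' ∣_ (g ⁻¹ᵁ V.1) :=
    Scheme.Hom.resLE_eq_morphismRestrict f'
  have h1 := Groth.Agent.Lib.Helper11.RelAmpleComp.relAmple_morphismRestrict f' _ hL' (g ⁻¹ᵁ V.1)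
  rw [← e2] at h1
  have h2 := relAmple_of_iso _ (pullbackResLEIso g' L (f ⁻¹ᵁ V.1) (f' ⁻¹ᵁ (g ⁻¹ᵁ V.1))
    (hUY.le.trans inf_le_left)).symm h1
  have h3 := isRelAmple_of_isRelAmple_pullback_of_isAffine hsqV (L.restrict (f ⁻¹ᵁ V.1).ι)
    (isInvertible_restrict hL _) h2
  haveI : QuasiCompact (f.resLE V.1 (f ⁻¹ᵁ V.1) le_rfl) := h3.1
  exact (Groth.Agent.S4381.result _ _).mp h3

end General

end Groth.Agent.Lib.Helper11.AmpleDescent
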