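import Mathlib
import Groth.Agent.Lib.Helper38.ShCl

/-!
# The direct image of modules along a closed immersion is fully faithful
-/

set_option autoImplicit false
universe u
open CategoryTheory Limits Opposite AlgebraicGeometry TopologicalSpace

namespace Groth.Agent.Lib.Helper11.ClosedPushFF

open Groth.Agent.Lib.Helper38.ShCl

variable {Z X : Scheme.{u}} (i : Z ⟶ X) [IsClosedImmersion i]

/-- the presheaf map on `Z` underlying a morphism `i_* A ⟶ i_* B`. -/
noncomputable def preNat {A B : Z.Modules}
    (ψ : (Scheme.Modules.pushforward i).obj A ⟶ (Scheme.Modules.pushforward i).obj B) :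
    A.presheaf ⟶ B.presheaf :=
  preimageNat i.base i.isClosedEmbedding (P := A.presheaf) (Q := B.presheaf) ψ.mapPresheaf

theorem preNat_app {A B : Z.Modules}
    (ψ : (Scheme.Modules.pushforward i).obj A ⟶ (Scheme.Modules.pushforward i).obj B)
    (V : X.Opens) : (preNat i ψ).app (op (i ⁻¹ᵁ V)) = ψ.app V := by
  have h := whiskerLeft_preimageNat i.base i.isClosedEmbedding (P := A.presheaf) (Q := B.presheaf)
    ψ.mapPresheaf
  exact congrArg (fun t => t.app (op V)) h


theorem preNat_smul {A B : Z.Modules}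
    (ψ : (Scheme.Modules.pushforward i).obj A ⟶ (Scheme.Modules.pushforward i).obj B)
    (U : Z.Opens) (r : Γ(Z, U)) (a : Γ(A, U)) :
    (preNat i ψ).app (op U) (r • a) = r • (preNat i ψ).app (op U) a := by
  refine TopCat.Sheaf.eq_of_locally_eq' ⟨B.presheaf, B.isSheaf⟩
    (fun (V : {V : X.affineOpens // i ⁻¹ᵁ V.1 ≤ U}) => i ⁻¹ᵁ V.1.1) U (fun V => homOfLE V.2) ?_ _ _
    (fun V => ?_)
  · intro z hz
    have hz' : i.base z ∈ vOf i.base i.isClosedEmbedding U := by
      rw [← Opens.mem_map (f := i.base), map_vOf]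
      exact hz
    obtain ⟨_, ⟨W, hW, rfl⟩, hzW, hWU⟩ :=
      X.isBasis_affineOpens.exists_subset_of_mem_open hz' (vOf i.base i.isClosedEmbedding U).2
    refine Opens.mem_iSup.mpr ⟨⟨⟨W, hW⟩, ?_⟩, hzW⟩
    intro y hy
    have : i.base y ∈ vOf i.base i.isClosedEmbedding U := hWU hy
    rw [← Opens.mem_map (f := i.base), map_vOf] at this
    exact this
  · obtain ⟨⟨V, hV⟩, hVU⟩ := V
    change B.presheaf.map (homOfLE hVU).op ((preNat i ψ).app (op U) (r • a)) =
      B.presheaf.map (homOfLE hVU).op (r • (preNat i ψ).app (op U) a)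
    have hnat := fun x => congr($((preNat i ψ).naturality (homOfLE hVU).op) x)
    obtain ⟨s, hs⟩ := i.app_surjective V hV (Z.presheaf.map (homOfLE hVU).op r)
    have hnat' : ∀ x : Γ(A, U), (preNat i ψ).app (op (i ⁻¹ᵁ V)) (A.presheaf.map (homOfLE hVU).op x) =
        B.presheaf.map (homOfLE hVU).op ((preNat i ψ).app (op U) x) := fun x => hnat x
    rw [← hnat', Scheme.Modules.map_smul, Scheme.Modules.map_smul, ← hnat', ← hs, preNat_app]
    exact Scheme.Modules.Hom.app_smul (M := (Scheme.Modules.pushforward i).obj A)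
      (N := (Scheme.Modules.pushforward i).obj B) ψ s
      (show Γ((Scheme.Modules.pushforward i).obj A, V) from A.presheaf.map (homOfLE hVU).op a)


/-- the preimage of a morphism `i_* A ⟶ i_* B` under `i_*`. -/
noncomputable def preimageHom {A B : Z.Modules}
    (ψ : (Scheme.Modules.pushforward i).obj A ⟶ (Scheme.Modules.pushforward i).obj B) : A ⟶ B :=
  ⟨PresheafOfModules.homMk (preNat i ψ) (fun U r a => preNat_smul i ψ U.unop r a)⟩

theorem map_preimageHom {A B : Z.Modules}
    (ψ : (Scheme.Modules.pushforward i).obj A ⟶ (Scheme.Modules.pushforward i).obj B) :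
    (Scheme.Modules.pushforward i).map (preimageHom i ψ) = ψ := by
  ext V : 1
  rw [Scheme.Modules.pushforward_map_app]
  exact preNat_app i ψ V

theorem full_pushforward : (Scheme.Modules.pushforward i).Full where
  map_surjective ψ := ⟨preimageHom i ψ, map_preimageHom i ψ⟩

theorem faithful_pushforward : (Scheme.Modules.pushforward i).Faithful where
  map_injective := by
    intro A B φ₁ φ₂ h
    ext U : 1
    have hU := map_vOf i.base i.isClosedEmbedding U
    have h1 : φ₁.app (i ⁻¹ᵁ (vOf i.base i.isClosedEmbedding U)) =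
        φ₂.app (i ⁻¹ᵁ (vOf i.base i.isClosedEmbedding U)) := by
      rw [← Scheme.Modules.pushforward_map_app, ← Scheme.Modules.pushforward_map_app, h]
    have hU' : i ⁻¹ᵁ (vOf i.base i.isClosedEmbedding U) = U := hU
    rw [hU'] at h1
    exact h1

end Groth.Agent.Lib.Helper11.ClosedPushFF
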