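import Mathlib
import Groth.Agent.Lib.Helper11.ProjFormulaRq
import Groth.Agent.Lib.Helper5.RDerExact
import Groth.Prelude.Def_ModSite2
import Groth.Prelude.Def_RDer

/-!
# Local Ext and tensoring with a finite locally free module (helper11)

* `siteTensRIso`: the prelude's `(ModSite.tensorBi X.sheaf).flip.obj N` is `tensR N`.
* `sheafHomIsoTensR`: `Hom(N, -) ≅ - ⊗ N^∨` for `N` finite locally free.
* `assocNat : (- ⊗ E) ⊗ F ≅ - ⊗ (E ⊗ F)` (natural), `sheafHomTensorIso : Hom(E ⊗ F, -) ≅ Hom(F, -) ⊗ E^∨`.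
* `extSh_tensor_dual`, `extSh_tensor_dual'`: `Ext^q(F, G) ⊗ E^∨ ≅ Ext^q(E ⊗ F, G)`.
-/

set_option autoImplicit false
set_option linter.style.haveILetI false
namespace Groth.Agent.Lib.Helper11.ExtShDual
open AlgebraicGeometry CategoryTheory TopologicalSpace Opposite Limits MonoidalCategory
open Groth.Agent.Lib.Helper45 Groth.Agent.Lib.Helper49 Groth.Agent.Lib.Helper11.GenLocus
  Groth.Agent.Lib.Helper11.TensorMap Groth.Agent.Lib.Helper11.FinFreeBasis
  Groth.Agent.Lib.Helper11.TensorFormulas Groth.Agent.Lib.Helper11.FinFreeAdj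
  Groth.Agent.Lib.Helper11.ProjFormulaRq

universe u
variable {X : Scheme.{u}}

/-- the prelude's functor `- ⊗ N` on the ringed site of `X`. -/
noncomputable abbrev siteTensR (N : X.Modules) : X.Modules ⥤ X.Modules :=
  (ModSite.tensorBi X.sheaf).flip.obj N

theorem siteTensR_obj (N A : X.Modules) : (siteTensR N).obj A = CohB1.tensorMod A N := rfl

theorem siteTensR_map (N : X.Modules) {A B : X.Modules} (u : A ⟶ B) :
    (siteTensR N).map u = tensorModMap u (𝟙 N) := by
  change (ModSite.sheafify X.sheaf).map _ = (CohB1.sheafifyMod X).map _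
  unfold tensorPreMap
  congr 1

/-- the prelude's `- ⊗ N` is our `tensR N`. -/
noncomputable def siteTensRIso (N : X.Modules) : siteTensR N ≅ tensR N :=
  NatIso.ofComponents (fun A => Iso.refl _) (fun {A B} u => by
    rw [siteTensR_map]
    exact (Category.comp_id _).trans (Category.id_comp _).symm)


/-- for finite locally free `N`, the internal hom `Hom(N, -)` is `- ⊗ N^∨`. -/
noncomputable def sheafHomIsoTensR {N : X.Modules} (hN : FlatMod.IsFinLocFree N)
    [ModSite.HasSheafHom (O := X.sheaf) N] :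
    ModSite.sheafHom (O := X.sheaf) N ≅ tensR (RefHull.dual N) :=
  Adjunction.rightAdjointUniq
    ((ModSite.sheafHomAdj (O := X.sheaf) N).ofNatIsoLeft (siteTensRIso N))
    (dualPairOfFinLocFree hN).symm.adj

/-- morphisms out of `(A ⊗ P) ⊗ Q` are determined by their values on pure tensors, if `P` has local
bases. -/
theorem hom_ext_tm2' {P Q A C : X.Modules}
    (hP : ∀ x : X, ∃ (V : X.Opens) (n : ℕ) (e : Fin n → Γ(P, V)), x ∈ V ∧ IsBasisFam P V e)
    (φ ψ : CohB1.tensorMod (CohB1.tensorMod A P) Q ⟶ C)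
    (h : ∀ (W : X.Opens) (a : Γ(A, W)) (p : Γ(P, W)) (q : Γ(Q, W)),
      φ.app W (tm _ Q W (tm A P W a p) q) = ψ.app W (tm _ Q W (tm A P W a p) q)) : φ = ψ := by
  apply hom_ext_tm_local
  intro x
  obtain ⟨V, n, e, hxV, hV⟩ := hP x
  refine ⟨V, hxV, fun W hW y q => ?_⟩
  obtain ⟨a, ha⟩ := tmFam_surjective A P V e hV W hW y
  rw [← ha, tm_sum_left', map_sum, map_sum]
  exact Finset.sum_congr rfl fun i _ => h W (a i) _ q

/-- associativity as a natural isomorphism `(- ⊗ E) ⊗ F ≅ - ⊗ (E ⊗ F)`. -/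
noncomputable def assocNat {E : X.Modules} (hE : FlatMod.IsFinLocFree E) (F : X.Modules) :
    tensR E ⋙ tensR F ≅ tensR (CohB1.tensorMod E F) :=
  NatIso.ofComponents (fun A => tensorModAssoc A E F) (fun {A B} u => by
    change tensorModMap (tensorModMap u (𝟙 E)) (𝟙 F) ≫ (tensorModAssoc B E F).hom =
      (tensorModAssoc A E F).hom ≫ tensorModMap u (𝟙 (CohB1.tensorMod E F))
    apply hom_ext_tm2' (fun x => exists_isBasisFam_of_isFinLocFree hE x)
    intro W a p q
    rw [DualPair.comp_app_apply, DualPair.comp_app_apply, tensorModMap_tm, tensorModMap_tm,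
      tensorModAssoc_hom_tm, tensorModAssoc_hom_tm, tensorModMap_tm]
    rfl)


/-- `tensR N`, typed as an endofunctor of the prelude's `ModSite.Mod X.sheaf`. -/
noncomputable def tensRS (N : X.Modules) : ModSite.Mod X.sheaf ⥤ ModSite.Mod X.sheaf := tensR N

theorem additive_tensRS {P Q : X.Modules} (D : DualPair P Q) : (tensRS P).Additive :=
  additive_tensR D

theorem preservesFiniteLimits_tensRS {P Q : X.Modules} (D : DualPair P Q) :
    PreservesFiniteLimits (tensRS P) := by
  haveI : PreservesLimitsOfSize.{0, 0} (tensRS P) := preservesLimits_tensR D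
  infer_instance

theorem preservesFiniteColimits_tensRS {P Q : X.Modules} (D : DualPair P Q) :
    PreservesFiniteColimits (tensRS P) := by
  haveI : PreservesColimitsOfSize.{0, 0} (tensRS P) := preservesColimits_tensR D
  infer_instance

/-- `Hom(E ⊗ F, -) ≅ Hom(F, -) ⊗ E^∨` for `E` finite locally free. -/
noncomputable def sheafHomTensorIso {E : X.Modules} (hE : FlatMod.IsFinLocFree E) (F : X.Modules)
    [ModSite.HasSheafHom (O := X.sheaf) F]
    [ModSite.HasSheafHom (O := X.sheaf) (CohB1.tensorMod E F)] :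
    ModSite.sheafHom (O := X.sheaf) (CohB1.tensorMod E F) ≅
      ModSite.sheafHom (O := X.sheaf) F ⋙ tensRS (RefHull.dual E) :=
  Adjunction.rightAdjointUniq
    ((ModSite.sheafHomAdj (O := X.sheaf) (CohB1.tensorMod E F)).ofNatIsoLeft
      (siteTensRIso (CohB1.tensorMod E F) ≪≫ (assocNat hE F).symm))
    (((dualPairOfFinLocFree hE).symm.adj).comp
      ((ModSite.sheafHomAdj (O := X.sheaf) F).ofNatIsoLeft (siteTensRIso F)))

theorem extSh_tensor_dual {E : X.Modules} (hE : FlatMod.IsFinLocFree E) (F G : X.Modules)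
    [ModSite.HasSheafHom (O := X.sheaf) E] [ModSite.HasSheafHom (O := X.sheaf) F]
    [ModSite.HasSheafHom (O := X.sheaf) (CohB1.tensorMod E F)]
    [HasInjectiveResolutions (ModSite.Mod X.sheaf)] (q : ℕ) :
    Nonempty (CohB1.tensorMod ((ModSite.extSh (O := X.sheaf) F q).obj G)
        ((ModSite.sheafHom (O := X.sheaf) E).obj (Coh.structureModule X)) ≅
      (ModSite.extSh (O := X.sheaf) (CohB1.tensorMod E F) q).obj G) := by
  let D := (dualPairOfFinLocFree hE).symm
  haveI := preservesFiniteLimits_tensRS D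
  haveI := preservesFiniteColimits_tensRS D
  haveI := additive_tensRS D
  haveI : (tensRS (RefHull.dual E)).PreservesHomology :=
    Groth.Agent.Lib.Helper5.preservesHomology_of_exact _
  let i1 := (RDer.rightDerivedIso (sheafHomTensorIso hE F) q).app G
  let i2 := Groth.Agent.Lib.Helper5.rightDerivedCompExactIso
    (ModSite.sheafHom (O := X.sheaf) F) (tensRS (RefHull.dual E)) G q
  let i3 : (ModSite.sheafHom (O := X.sheaf) E).obj (Coh.structureModule X) ≅ RefHull.dual E :=
    (sheafHomIsoTensR hE).app (Coh.structureModule X) ≪≫ unitTensorIso (RefHull.dual E)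
  exact ⟨tensorModCongr (Iso.refl _) i3 ≪≫ i2.symm ≪≫ i1.symm⟩


/-- isomorphic modules have isomorphic internal hom functors. -/
noncomputable def sheafHomCongr {M M' : X.Modules} (e : M ≅ M')
    [ModSite.HasSheafHom (O := X.sheaf) M] [ModSite.HasSheafHom (O := X.sheaf) M'] :
    ModSite.sheafHom (O := X.sheaf) M ≅ ModSite.sheafHom (O := X.sheaf) M' :=
  conjugateIsoEquiv (ModSite.sheafHomAdj (O := X.sheaf) M) (ModSite.sheafHomAdj (O := X.sheaf) M')
    ((ModSite.tensorBi X.sheaf).flip.mapIso e.symm)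

theorem extSh_tensor_dual' {L : X.Modules} (hL : FlatMod.IsFinLocFree L) (F G : X.Modules) (i : ℕ)
    [ModSite.HasSheafHom (O := X.sheaf) F] [ModSite.HasSheafHom (O := X.sheaf) L]
    [ModSite.HasSheafHom (O := X.sheaf) (CohB1.tensorMod F L)]
    [HasInjectiveResolutions (ModSite.Mod X.sheaf)] :
    Nonempty ((ModSite.extSh (O := X.sheaf) (CohB1.tensorMod F L) i).obj G ≅
      CohB1.tensorMod ((ModSite.extSh (O := X.sheaf) F i).obj G)
        ((ModSite.sheafHom (O := X.sheaf) L).obj (Coh.structureModule X))) := by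
  haveI : ModSite.HasSheafHom (O := X.sheaf) (CohB1.tensorMod L F) :=
    Functor.isLeftAdjoint_of_iso ((ModSite.tensorBi X.sheaf).flip.mapIso (tensorModBraid F L))
  obtain ⟨e⟩ := extSh_tensor_dual hL F G i
  exact ⟨(RDer.rightDerivedIso (sheafHomCongr (tensorModBraid F L)) i).app G ≪≫ e.symm⟩

end Groth.Agent.Lib.Helper11.ExtShDual
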