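import Mathlib
import Groth.Agent.Lib.Helper11.SingleRowSS

/-!
# Vanishing of an abutment from vanishing of a diagonal of the second page (helper11)
-/

set_option autoImplicit false
universe v u
open CategoryTheory CategoryTheory.Limits
open scoped ZeroObject

namespace Groth.Agent.Lib.Helper11.DiagZeroSS

variable {C : Type u} [Category.{v} C] [Abelian C]

open Groth.Agent.Lib.Helper11.SingleRowSS

variable (E : E₂CohomologicalSpectralSequence C)

theorem page_isZero_of_two (pq : ℤ × ℤ) (hz : IsZero ((E.page 2 le_rfl).X pq)) :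
    ∀ (r : ℤ) (hr : 2 ≤ r), IsZero ((E.page r hr).X pq) := by
  intro r hr
  induction r, hr using Int.leInduction with
  | base => exact hz
  | succ r hr ih =>
    exact IsZero.of_iso (ShortComplex.isZero_homology_of_isZero_X₂ _ ih)
      (E.iso r (r + 1) pq rfl hr).symm

/-- if all `E₂`-terms on the diagonal `p + q = n` vanish, so does the abutment `H n`. -/
theorem abutment_isZero_of_diagonal {H : ℤ → C} (a : SpSeq.Abutment E H) (n : ℤ)
    (hfin : a.IsFinite n)
    (hz : ∀ p q : ℤ, p + q = n → IsZero ((E.page 2 le_rfl).X (p, q))) : IsZero (H n) := by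
  have key : ∀ (p m : ℤ) (_ : p + (n - p) = m),
      IsZero (SpSeq.grPiece (a.fil m) (a.anti m) p) := by
    intro p m hm
    subst hm
    exact IsZero.of_iso (page_isZero_of_two E (p, n - p) (hz p (n - p) (by ring)) _ _)
      (a.β (p, n - p)).symm
  have hgr : ∀ p, IsZero ((a.filObj n).gr p) := fun p => key p n (by ring)
  obtain ⟨e⟩ := filObj_iso_gr (a.filObj n) hfin 0 (fun p _ => hgr p)
  exact IsZero.of_iso (hgr 0) e

end Groth.Agent.Lib.Helper11.DiagZeroSS
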