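import Mathlib
import Groth.Agent.Lib.Helper33.DeltaPrecomp
import Groth.Agent.Lib.Helper83.ModCoh
import Groth.Prelude.Def_KLin
import Groth.Prelude.Def_Coh

/-!
# `Ext^n_R(R, -) ≅ H^n((-)_ab)` as functors, and `A`-linearity on schemes over `Spec A` (helper11)

* `nonempty_extUnit_natIso`: a natural isomorphism (both sides are universal delta-functors:
  helper33's `ExtDelta`/`DeltaPrecomp`, helper83's acyclicity of injective modules).
* `extUnit_linearEquiv`: `Ext^n(O_X, M) ≃ₗ[A] H^n(X, M)` for `X` over `Spec A` (linearity follows from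
  naturality, because `a •` is induced on both sides by the endomorphism `a • 𝟙 M`).
-/

set_option autoImplicit false
set_option linter.style.haveILetI false
universe u
open CategoryTheory Limits Opposite Abelian DeltaF

namespace Groth.Agent.Lib.Helper11.ExtUnitLinear

open Groth.Agent.Lib.Helper33.ExtDelta Groth.Agent.Lib.Helper83.ModCoh Groth.Agent.Lib.Helper83.ModCech

variable {C : Type u} [SmallCategory C] {J : GrothendieckTopology C} (R : Sheaf J RingCat.{u})

/-- the constant sheaf `ℤ`. -/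
noncomputable abbrev ZZ (J : GrothendieckTopology C) : Sheaf J AddCommGrpCat.{u} :=
  (constantSheaf J AddCommGrpCat.{u}).obj (AddCommGrpCat.of (ULift.{u} ℤ))

variable [HasExt.{u} (SheafOfModules.{u} R)]

/-- `Hom_R(R, -) ≅ Hom_ℤ(ℤ, (-)_ab)` -/
noncomputable def coyonedaUnitIso :
    preadditiveCoyoneda.obj (op (SheafOfModules.unit R)) ≅
      SheafOfModules.toSheaf R ⋙ preadditiveCoyoneda.obj (op (ZZ J)) :=
  (preadditiveCoyoneda.mapIso (unitIso R).op) ≪≫ homIso R (N₁ C) ≪≫
    Functor.isoWhiskerLeft (SheafOfModules.toSheaf R)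
      (preadditiveCoyoneda.mapIso (constIso J).symm.op)

/-- the delta-functor `Ext^•_R(R, -)`. -/
noncomputable abbrev T1 : CohDeltaFunctor (SheafOfModules.{u} R) AddCommGrpCat.{u} ℕ :=
  extDelta.{u} (SheafOfModules.unit R)

/-- the delta-functor `H^•((-)_ab)`. -/
noncomputable abbrev T2 : CohDeltaFunctor (SheafOfModules.{u} R) AddCommGrpCat.{u} ℕ :=
  precompDelta (SheafOfModules.toSheaf R) (extDelta.{u} (ZZ J))

theorem T1_isUniversal : (T1 R).IsUniversal := extDelta_isUniversal _

theorem T2_isUniversal : (T2 R).IsUniversal := by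
  apply Groth.Agent.S6773.result
  rw [Groth.Agent.S14349.result]
  intro n I hI
  obtain ⟨e⟩ := nonempty_ext_unit_addEquiv_H R I (n + 1)
  have h1 : Subsingleton (Ext (SheafOfModules.unit R) I (n + 1)) :=
    subsingleton_of_forall_eq 0 (fun x => Ext.eq_zero_of_injective x)
  have h2 : Subsingleton (Sheaf.H.{u} ((SheafOfModules.toSheaf R).obj I) (n + 1)) :=
    e.symm.injective.subsingleton
  exact AddCommGrpCat.isZero_of_subsingleton
    (AddCommGrpCat.of (Ext (ZZ J) ((SheafOfModules.toSheaf R).obj I) (n + 1)))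

/-- the degree zero comparison. -/
noncomputable def e₀ : (T1 R).F 0 ≅ (T2 R).F 0 :=
  (coyonedaIsoExtZero (SheafOfModules.unit R)).symm ≪≫ coyonedaUnitIso R ≪≫
    Functor.isoWhiskerLeft (SheafOfModules.toSheaf R) (coyonedaIsoExtZero (ZZ J))

/-- **`Ext^n_R(R, -) ≅ H^n((-)_ab)` as functors.** -/
theorem nonempty_extUnit_natIso (n : ℕ) : Nonempty ((T1 R).F n ≅ (T2 R).F n) :=
  nonempty_iso_of_isUniversal (T1 R) (T2 R) (T1_isUniversal R) (T2_isUniversal R) (e₀ R) n

section Sch

open AlgebraicGeometry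

variable (A : Type u) [CommRing A] (X : Scheme.{u}) [X.Over (Spec (CommRingCat.of A))]

theorem toSheaf_map_smul_id (M : X.Modules) (a : A) :
    (SheafOfModules.toSheaf X.ringCatSheaf).map (a • 𝟙 M) =
      Coh.smulAb M (Coh.toGlobal (X ↘ Spec (CommRingCat.of A)) a) := by
  rw [KLin.smul_id]
  rfl

variable [HasExt.{u} X.Modules]

/-- **`Ext^n(O_X, M) ≃ₗ[A] H^n(X, M)`**, `A`-linearly. -/
theorem extUnit_linearEquiv (M : X.Modules) (n : ℕ) :
    Nonempty (Ext (Coh.structureModule X) M n ≃ₗ[A] Coh.HH X M n) := by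
  haveI hext : HasExt.{u} (SheafOfModules.{u} X.ringCatSheaf) := ‹HasExt.{u} X.Modules›
  obtain ⟨φ⟩ := nonempty_extUnit_natIso X.ringCatSheaf n
  let e : Ext (Coh.structureModule X) M n ≃+ Coh.HH X M n :=
    (φ.app M).addCommGroupIsoToAddEquiv
  refine ⟨{ e with map_smul' := fun a x => ?_ }⟩
  have hnat := φ.hom.naturality (a • 𝟙 M)
  have h1 := ConcreteCategory.congr_hom hnat x
  change e (a • x) = a • e x
  rw [Ext.smul_eq_comp_mk₀]
  refine h1.trans ?_
  change Sheaf.H.map ((SheafOfModules.toSheaf X.ringCatSheaf).map (a • 𝟙 M)) n (e x) = _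
  rw [toSheaf_map_smul_id]
  rfl

end Sch

end Groth.Agent.Lib.Helper11.ExtUnitLinear
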