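import Mathlib
import Groth.Agent.Lib.Helper11.ExtUnitLinear
import Groth.Agent.Lib.Helper11.ExtFinLocFree
import Groth.Agent.Lib.Helper11.TensorBasis

/-!
# `Ext^p(F, B) ≃ₗ[A] H^p(X, Hom(F, B))`, linearly, for `F` finite locally free (helper11)

* `extLinearEquivOfIsoLeft`, `extLinearEquivOfIsoRight`, `extAdjLinearEquiv`: linear versions of the
  standard `Ext` equivalences in a linear abelian category.
* `linear_tensR`: `- ⊗ N` is an `A`-linear functor on modules over a scheme over `Spec A`.
* `ext_finLocFree_linear`.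
-/

set_option autoImplicit false
set_option linter.style.haveILetI false
universe u
open CategoryTheory Limits Opposite Abelian AlgebraicGeometry

namespace Groth.Agent.Lib.Helper11.ExtFinLocFreeLinear

open Groth.Agent.Lib.Helper11.ExtFinLocFree Groth.Agent.Lib.Helper11.FinFreeAdj
  Groth.Agent.Lib.Helper11.FinFreeDual Groth.Agent.Lib.Helper11.TensorFormulas
  Groth.Agent.Lib.Helper11.TensorMap Groth.Agent.Lib.Helper11.ProjFormulaRq
  Groth.Agent.Lib.Helper11.GenLocus Groth.Agent.Lib.Helper11.ExtUnitLinear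

section General

universe w v v' u₁ u₂

variable {k : Type*} [CommRing k] {C : Type u₁} [Category.{v} C] [Abelian C] [Linear k C]
  [HasExt.{w} C]

/-- transport of `Ext` along an isomorphism in the first variable, linearly. -/
noncomputable def extLinearEquivOfIsoLeft {X X' : C} (e : X ≅ X') (Y : C) (n : ℕ) :
    Ext X Y n ≃ₗ[k] Ext X' Y n :=
  { Groth.Agent.Lib.Helper83.ModCoh.extAddEquivOfIsoLeft e Y n with
    map_smul' := fun a x => Ext.comp_smul (Ext.mk₀ e.inv) x (zero_add n) a }

/-- transport of `Ext` along an isomorphism in the second variable, linearly. -/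
noncomputable def extLinearEquivOfIsoRight (Z : C) {Y Y' : C} (e : Y ≅ Y') (n : ℕ) :
    Ext Z Y n ≃ₗ[k] Ext Z Y' n :=
  { Groth.Agent.Lib.Helper11.ExtFinLocFree.extAddEquivOfIsoRight Z e n with
    map_smul' := fun a x => Ext.smul_comp x (Ext.mk₀ e.hom) (add_zero n) a }

variable [EnoughInjectives C]
  {D : Type u₂} [Category.{v'} D] [Abelian D] [Linear k D] [HasExt.{w} D] [EnoughInjectives D]
  {L : C ⥤ D} {R : D ⥤ C} (adj : L ⊣ R)
  [L.Additive] [PreservesFiniteLimits L] [PreservesFiniteColimits L]
  [R.Additive] [PreservesFiniteLimits R] [PreservesFiniteColimits R] [R.Linear k]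

/-- the adjunction isomorphism on `Ext` is linear if the right adjoint is. -/
noncomputable def extAdjLinearEquiv (A : C) (B : D) (n : ℕ) :
    Ext (L.obj A) B n ≃ₗ[k] Ext A (R.obj B) n :=
  { Groth.Agent.Lib.Helper5.extAdjAddEquiv adj A B n with
    map_smul' := fun a e => by
      change (Ext.mk₀ (adj.unit.app A)).comp ((a • e).mapExactFunctor R) (zero_add n) =
        a • (Ext.mk₀ (adj.unit.app A)).comp (e.mapExactFunctor R) (zero_add n)
      rw [Ext.smul_eq_comp_mk₀, Ext.mapExactFunctor_comp, Ext.mapExactFunctor_mk₀,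
        Functor.map_smul, CategoryTheory.Functor.map_id, ← Ext.smul_eq_comp_mk₀, Ext.comp_smul] }

end General

section Sch

variable (A : Type u) [CommRing A] {X : Scheme.{u}} [X.Over (Spec (CommRingCat.of A))]

instance linear_tensR (N : X.Modules) : (tensR N).Linear A := by
  refine (Functor.linear_iff A _).mpr fun M a => ?_
  rw [tensR_map]
  apply hom_ext_tm
  intro W m n
  have h1 := KLin.smul_app_apply a (𝟙 M) W m
  have h2 := KLin.smul_app_apply a (𝟙 (CohB1.tensorMod M N)) W (tm M N W m n)
  rw [tensorModMap_tm, h1]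
  refine Eq.trans ?_ h2.symm
  exact tm_smul_left M N W _ m n

variable [HasExt.{u} X.Modules]

/-- **`Ext^p(F, B) ≃ₗ[A] H^p(X, Hom(F, B))`** for `F` finite locally free on a scheme over `Spec A`. -/
theorem ext_finLocFree_linear (F B : X.Modules) (hF : FlatMod.IsFinLocFree F)
    [DCoh.HasSheafHom F] (p : ℕ) :
    Nonempty (Abelian.Ext F B p ≃ₗ[A] Coh.HH X ((DCoh.sheafHom F).obj B) p) := by
  let D := dualPairOfFinLocFree hF
  haveI := preservesLimits_tensR D
  haveI := preservesColimits_tensR D
  haveI := additive_tensR D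
  haveI := preservesLimits_tensR D.symm
  haveI := preservesColimits_tensR D.symm
  haveI := additive_tensR D.symm
  let e1 : Ext F B p ≃ₗ[A] Ext ((tensR F).obj (Coh.structureModule X)) B p :=
    extLinearEquivOfIsoLeft (unitTensorIso F).symm B p
  let e2 : Ext ((tensR F).obj (Coh.structureModule X)) B p ≃ₗ[A]
      Ext (Coh.structureModule X) ((tensR (RefHull.dual F)).obj B) p :=
    extAdjLinearEquiv D.symm.adj (Coh.structureModule X) B p
  let e3 : Ext (Coh.structureModule X) ((tensR (RefHull.dual F)).obj B) p ≃ₗ[A]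
      Ext (Coh.structureModule X) ((DCoh.sheafHom F).obj B) p :=
    extLinearEquivOfIsoRight _ ((dcohSheafHomIso hF).symm.app B) p
  obtain ⟨e4⟩ := extUnit_linearEquiv A X ((DCoh.sheafHom F).obj B) p
  exact ⟨e1.trans (e2.trans (e3.trans e4))⟩

end Sch

end Groth.Agent.Lib.Helper11.ExtFinLocFreeLinear
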