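import Mathlib
import Groth.Agent.Lib.Helper11.ExtFinLocFree
import Groth.Agent.Lib.Helper11.InvDual

/-!
# `Ext^p(L, B) ≃+ H^p(X, B ⊗ N)` for an invertible module `L` with tensor inverse `N` (helper11)

* `isFinLocFree_of_isInvertible`.
* `ext_addEquiv_HH_of_tensor_iso`, `hom_addEquiv_HH_of_tensor_iso`, `dualIsoOfTensorIso`.
-/

set_option autoImplicit false
set_option linter.style.haveILetI false
universe u
open CategoryTheory Limits Opposite AlgebraicGeometry TopologicalSpace Abelian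

namespace Groth.Agent.Lib.Helper11.ExtInvertible

open Groth.Agent.Lib.Helper11.ExtFinLocFree Groth.Agent.Lib.Helper11.InvDual
  Groth.Agent.Lib.Helper11.FinFreeAdj Groth.Agent.Lib.Helper11.FinFreeDual
  Groth.Agent.Lib.Helper11.TensorFormulas Groth.Agent.Lib.Helper11.TensorMap
  Groth.Agent.Lib.Helper11.ProjFormulaRq Groth.Agent.Lib.Helper11.GenLocus

variable {X : Scheme.{u}}

theorem isFinLocFree_of_isInvertible {L : X.Modules} (hL : PicF.IsInvertible L) :
    FlatMod.IsFinLocFree L := fun x => by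
  obtain ⟨U, hxU, ⟨e⟩⟩ := hL x
  exact ⟨U, 1, hxU,
    ⟨e ≪≫ (Limits.coproductUniqueIso (fun _ : Fin 1 => Coh.structureModule _)).symm⟩⟩

/-- `Ext^p(L, B) ≃+ H^p(X, B ⊗ N)` when `L ⊗ N ≅ O_X`, `L` invertible. -/
theorem ext_addEquiv_HH_of_tensor_iso [HasExt.{u} X.Modules] (L N B : X.Modules)
    (hL : PicF.IsInvertible L) (e : CohB1.tensorMod L N ≅ Coh.structureModule X) (p : ℕ) :
    Nonempty (Abelian.Ext L B p ≃+ Coh.HH X (CohB1.tensorMod B N) p) := by
  have hA := isFinLocFree_of_isInvertible hL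
  let D := dualPairOfFinLocFree hA
  haveI := preservesLimits_tensR D
  haveI := preservesColimits_tensR D
  haveI := additive_tensR D
  haveI := preservesLimits_tensR D.symm
  haveI := preservesColimits_tensR D.symm
  haveI := additive_tensR D.symm
  let e1 : Ext L B p ≃+ Ext ((tensR L).obj (Coh.structureModule X)) B p :=
    Groth.Agent.Lib.Helper83.ModCoh.extAddEquivOfIsoLeft (unitTensorIso L).symm B p
  let e2 : Ext ((tensR L).obj (Coh.structureModule X)) B p ≃+
      Ext (Coh.structureModule X) ((tensR (RefHull.dual L)).obj B) p :=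
    Groth.Agent.Lib.Helper5.extAdjAddEquiv D.symm.adj (Coh.structureModule X) B p
  let i : RefHull.dual L ≅ N := inverseUnique (tensorDualIso hL) e
  let e3 : Ext (Coh.structureModule X) ((tensR (RefHull.dual L)).obj B) p ≃+
      Ext (Coh.structureModule X) (CohB1.tensorMod B N) p :=
    extAddEquivOfIsoRight _ (tensorModCongr (Iso.refl B) i) p
  haveI hext : HasExt.{u} (SheafOfModules.{u} X.ringCatSheaf) := ‹HasExt.{u} X.Modules›
  obtain ⟨e4⟩ := Groth.Agent.Lib.Helper83.ModCoh.nonempty_ext_unit_addEquiv_H X.ringCatSheaf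
    (CohB1.tensorMod B N) p
  exact ⟨e1.trans (e2.trans (e3.trans e4))⟩

/-- `Hom(L, B) ≃+ H^0(X, B ⊗ N)` when `L ⊗ N ≅ O_X`, `L` invertible. -/
theorem hom_addEquiv_HH_of_tensor_iso [HasExt.{u} X.Modules] (L N B : X.Modules)
    (hL : PicF.IsInvertible L) (e : CohB1.tensorMod L N ≅ Coh.structureModule X) :
    Nonempty ((L ⟶ B) ≃+ Coh.HH X (CohB1.tensorMod B N) 0) := by
  obtain ⟨e1⟩ := ext_addEquiv_HH_of_tensor_iso L N B hL e 0
  exact ⟨Abelian.Ext.addEquiv₀.symm.trans e1⟩

/-- `N ≅ L^∨` when `L ⊗ N ≅ O_X`, `L` invertible. -/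
noncomputable def dualIsoOfTensorIso (L N : X.Modules) (hL : PicF.IsInvertible L)
    (e : CohB1.tensorMod L N ≅ Coh.structureModule X) : RefHull.dual L ≅ N :=
  inverseUnique (tensorDualIso hL) e

end Groth.Agent.Lib.Helper11.ExtInvertible
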