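import Mathlib
import Groth.Agent.Lib.Helper11.ExtShDual
import Groth.Agent.Lib.Helper11.RestrictTensor
import Groth.Agent.Lib.Helper30.ExtZeroProjS
import Groth.Agent.Lib.Helper30.RDerNat
import Groth.Agent.Lib.Helper32.OpenKInj
import Groth.Prelude.Def_CxOX

/-!
# Restriction to an open subscheme commutes with internal hom and local Ext (helper11)

* `restrictTensorIso_hom_tm`, `restrictTensorIso_hom_naturality_left`: `restrictTensorIso` on pure
  tensors and its naturality in the first variable; `tauHom`.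
* `isIso_unit`: the unit of `j_! ⊣ j^*` is an isomorphism (`j_!` is fully faithful).
* `projIso : j_!(M ⊗ F|_U) ≅ j_! M ⊗ F`, natural in `M` (projection formula for extension by zero
  from an open subscheme, deduced from helper30's site-level `projIsoP`).
* `sheafHomRestrictIso : Hom(F, -)|_U ≅ Hom(F|_U, (-)|_U)`.
* `extSh_restrict`: `Ext^i(F, G)|_U ≅ Ext^i(F|_U, G|_U)`;
  `relExtSh_restrict`: the same for the relative Ext sheaves `R^p(f_* Hom(F, -))`.
-/

set_option autoImplicit false
set_option linter.style.haveILetI false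
namespace Groth.Agent.Lib.Helper11.RestrictHom
open AlgebraicGeometry CategoryTheory TopologicalSpace Opposite Limits MonoidalCategory
open Groth.Agent.Lib.Helper45 Groth.Agent.Lib.Helper49 Groth.Agent.Lib.Helper11.GenLocus
  Groth.Agent.Lib.Helper11.TensorMap Groth.Agent.Lib.Helper11.FinFreeBasis
  Groth.Agent.Lib.Helper11.TensorFormulas Groth.Agent.Lib.Helper11.FinFreeAdj
  Groth.Agent.Lib.Helper11.ProjFormulaRq Groth.Agent.Lib.Helper11.ExtShDual
  Groth.Agent.Lib.Helper30.ModTensor

universe u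
variable {X Y : Scheme.{u}}

section formula
variable (f : X ⟶ Y) [IsOpenImmersion f] (A B : Y.Modules)

/-- `restrictTensorIso` on pure tensors. -/
theorem restrictTensorIso_hom_tm (W : X.Opens) (a : Γ(A.restrict f, W)) (b : Γ(B.restrict f, W)) :
    (restrictTensorIso f A B).hom.app W (tm (A.restrict f) (B.restrict f) W a b) =
      tm A B (f ''ᵁ W) a b := by
  have hnat := (sadj X).unit.naturality (rtPsi f A B)
  have h2 := congrArg (fun g => (g.app (op W)).hom (pt (A.restrict f) (B.restrict f) W a b)) hnat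
  have htri := (sadj X).right_triangle_components ((CohB1.tensorMod A B).restrict f)
  have h3 := congrArg (fun g => (g.app (op W)).hom (((rtPsi f A B).app (op W)).hom
    (pt (A.restrict f) (B.restrict f) W a b))) htri
  have h4 : ((rtPsi f A B).app (op W)).hom (pt (A.restrict f) (B.restrict f) W a b) =
      tm A B (f ''ᵁ W) a b := rfl
  have h5 := congrArg (fun t => (((SheafOfModules.forget X.ringCatSheaf ⋙
      PresheafOfModules.restrictScalars (𝟙 X.ringCatSheaf.obj)).map
        ((sadj X).counit.app ((CohB1.tensorMod A B).restrict f))).app (op W)).hom t) h2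
  exact h5.symm.trans (h3.trans h4)

/-- naturality of `restrictTensorIso` in the first variable. -/
theorem restrictTensorIso_hom_naturality_left {A A' : Y.Modules} (α : A ⟶ A') (B : Y.Modules) :
    tensorModMap ((Scheme.Modules.restrictFunctor f).map α) (𝟙 (B.restrict f)) ≫
        (restrictTensorIso f A' B).hom =
      (restrictTensorIso f A B).hom ≫
        (Scheme.Modules.restrictFunctor f).map (tensorModMap α (𝟙 B)) := by
  apply hom_ext_tm
  intro W a b
  rw [DualPair.comp_app_apply, DualPair.comp_app_apply, tensorModMap_tm, restrictTensorIso_hom_tm,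
    restrictTensorIso_hom_tm]
  have := tensorModMap_tm α (𝟙 B) (f ''ᵁ W) a b
  exact this.symm

end formula

section main
variable (U : X.Opens) (F : X.Modules)

/-- restriction to `U`. -/
noncomputable abbrev jres : X.Modules ⥤ (U : Scheme.{u}).Modules :=
  Scheme.Modules.restrictFunctor U.ι

/-- extension by zero from `U`. -/
noncomputable abbrev jsh : (U : Scheme.{u}).Modules ⥤ X.Modules := CxOX.extZero U.ι

/-- the adjunction `j_! ⊣ j^*`. -/
noncomputable abbrev jadj : jsh U ⊣ jres U := CxOX.extZeroAdj U.ι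

theorem isIso_unit : IsIso (jadj U).unit := by
  let t : Adjunction.Triple (jsh U) (jres U) (Scheme.Modules.pushforward U.ι) :=
    ⟨jadj U, Scheme.Modules.restrictAdjunction U.ι⟩
  exact t.isIso_unit_iff_isIso_counit.mpr inferInstance

/-- the counit of `j_! ⊣ j^*` is an isomorphism on the essential image of `j_!`. -/
theorem isIso_counit_of_iso (N : (U : Scheme.{u}).Modules) (P : X.Modules)
    (e : P ≅ (jsh U).obj N) : IsIso ((jadj U).counit.app P) := by
  haveI := isIso_unit U
  have h1 : IsIso ((jadj U).counit.app ((jsh U).obj N)) := by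
    have h := (jadj U).left_triangle_components N
    haveI : IsIso ((jsh U).map ((jadj U).unit.app N)) := inferInstance
    have h' : IsIso ((jsh U).map ((jadj U).unit.app N) ≫
        (jadj U).counit.app ((jsh U).obj N)) := by rw [h]; infer_instance
    exact IsIso.of_isIso_comp_left ((jsh U).map ((jadj U).unit.app N)) _
  have h2 := (jadj U).counit.naturality e.hom
  have h3 : (jadj U).counit.app P =
      (jres U ⋙ jsh U).map e.hom ≫ (jadj U).counit.app ((jsh U).obj N) ≫ e.inv := by
    rw [← Category.assoc, h2]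
    simp
  rw [h3]
  infer_instance

/-- `j_! M ⊗ F` lies in the essential image of `j_!` (projection formula on the localised site). -/
theorem exists_iso_jsh (M : (U : Scheme.{u}).Modules) :
    ∃ N : (U : Scheme.{u}).Modules,
      Nonempty ((siteTensR F).obj ((jsh U).obj M) ≅ (jsh U).obj N) := by
  let β := CxOX.extZeroIsoSite U
  let π := Groth.Agent.Lib.Helper30.ExtZero.projIsoP X.sheaf U F
  let e := Scheme.Modules.overEquiv U
  let T' := (ModSite.tensorBi (X.sheaf.over U)).flip.obj ((ModSite.restr X.sheaf U).obj F)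
  refine ⟨e.functor.obj (T'.obj (e.inverse.obj M)), ⟨?_⟩⟩
  exact (siteTensR F).mapIso (β.app M) ≪≫ (π.app (e.inverse.obj M)).symm ≪≫
    (ModSite.extZero X.sheaf U).mapIso (e.unitIso.app _) ≪≫ (β.app _).symm

/-- the comparison `(A|_U) ⊗ (F|_U) ⟶ (A ⊗ F)|_U` as a natural transformation. -/
noncomputable def tauHom : jres U ⋙ siteTensR (F.restrict U.ι) ⟶ siteTensR F ⋙ jres U where
  app A := (restrictTensorIso U.ι A F).hom
  naturality A A' α := by
    have h := restrictTensorIso_hom_naturality_left U.ι α F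
    have e1 : (jres U ⋙ siteTensR (F.restrict U.ι)).map α =
        tensorModMap ((Scheme.Modules.restrictFunctor U.ι).map α) (𝟙 (F.restrict U.ι)) :=
      siteTensR_map _ _
    have e2 : (siteTensR F ⋙ jres U).map α =
        (Scheme.Modules.restrictFunctor U.ι).map (tensorModMap α (𝟙 F)) :=
      congrArg (Scheme.Modules.restrictFunctor U.ι).map (siteTensR_map _ _)
    rw [e1, e2]
    exact h

instance isIso_tauHom : IsIso (tauHom U F) :=
  haveI : ∀ A, IsIso ((tauHom U F).app A) := fun A =>
    inferInstanceAs (IsIso (restrictTensorIso U.ι A F).hom)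
  NatIso.isIso_of_isIso_app _

/-- the projection formula map `j_!(M ⊗ F|_U) ⟶ j_! M ⊗ F`. -/
noncomputable def projHom : siteTensR (F.restrict U.ι) ⋙ jsh U ⟶ jsh U ⋙ siteTensR F where
  app M := (jsh U).map ((siteTensR (F.restrict U.ι)).map ((jadj U).unit.app M)) ≫
      (jsh U).map ((tauHom U F).app ((jsh U).obj M)) ≫
      (jadj U).counit.app ((siteTensR F).obj ((jsh U).obj M))
  naturality M M' m := by
    have h1 := (jadj U).unit.naturality m
    have h2 := (tauHom U F).naturality ((jsh U).map m)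
    have h3 := (jadj U).counit.naturality ((siteTensR F).map ((jsh U).map m))
    simp only [Functor.comp_map, Functor.id_map, Functor.comp_obj, Functor.id_obj] at h1 h2 h3 ⊢
    rw [← Functor.map_comp_assoc, ← Functor.map_comp, h1, Functor.map_comp, Functor.map_comp,
      Category.assoc, ← Functor.map_comp_assoc (jsh U)
        ((siteTensR (F.restrict U.ι)).map ((jres U).map ((jsh U).map m))),
      h2, Functor.map_comp, Category.assoc, h3]
    simp only [Category.assoc]

instance isIso_projHom : IsIso (projHom U F) := by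
  haveI := isIso_unit U
  haveI : ∀ M, IsIso ((projHom U F).app M) := fun M => by
    obtain ⟨N, ⟨e⟩⟩ := exists_iso_jsh U F M
    haveI := isIso_counit_of_iso U N _ e
    unfold projHom
    dsimp only
    infer_instance
  exact NatIso.isIso_of_isIso_app _

/-- projection formula for extension by zero from an open subscheme:
`j_!(M ⊗ F|_U) ≅ j_! M ⊗ F`, naturally in `M`. -/
noncomputable def projIso : siteTensR (F.restrict U.ι) ⋙ jsh U ≅ jsh U ⋙ siteTensR F :=
  asIso (projHom U F)

/-- restriction to an open subscheme commutes with the internal hom: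
`Hom(F, -)|_U ≅ Hom(F|_U, (-)|_U)`. -/
noncomputable def sheafHomRestrictIso [ModSite.HasSheafHom (O := X.sheaf) F]
    [ModSite.HasSheafHom (O := (U : Scheme.{u}).sheaf) (F.restrict U.ι)] :
    ModSite.sheafHom (O := X.sheaf) F ⋙ jres U ≅
      jres U ⋙ ModSite.sheafHom (O := (U : Scheme.{u}).sheaf) (F.restrict U.ι) :=
  conjugateIsoEquiv ((jadj U).comp (ModSite.sheafHomAdj (O := X.sheaf) F))
    ((ModSite.sheafHomAdj (O := (U : Scheme.{u}).sheaf) (F.restrict U.ι)).comp (jadj U))
    (projIso U F)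

theorem preservesMono_jsh : (jsh U).PreservesMonomorphisms := by
  haveI := Groth.Agent.Lib.Helper32.OpenKInj.preservesFiniteLimits_extZero U
  infer_instance

theorem extSh_restrict (G : X.Modules) (i : ℕ)
    [ModSite.HasSheafHom (O := X.sheaf) F] [HasInjectiveResolutions (ModSite.Mod X.sheaf)]
    [ModSite.HasSheafHom (O := (↑U : Scheme.{u}).sheaf) (F.restrict U.ι)]
    [HasInjectiveResolutions (ModSite.Mod (↑U : Scheme.{u}).sheaf)] :
    Nonempty ((Scheme.Modules.restrictFunctor U.ι).obj ((ModSite.extSh (O := X.sheaf) F i).obj G) ≅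
      (ModSite.extSh (O := (↑U : Scheme.{u}).sheaf) (F.restrict U.ι) i).obj (G.restrict U.ι)) := by
  open Groth.Agent.Lib.Helper30.RDerNat in
  have hI : HasInjectiveResolutions X.Modules := ‹HasInjectiveResolutions (ModSite.Mod X.sheaf)›
  have hIU : HasInjectiveResolutions (↑U : Scheme.{u}).Modules :=
    ‹HasInjectiveResolutions (ModSite.Mod (↑U : Scheme.{u}).sheaf)›
  let H : X.Modules ⥤ X.Modules := ModSite.sheafHom (O := X.sheaf) F
  let HU : (↑U : Scheme.{u}).Modules ⥤ (↑U : Scheme.{u}).Modules :=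
    ModSite.sheafHom (O := (↑U : Scheme.{u}).sheaf) (F.restrict U.ι)
  have hH : H.Additive := ModSite.sheafHom_additive (O := X.sheaf) F
  have hHU : HU.Additive :=
    ModSite.sheafHom_additive (O := (↑U : Scheme.{u}).sheaf) (F.restrict U.ι)
  have hmono : (jsh U).PreservesMonomorphisms := preservesMono_jsh U
  have hinj : (jres U).PreservesInjectiveObjects :=
    Functor.preservesInjectiveObjects_of_adjunction_of_preservesMonomorphisms (jadj U)
  have hadd : (jres U).Additive := inferInstance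
  have hhom : (jres U).PreservesHomology := inferInstance
  have e₁ := @rightDerivedCompExact X.Modules _ _ hI X.Modules _ _ (↑U : Scheme.{u}).Modules _ _
    H hH (jres U) hadd hhom i
  have e₃ := @exactCompRightDerived X.Modules _ _ hI (↑U : Scheme.{u}).Modules _ _ hIU
    (↑U : Scheme.{u}).Modules _ _ (jres U) hadd hhom hinj HU hHU i
  have hc1 : (H ⋙ jres U).Additive := inferInstance
  have hc2 : (jres U ⋙ HU).Additive := inferInstance
  have e₂ := @rightDerivedMapIso X.Modules _ _ hI (↑U : Scheme.{u}).Modules _ _ _ _ hc1 hc2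
    (sheafHomRestrictIso U F) i
  exact ⟨(e₁.symm ≪≫ e₂ ≪≫ e₃).app G⟩

end main

section rel
variable {Y' : Scheme.{u}}

theorem relExtSh_restrict (f : X ⟶ Y') (W : Y'.Opens) (F G : X.Modules) (p : ℕ)
    [ModSite.HasSheafHom (O := X.sheaf) F] [HasInjectiveResolutions (ModSite.Mod X.sheaf)]
    [(ModSite.sheafHom (O := X.sheaf) F ⋙ Scheme.Modules.pushforward f).Additive]
    [ModSite.HasSheafHom (O := (↑(f ⁻¹ᵁ W) : Scheme.{u}).sheaf) (F.restrict (f ⁻¹ᵁ W).ι)]
    [HasInjectiveResolutions (ModSite.Mod (↑(f ⁻¹ᵁ W) : Scheme.{u}).sheaf)]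
    [(ModSite.sheafHom (O := (↑(f ⁻¹ᵁ W) : Scheme.{u}).sheaf) (F.restrict (f ⁻¹ᵁ W).ι) ⋙
      Scheme.Modules.pushforward (f ∣_ W)).Additive] :
    Nonempty ((Scheme.Modules.restrictFunctor W.ι).obj
        (((ModSite.sheafHom (O := X.sheaf) F ⋙ Scheme.Modules.pushforward f).rightDerived p).obj G) ≅
      ((ModSite.sheafHom (O := (↑(f ⁻¹ᵁ W) : Scheme.{u}).sheaf) (F.restrict (f ⁻¹ᵁ W).ι) ⋙
        Scheme.Modules.pushforward (f ∣_ W)).rightDerived p).obj (G.restrict (f ⁻¹ᵁ W).ι)) := by
  open Groth.Agent.Lib.Helper30.RDerNat in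
  have hI : HasInjectiveResolutions X.Modules := ‹HasInjectiveResolutions (ModSite.Mod X.sheaf)›
  have hIU : HasInjectiveResolutions (↑(f ⁻¹ᵁ W) : Scheme.{u}).Modules :=
    ‹HasInjectiveResolutions (ModSite.Mod (↑(f ⁻¹ᵁ W) : Scheme.{u}).sheaf)›
  let H : X.Modules ⥤ X.Modules := ModSite.sheafHom (O := X.sheaf) F
  let HU : (↑(f ⁻¹ᵁ W) : Scheme.{u}).Modules ⥤ (↑(f ⁻¹ᵁ W) : Scheme.{u}).Modules :=
    ModSite.sheafHom (O := (↑(f ⁻¹ᵁ W) : Scheme.{u}).sheaf) (F.restrict (f ⁻¹ᵁ W).ι)
  let Φ : X.Modules ⥤ Y'.Modules := H ⋙ Scheme.Modules.pushforward f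
  let Φ' : (↑(f ⁻¹ᵁ W) : Scheme.{u}).Modules ⥤ (↑W : Scheme.{u}).Modules :=
    HU ⋙ Scheme.Modules.pushforward (f ∣_ W)
  have hΦ : Φ.Additive :=
    ‹(ModSite.sheafHom (O := X.sheaf) F ⋙ Scheme.Modules.pushforward f).Additive›
  have hΦ' : Φ'.Additive :=
    ‹(ModSite.sheafHom (O := (↑(f ⁻¹ᵁ W) : Scheme.{u}).sheaf) (F.restrict (f ⁻¹ᵁ W).ι) ⋙
      Scheme.Modules.pushforward (f ∣_ W)).Additive›
  have hmono : (jsh (f ⁻¹ᵁ W)).PreservesMonomorphisms := preservesMono_jsh (f ⁻¹ᵁ W)
  have hinj : (jres (f ⁻¹ᵁ W)).PreservesInjectiveObjects :=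
    Functor.preservesInjectiveObjects_of_adjunction_of_preservesMonomorphisms (jadj (f ⁻¹ᵁ W))
  have hadd : (jres (f ⁻¹ᵁ W)).Additive := inferInstance
  have hhom : (jres (f ⁻¹ᵁ W)).PreservesHomology := inferInstance
  have haddW : (jres W).Additive := inferInstance
  have hhomW : (jres W).PreservesHomology := inferInstance
  let φ : Φ ⋙ jres W ≅ jres (f ⁻¹ᵁ W) ⋙ Φ' :=
    Functor.associator _ _ _ ≪≫
      Functor.isoWhiskerLeft H (Groth.Agent.Lib.Helper32.OpenKInj.pushforwardRestrictIso f W) ≪≫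
      (Functor.associator _ _ _).symm ≪≫
      Functor.isoWhiskerRight (sheafHomRestrictIso (f ⁻¹ᵁ W) F) _ ≪≫
      Functor.associator _ _ _
  have e₁ := @rightDerivedCompExact X.Modules _ _ hI Y'.Modules _ _ (↑W : Scheme.{u}).Modules _ _
    Φ hΦ (jres W) haddW hhomW p
  have e₃ := @exactCompRightDerived X.Modules _ _ hI (↑(f ⁻¹ᵁ W) : Scheme.{u}).Modules _ _ hIU
    (↑W : Scheme.{u}).Modules _ _ (jres (f ⁻¹ᵁ W)) hadd hhom hinj Φ' hΦ' p
  have hc1 : (Φ ⋙ jres W).Additive := inferInstance
  have hc2 : (jres (f ⁻¹ᵁ W) ⋙ Φ').Additive := inferInstance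
  have e₂ := @rightDerivedMapIso X.Modules _ _ hI (↑W : Scheme.{u}).Modules _ _ _ _ hc1 hc2 φ p
  exact ⟨(e₁.symm ≪≫ e₂ ≪≫ e₃).app G⟩

end rel

end Groth.Agent.Lib.Helper11.RestrictHom
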