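import Mathlib
import Groth.Agent.Lib.Helper11.GlobalGen
import Groth.Agent.Lib.Helper1.SupportClosed

/-! Helper library (helper11): spaces of Krull dimension `≤ 0` (`finite_of_dim_le_zero`,
`t1Space_of_dim_le_zero`); extension by zero of sections of a module near an isolated closed point
of its support (`exists_extension_of_inter_support`); a coherent module with support of dimension
`≤ 0` on a Noetherian scheme is globally generated. -/

set_option autoImplicit false
universe u
open AlgebraicGeometry CategoryTheory Limits TopologicalSpace Opposite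

namespace Groth.Agent.Lib.Helper11.GenLocus
open Groth.Agent.Lib.Helper45 Groth.Agent.Lib.Helper49

/-- in a space of dimension `≤ 0`, irreducible closed subsets are singletons. -/
theorem subsingleton_of_isIrreducible_of_dim_le_zero {T : Type*} [TopologicalSpace T] [T0Space T]
    (h : topologicalKrullDim T ≤ 0) (Z : Set T) (hZ : IsIrreducible Z) (hZc : IsClosed Z) :
    Z.Subsingleton := by
  have hmin := Order.krullDim_nonpos_iff_forall_isMin.mp h
  have key : ∀ x ∈ Z, Z ⊆ closure {x} := fun x hx => by
    let Z₁ : IrreducibleCloseds T := ⟨Z, hZ, hZc⟩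
    let Z₀ : IrreducibleCloseds T := ⟨closure {x}, isIrreducible_singleton.closure, isClosed_closure⟩
    have hle : Z₀ ≤ Z₁ := fun y hy => (hZc.closure_subset_iff.mpr (Set.singleton_subset_iff.mpr hx)) hy
    exact hmin Z₁ hle
  intro x hx y hy
  have h1 : y ∈ closure {x} := key x hx hy
  have h2 : x ∈ closure {y} := key y hy hx
  exact (specializes_iff_mem_closure.mpr h1).antisymm (specializes_iff_mem_closure.mpr h2) |>.eq

theorem finite_of_dim_le_zero {T : Type*} [TopologicalSpace T] [T0Space T] [NoetherianSpace T]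
    (h : topologicalKrullDim T ≤ 0) : Finite T := by
  have hfin := NoetherianSpace.finite_irreducibleComponents (α := T)
  have hsub : ∀ Z ∈ irreducibleComponents T, Z.Subsingleton := fun Z hZ =>
    subsingleton_of_isIrreducible_of_dim_le_zero h Z hZ.1 (isClosed_of_mem_irreducibleComponents Z hZ)
  have huniv : (Set.univ : Set T).Finite := by
    rw [← sUnion_irreducibleComponents]
    exact hfin.sUnion fun Z hZ => (hsub Z hZ).finite
  exact Set.finite_univ_iff.mp huniv

theorem t1Space_of_dim_le_zero {T : Type*} [TopologicalSpace T] [T0Space T]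
    (h : topologicalKrullDim T ≤ 0) : T1Space T := by
  refine ⟨fun x => ?_⟩
  have hs := subsingleton_of_isIrreducible_of_dim_le_zero h (closure {x})
    isIrreducible_singleton.closure isClosed_closure
  have : closure {x} = {x} := by
    apply Set.Subset.antisymm
    · intro y hy
      exact hs hy (subset_closure rfl)
    · exact subset_closure
  rw [← this]; exact isClosed_closure

variable {X : Scheme.{u}}

/-- a section over an open missing the support is zero. -/
theorem eq_zero_of_disjoint_support (F : X.Modules) (O : X.Opens)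
    (h : ∀ y ∈ O, y ∉ CohB1.support F) (b : Γ(F, O)) : b = 0 := by
  apply TopCat.Presheaf.section_ext ⟨F.presheaf, F.isSheaf⟩ O
  intro y hy
  have : Subsingleton (F.presheaf.stalk y) := not_not.mp (h y hy)
  exact Subsingleton.elim _ _

/-- extension by zero: a section of `F` over `W`, where `W ∩ Supp F ⊆ {x}` with `x` a closed
point, extends to a global section. -/
theorem exists_extension_of_inter_support (F : X.Modules) (x : X) (hx : IsClosed ({x} : Set X))
    (W : X.Opens) (hW : ∀ y ∈ W, y ∈ CohB1.support F → y = x) (a : Γ(F, W)) :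
    ∃ t : Γ(F, ⊤), mres F (le_top : W ≤ ⊤) t = a := by
  by_cases hxW : x ∈ W
  · let W' : X.Opens := ⟨{x}ᶜ, hx.isOpen_compl⟩
    let U : ULift.{u} Bool → X.Opens := fun b => match b with | ⟨true⟩ => W | ⟨false⟩ => W'
    let sf : ∀ b, F.presheaf.obj (op (U b)) := fun b => match b with | ⟨true⟩ => a | ⟨false⟩ => 0
    have hcov : (⊤ : X.Opens) ≤ ⨆ b, U b := by
      intro y _
      by_cases hy : y = x
      · exact Opens.mem_iSup.mpr ⟨⟨true⟩, hy ▸ hxW⟩
      · exact Opens.mem_iSup.mpr ⟨⟨false⟩, hy⟩
    have hdis : ∀ y ∈ W ⊓ W', y ∉ CohB1.support F := fun y hy hyS => hy.2 (hW y hy.1 hyS)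
    have hdis' : ∀ y ∈ W' ⊓ W, y ∉ CohB1.support F := fun y hy hyS => hy.1 (hW y hy.2 hyS)
    obtain ⟨t, ht, -⟩ := TopCat.Sheaf.existsUnique_gluing' ⟨F.presheaf, F.isSheaf⟩ U ⊤
      (fun b => homOfLE le_top) hcov sf (by
        rintro ⟨_ | _⟩ ⟨_ | _⟩
        · rfl
        · exact (eq_zero_of_disjoint_support F (W' ⊓ W) hdis' _).trans
            (eq_zero_of_disjoint_support F (W' ⊓ W) hdis' _).symm
        · exact (eq_zero_of_disjoint_support F (W ⊓ W') hdis _).trans
            (eq_zero_of_disjoint_support F (W ⊓ W') hdis _).symm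
        · rfl)
    exact ⟨t, ht ⟨true⟩⟩
  · refine ⟨0, ?_⟩
    rw [map_zero]
    exact (eq_zero_of_disjoint_support F W (fun y hy hyS => hxW (hW y hy hyS ▸ hy)) a).symm

theorem isGloballyGenerated_of_support_dim_le_zero [NoetherianSpace X] (F : X.Modules)
    (hF : Coh.IsCoh F) (hsupp : topologicalKrullDim (CohB1.support F) ≤ 0) :
    Curv2.IsGloballyGenerated F := by
  classical
  have hSc : IsClosed (CohB1.support F) :=
    Groth.Agent.Lib.Helper1.isClosed_support_of_isFiniteType F hF.2
  have hfin : Finite (CohB1.support F) := finite_of_dim_le_zero hsupp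
  have ht1 : T1Space (CohB1.support F) := t1Space_of_dim_le_zero hsupp
  have hSfin : (CohB1.support F).Finite := Set.toFinite _
  have hclosed : ∀ x ∈ CohB1.support F, IsClosed ({x} : Set X) := fun x hx => by
    have h := hSc.isClosedEmbedding_subtypeVal.isClosedMap _
      (isClosed_singleton (x := (⟨x, hx⟩ : CohB1.support F)))
    simpa using h
  apply isGloballyGenerated_of_genOn_top
  intro V _ a x hxV
  by_cases hx : x ∈ CohB1.support F
  · have hc : IsClosed (CohB1.support F \ {x}) := by
      have : CohB1.support F \ {x} = ⋃ y ∈ CohB1.support F \ {x}, {y} :=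
        (Set.biUnion_of_singleton _).symm
      rw [this]
      exact (hSfin.subset Set.sdiff_subset).isClosed_biUnion fun y hy => hclosed y hy.1
    let U : X.Opens := ⟨(CohB1.support F \ {x})ᶜ, hc.isOpen_compl⟩
    have hxU : x ∈ U := fun h => h.2 rfl
    obtain ⟨t, ht⟩ := exists_extension_of_inter_support F x (hclosed x hx) (V ⊓ U)
      (fun y hy hyS => by
        by_contra hne
        exact hy.2 ⟨hyS, hne⟩) (mres F inf_le_left a)
    exact ⟨V ⊓ U, inf_le_left, ⟨hxV, hxU⟩, Submodule.subset_span ⟨t, ht⟩⟩
  · have hsub : Subsingleton (F.presheaf.stalk x) := not_not.mp hx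
    obtain ⟨W, hxW, hWV, h0⟩ :=
      Groth.Agent.Lib.Helper1.exists_restrict_eq_zero_of_subsingleton_stalk F x hsub hxV a
    refine ⟨W, hWV, hxW, ?_⟩
    have : mres F hWV a = 0 := h0
    rw [this]
    exact Submodule.zero_mem _

end Groth.Agent.Lib.Helper11.GenLocus
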