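import Mathlib
import Groth.Prelude.Def_ExtSupp
import Groth.Agent.Lib.Helper11.ExtShCoh
import Groth.Agent.Lib.Helper83.SuppNull
import Groth.Agent.Lib.Helper83.QuotOnExact
import Groth.Agent.Lib.Helper30.RDerNat
import Groth.Agent.Lib.Helper11.ZeroDimSupport

/-!
# Ext sheaves with supports when the first argument is supported in the closed set

If `F|_U = 0` then `Γ_Z(Hom(F, N)) = Hom(F, N)`, hence `Ext^i_Z(F, -) ≅ Ext^i(F, -)`; in particular
these are coherent for coherent `F`, `G` on a locally Noetherian scheme.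
-/

set_option autoImplicit false
universe u
open CategoryTheory Limits Opposite AlgebraicGeometry

namespace Groth.Agent.Lib.Helper11.ExtZShNull

open Groth.Agent.Lib.Helper30.ExtZero Groth.Agent.Lib.Helper83.QuotOnExact

section Site
variable {C : Type u} [SmallCategory C] {J : GrothendieckTopology C}
  (O : Sheaf J CommRingCat.{u}) (U : C)

theorem isNullOn_sheafHom_left (M : ModSite.Mod O) [ModSite.HasSheafHom M]
    (hM : ModSite.IsNullOn O U M) (N : ModSite.Mod O) :
    ModSite.IsNullOn O U ((ModSite.sheafHom M).obj N) := by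
  rw [ExtSupp.isNullOn_iff]
  intro V g x
  have hz : IsZero ((ModSite.restr O V).obj M) := ExtSupp.isNullOn_of_hom O g hM
  apply (sectSheafHomAddEquiv O M N V).injective
  exact hz.eq_of_src _ _

theorem isIso_sectOnι_of_isNullOn [ModSite.HasPushOver O U] (N : ModSite.Mod O)
    (hN : ModSite.IsNullOn O U N) : IsIso ((ModSite.sectOnι O U).app N) := by
  have h : (ModSite.restr O U).map (𝟙 N) = 0 := hN.eq_of_src _ _
  refine ⟨sectLift O U (𝟙 N) h, ?_, sectLift_ι O U (𝟙 N) h⟩
  rw [← cancel_mono ((ModSite.sectOnι O U).app N), Category.assoc, sectLift_ι]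
  exact (Category.comp_id _).trans (Category.id_comp _).symm

end Site

section Sch
variable (X : Scheme.{u})

theorem isNullOn_of_support (U : X.Opens) (F : X.Modules)
    (hsupp : ∀ x ∈ CohB1.support F, x ∉ (U : Set X)) : ModSite.IsNullOn X.sheaf U F := by
  rw [ExtSupp.isNullOn_iff]
  intro V g x
  exact Groth.Agent.Lib.Helper11.GenLocus.eq_zero_of_disjoint_support F V
    (fun y hy hys => hsupp y hys (g.le hy)) x

theorem isCoh_extZSh [IsLocallyNoetherian X] (U : X.Opens)
    (F G : X.Modules) (hF : Coh.IsCoh F) (hG : Coh.IsCoh G)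
    (hsupp : ∀ x ∈ CohB1.support F, x ∉ (U : Set X))
    [ModSite.HasSheafHom (O := X.sheaf) F] [HasInjectiveResolutions (ModSite.Mod X.sheaf)] (i : ℕ) :
    Coh.IsCoh ((ModSite.extZSh (O := X.sheaf) U F i).obj G) := by
  have hF0 := isNullOn_of_support X U F hsupp
  have : ∀ N : ModSite.Mod X.sheaf, IsIso ((Functor.whiskerLeft (ModSite.sheafHom (O := X.sheaf) F)
      (ModSite.sectOnι X.sheaf U)).app N) := fun N =>
    isIso_sectOnι_of_isNullOn X.sheaf U _ (isNullOn_sheafHom_left X.sheaf U F hF0 N)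
  have : IsIso (Functor.whiskerLeft (ModSite.sheafHom (O := X.sheaf) F)
      (ModSite.sectOnι X.sheaf U)) := NatIso.isIso_of_isIso_app _
  let e : ModSite.sheafHom (O := X.sheaf) F ⋙ ModSite.sectOn X.sheaf U ≅
      ModSite.sheafHom (O := X.sheaf) F :=
    asIso (Functor.whiskerLeft (ModSite.sheafHom (O := X.sheaf) F) (ModSite.sectOnι X.sheaf U)) ≪≫
      Functor.rightUnitor _
  have e' := Groth.Agent.Lib.Helper30.RDerNat.rightDerivedMapIso e i
  exact Groth.Agent.Lib.Helper16.CohThick.isCoh_of_iso (e'.app G).symm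
    (Groth.Agent.Lib.Helper11.ExtShCoh.isCoh_extSh F G hF hG i)

end Sch

end Groth.Agent.Lib.Helper11.ExtZShNull
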