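import Mathlib
import Groth.Prelude.Def_SpSeq

/-!
# Abutments of spectral sequences in a weak Serre class (helper11)

If `P` is an object property closed under isomorphisms, kernels, cokernels and extensions and
containing zero, and all terms of the first page of a spectral sequence `E` satisfy `P`, then every
abutment object `H n` with finite filtration satisfies `P` (`abutment_mem`, `abutment_mem_of_E₂`).
Typical use: `P = Coh.IsCoh` on a locally Noetherian scheme (`Helper16.CohThick.cohP`).
-/

set_option autoImplicit false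
set_option linter.unusedSectionVars false
universe v u
open CategoryTheory CategoryTheory.Limits
open scoped ZeroObject

namespace Groth.Agent.Lib.Helper11.SerreSS

variable {C : Type u} [Category.{v} C] [Abelian C]

variable (P : ObjectProperty C) [P.IsClosedUnderIsomorphisms] [P.ContainsZero]
  [P.IsClosedUnderExtensions] [P.IsClosedUnderKernels] [P.IsClosedUnderCokernels]

theorem homology_mem {ι : Type*} {c : ComplexShape ι} (K : HomologicalComplex C c) (i : ι)
    (h : ∀ j, P (K.X j)) : P (K.homology i) := by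
  let S := K.sc i
  have e : K.homology i ≅ cokernel (kernel.lift S.g S.f S.zero) := S.homologyIsoCokernelLift
  have hk : P (kernel S.g) := P.prop_kernel S.g (h _) (h _)
  exact P.prop_of_iso e.symm (P.prop_cokernel _ (h _) hk)

theorem page_mem {r₀ : ℤ} (E : CohomologicalSpectralSequence C r₀)
    (h₀ : ∀ pq, P ((E.page r₀ le_rfl).X pq)) :
    ∀ (r : ℤ) (hr : r₀ ≤ r) (pq : ℤ × ℤ), P ((E.page r hr).X pq) := by
  intro r hr
  induction r, hr using Int.leInduction with
  | base => exact h₀
  | succ r hr ih =>
    intro pq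
    exact P.prop_of_iso (E.iso r (r + 1) pq rfl hr) (homology_mem P _ pq ih)

theorem step_mem (K : SpSeq.FilObj C) (b : ℤ) (hb : K.fil b = ⊥) (hgr : ∀ p, P (K.gr p)) :
    ∀ k : ℕ, P (K.step (b - k)) := by
  intro k
  induction k with
  | zero =>
    have e : K.step (b - (0 : ℕ)) ≅ ((⊥ : Subobject K.obj) : C) :=
      Subobject.isoOfEq _ _ (by simpa using hb)
    exact P.prop_of_isZero (IsZero.of_iso (isZero_zero C) (e ≪≫ Subobject.botCoeIsoZero))
  | succ k ih =>
    have hle : K.fil (b - (k + 1 : ℕ) + 1) ≤ K.fil (b - (k + 1 : ℕ)) :=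
      K.anti (Int.le_add_one le_rfl)
    let S : ShortComplex C := ShortComplex.mk ((K.fil (b - (k + 1 : ℕ) + 1)).ofLE _ hle)
      (cokernel.π _) (cokernel.condition _)
    have hS : S.ShortExact :=
      { exact := ShortComplex.exact_cokernel _
        mono_f := inferInstanceAs (Mono (Subobject.ofLE _ _ hle))
        epi_g := inferInstanceAs (Epi (cokernel.π _)) }
    have e : K.step (b - (k + 1 : ℕ) + 1) ≅ K.step (b - k) :=
      Subobject.isoOfEq _ _ (by congr 1; push_cast; ring)
    exact P.prop_X₂_of_shortExact hS (P.prop_of_iso e.symm ih) (hgr _)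

theorem filObj_mem (K : SpSeq.FilObj C) (hfin : K.IsFinite) (hgr : ∀ p, P (K.gr p)) : P K.obj := by
  obtain ⟨⟨a, ha⟩, ⟨b, hb⟩⟩ := hfin
  have htop : ∀ a', K.fil a' = ⊤ → P (K.step a') → P K.obj := fun a' ha' h =>
    P.prop_of_iso (Subobject.isoOfEq _ _ ha' ≪≫ asIso (⊤ : Subobject K.obj).arrow) h
  by_cases hab : a ≤ b
  · have h := step_mem P K b hb hgr (b - a).toNat
    have e : b - ((b - a).toNat : ℤ) = a := by omega
    rw [e] at h
    exact htop a ha h
  · have hle : K.fil a ≤ K.fil b := K.anti (by omega)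
    rw [ha, hb] at hle
    have h0 := step_mem P K b hb hgr 0
    have hb' : K.fil (b - (0 : ℕ)) = ⊤ := by
      simp only [Nat.cast_zero, sub_zero, hb]
      exact le_antisymm bot_le hle |>.symm ▸ rfl
    exact htop _ hb' h0

/-- if all terms of the first page of a spectral sequence lie in a Serre class, so do the
abutment objects with finite filtration. -/
theorem abutment_mem {r₀ : ℤ} (E : CohomologicalSpectralSequence C r₀) {H : ℤ → C}
    (a : SpSeq.Abutment E H) (h₀ : ∀ pq, P ((E.page r₀ le_rfl).X pq)) (n : ℤ)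
    (hfin : a.IsFinite n) : P (H n) := by
  refine filObj_mem P (a.filObj n) hfin (fun p => ?_)
  have key : ∀ (m : ℤ) (_ : p + (n - p) = m),
      P (SpSeq.grPiece (a.fil m) (a.anti m) p) := by
    intro m hm
    subst hm
    exact P.prop_of_iso (a.β (p, n - p)) (page_mem P E h₀ _ _ _)
  exact key n (by ring)

/-- variant for first quadrant `E₂` spectral sequences given by a family `E₂ p q`. -/
theorem abutment_mem_of_E₂ (E : E₂CohomologicalSpectralSequence C) {H : ℤ → C}
    (a : SpSeq.Abutment E H) (E₂ : ℕ → ℕ → C)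
    (hE : ∀ p q : ℤ, Nonempty ((E.page 2 le_rfl).X (p, q) ≅
      (if 0 ≤ p ∧ 0 ≤ q then E₂ p.toNat q.toNat else 0)))
    (h : ∀ p q, P (E₂ p q)) (n : ℤ) (hfin : a.IsFinite n) : P (H n) := by
  refine abutment_mem P E a (fun pq => ?_) n hfin
  obtain ⟨p, q⟩ := pq
  obtain ⟨e⟩ := hE p q
  refine P.prop_of_iso e.symm ?_
  split_ifs
  · exact h _ _
  · exact P.prop_of_isZero (isZero_zero C)

end Groth.Agent.Lib.Helper11.SerreSS
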