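import Mathlib
import Groth.Agent.Lib.Helper11.ExtShCoh
import Groth.Agent.Lib.Helper11.SerreSS
import Groth.Agent.S2384

/-!
# Quasi-coherent modules form a weak Serre class; `Ext^i(coherent, qcoh)` is quasi-coherent (helper11)

* `qcohP X` with its closure instances (isomorphisms, zero, extensions, kernels, cokernels).
* `isQCoh_sheafHom_of_isFinLocFree`, `isQCoh_extSh_of_isAffine`, `isQCoh_extSh`.
-/

set_option autoImplicit false
set_option linter.style.haveILetI false
universe u
open CategoryTheory Limits Opposite AlgebraicGeometry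
open scoped ZeroObject

namespace Groth.Agent.Lib.Helper11.QCohThick

open Groth.Agent.Lib.Helper11.ExtShCoh Groth.Agent.Lib.Helper11.ExtShDual
  Groth.Agent.Lib.Helper11.RestrictHom

variable (X : Scheme.{u})

/-- quasi-coherence as an object property of `X.Modules`. -/
abbrev qcohP : ObjectProperty X.Modules := fun M : X.Modules => M.IsQuasicoherent

instance : (qcohP X).IsClosedUnderIsomorphisms where
  of_iso e h := Groth.Agent.Lib.Helper49.isQuasicoherent_of_iso e h

theorem isQuasicoherent_of_isZero {Z : X.Modules} (hZ : IsZero Z) : Z.IsQuasicoherent := by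
  have h : (kernel (𝟙 (Coh.structureModule X))).IsQuasicoherent :=
    Groth.Agent.Lib.Helper49.isQuasicoherent_kernel _
      (Groth.Agent.Lib.Helper45.isQuasicoherent_structureModule X)
      (Groth.Agent.Lib.Helper45.isQuasicoherent_structureModule X)
  have hz : IsZero (kernel (𝟙 (Coh.structureModule X))) := by
    rw [IsZero.iff_id_eq_zero, ← cancel_mono (kernel.ι (𝟙 (Coh.structureModule X)))]
    have := kernel.condition (𝟙 (Coh.structureModule X))
    rw [Category.comp_id] at this
    rw [this]; simp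
  exact Groth.Agent.Lib.Helper49.isQuasicoherent_of_iso (hz.iso hZ) h

instance : (qcohP X).ContainsZero where
  exists_zero := ⟨0, isZero_zero _, isQuasicoherent_of_isZero X (isZero_zero _)⟩

instance : (qcohP X).IsClosedUnderExtensions where
  prop_X₂_of_shortExact hS h1 h3 := Groth.Agent.S2384.result _ hS h1 h3

instance : (qcohP X).IsClosedUnderKernels where
  kernels_le := by
    rintro _ ⟨f, k, hk, hf⟩
    have h := Groth.Agent.Lib.Helper49.isQuasicoherent_kernel f hf.1 hf.2
    exact Groth.Agent.Lib.Helper49.isQuasicoherent_of_iso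
      (IsLimit.conePointUniqueUpToIso (kernelIsKernel f) hk) h

instance : (qcohP X).IsClosedUnderCokernels where
  cokernels_le := by
    rintro _ ⟨f, k, hk, hf⟩
    have h := Groth.Agent.Lib.Helper49.isQuasicoherent_cokernel f hf.1 hf.2
    exact Groth.Agent.Lib.Helper49.isQuasicoherent_of_iso
      (IsColimit.coconePointUniqueUpToIso (cokernelIsCokernel f) hk) h

variable {X}

/-- `Hom(E, G)` is quasi-coherent for `E` finite locally free and `G` quasi-coherent. -/
theorem isQCoh_sheafHom_of_isFinLocFree {E G : X.Modules} (hE : FlatMod.IsFinLocFree E)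
    (hG : G.IsQuasicoherent) [ModSite.HasSheafHom (O := X.sheaf) E] :
    ((ModSite.sheafHom (O := X.sheaf) E).obj G).IsQuasicoherent := by
  have e : (ModSite.sheafHom (O := X.sheaf) E).obj G ≅ CohB1.tensorMod G (RefHull.dual E) :=
    (sheafHomIsoTensR hE).app G
  have hD : Coh.IsCoh (RefHull.dual E) :=
    Groth.Agent.Lib.Helper16.LFRes.isCoh_of_isFinLocFree
      (Groth.Agent.Lib.Helper11.FinFreeDual.isFinLocFree_dual hE)
  haveI : G.IsQuasicoherent := hG
  haveI : (RefHull.dual E).IsQuasicoherent := hD.1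
  obtain ⟨h1, -⟩ := Groth.Agent.Lib.Helper11.TildeTensor.isQuasicoherent_tensorMod G
    (RefHull.dual E)
  exact Groth.Agent.Lib.Helper49.isQuasicoherent_of_iso e.symm h1

/-- on a locally Noetherian affine scheme, `Ext^i(F, G)` is quasi-coherent for `F` coherent, `G`
quasi-coherent. -/
theorem isQCoh_extSh_of_isAffine [IsAffine X] [IsLocallyNoetherian X] (F G : X.Modules)
    (hF : Coh.IsCoh F) (hG : G.IsQuasicoherent)
    [ModSite.HasSheafHom (O := X.sheaf) F] [HasInjectiveResolutions (ModSite.Mod X.sheaf)] (i : ℕ) :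
    ((ModSite.extSh (O := X.sheaf) F i).obj G).IsQuasicoherent := by
  obtain ⟨E, π, hπe, hπ, hex0, hex, hE⟩ :=
    Groth.Agent.Lib.Helper11.ResolutionBy.exists_resolution
      (fun M : X.Modules => FlatMod.IsFinLocFree M) (fun M : X.Modules => Coh.IsCoh M)
      (fun e h => Groth.Agent.Lib.Helper14.isFinLocFree_of_iso e h)
      (fun A h => Groth.Agent.Lib.Helper16.LFRes.isCoh_of_isFinLocFree h)
      (fun f hA hB => (Groth.Agent.Lib.Helper16.CohThick.cohP X).prop_kernel f hA hB)
      (fun K hK => by
        obtain ⟨n, p, hp⟩ := exists_epi_freeMod_of_isCoh K hK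
        exact ⟨_, p, Groth.Agent.Lib.Helper49.isFinLocFree_freeMod X n, hp⟩)
      F hF
  haveI : ∀ j : ℕ, ModSite.HasSheafHom (O := X.sheaf) (E.X j) :=
    fun j => hasSheafHom_of_isFinLocFree (hE j)
  obtain ⟨φ⟩ := Groth.Agent.S15520.result X F G E π hπ hex0 hex hE (homCx E G)
    (fun j => Iso.refl _)
    (fun j => (Category.comp_id _).trans
      ((homCx_d E G j).trans (Category.id_comp _).symm)) i
  refine Groth.Agent.Lib.Helper49.isQuasicoherent_of_iso φ
    (Groth.Agent.Lib.Helper11.SerreSS.homology_mem (qcohP X) _ i (fun j => ?_))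
  exact isQCoh_sheafHom_of_isFinLocFree (hE j) hG

/-- on a locally Noetherian scheme, `Ext^i(F, G)` is quasi-coherent for `F` coherent, `G`
quasi-coherent. -/
theorem isQCoh_extSh [IsLocallyNoetherian X] (F G : X.Modules)
    (hF : Coh.IsCoh F) (hG : G.IsQuasicoherent)
    [ModSite.HasSheafHom (O := X.sheaf) F] [HasInjectiveResolutions (ModSite.Mod X.sheaf)] (i : ℕ) :
    ((ModSite.extSh (O := X.sheaf) F i).obj G).IsQuasicoherent := by
  refine Groth.Agent.Lib.Helper49.isQuasicoherent_of_forall_restrict _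
    (fun V : X.affineOpens => (V.1 : Scheme.{u})) (fun V => V.1.ι) (fun x => ?_) (fun V => ?_)
  · obtain ⟨_, ⟨V₀, hV, rfl⟩, hxV, -⟩ :=
      X.isBasis_affineOpens.exists_subset_of_mem_open (Set.mem_univ x) isOpen_univ
    exact ⟨⟨V₀, hV⟩, by simpa using hxV⟩
  · obtain ⟨V, hV⟩ := V
    haveI : IsAffine (↑V : Scheme.{u}) := hV
    haveI : F.IsQuasicoherent := hF.1
    haveI : G.IsQuasicoherent := hG
    haveI := hasSheafHom_restrict V F
    haveI := hasInjectiveResolutions_modules (↑V : Scheme.{u})
    obtain ⟨e⟩ := extSh_restrict V F G i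
    have hF' : Coh.IsCoh (F.restrict V.ι) :=
      ⟨Scheme.Modules.isQuasicoherent_restrictFunctor _ _,
        Groth.Agent.Lib.Helper49.isFiniteType_restrict F V.ι hF.2⟩
    have hG' : (G.restrict V.ι).IsQuasicoherent :=
      Scheme.Modules.isQuasicoherent_restrictFunctor _ _
    exact Groth.Agent.Lib.Helper49.isQuasicoherent_of_iso e.symm
      (isQCoh_extSh_of_isAffine (F.restrict V.ι) (G.restrict V.ι) hF' hG' i)

end Groth.Agent.Lib.Helper11.QCohThick
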