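import Mathlib
import Groth.Prelude.Def_ExtSupp
import Groth.Prelude.Def_DCoh2
import Groth.Agent.Lib.Helper83.QuotOnExact

/-!
# `ModSite.sectOn X.sheaf U ≅ DCoh.gammaZ U.ι` (helper11)

The site-level functor of sections with support in the complement of an open `U` of a scheme agrees
with the scheme-level one: `sectOnIsoGammaZ`.
-/

set_option autoImplicit false
universe u
open CategoryTheory Limits Opposite AlgebraicGeometry

namespace Groth.Agent.Lib.Helper11.SectOnGammaZ

open Groth.Agent.Lib.Helper83.QuotOnExact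

variable {X : Scheme.{u}} (U : X.Opens)

theorem map_eq_zero_iff_of_iso {A B : Type*} [Category A] [Category B] [HasZeroMorphisms B]
    {F G : A ⥤ B} (e : F ≅ G) {a b : A} (φ : a ⟶ b) : F.map φ = 0 ↔ G.map φ = 0 := by
  constructor
  · intro h
    have := NatIso.naturality_1 e φ
    rw [← this, h]; simp
  · intro h
    have := NatIso.naturality_2 e φ
    rw [← this, h]; simp

theorem restr_map_eq_zero_iff' {M N : X.Modules} (φ : M ⟶ N) :
    (ModSite.restr X.sheaf U).map φ = 0 ↔ (Scheme.Modules.restrictFunctor U.ι).map φ = 0 := by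
  rw [← map_eq_zero_iff_of_iso (Scheme.Modules.overFunctorEquiv U) φ]
  have h : (Scheme.Modules.overEquiv U).functor.map
      ((SheafOfModules.overFunctor X.ringCatSheaf U).map φ) = 0 ↔
      (SheafOfModules.overFunctor X.ringCatSheaf U).map φ = 0 :=
    Functor.map_eq_zero_iff (Scheme.Modules.overEquiv U).functor
  exact h.symm

theorem adj_map_eq_zero_iff {A B : Type*} [Category A] [Category B] [Preadditive A] [Preadditive B]
    {L : A ⥤ B} {R : B ⥤ A} (adj : L ⊣ R) [R.PreservesZeroMorphisms] {M N : A} (φ : M ⟶ N) :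
    L.map φ = 0 ↔ φ ≫ adj.unit.app N = 0 := by
  have hnat : φ ≫ adj.unit.app N = adj.unit.app M ≫ R.map (L.map φ) := adj.unit.naturality φ
  constructor
  · intro h
    rw [hnat, h, Functor.map_zero, comp_zero]
  · intro h
    apply (adj.homEquiv _ _).injective
    rw [adj.homEquiv_unit, ← hnat, h, adj.homEquiv_unit, Functor.map_zero, comp_zero]

/-- `Γ_Z` of the site of opens, as an endofunctor of `X.Modules`. -/
noncomputable def sectS : X.Modules ⥤ X.Modules := ModSite.sectOn X.sheaf U

noncomputable def sectSι : sectS U ⟶ 𝟭 X.Modules := ModSite.sectOnι X.sheaf U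

instance (F : X.Modules) : Mono ((sectSι U).app F) :=
  inferInstanceAs (Mono ((ModSite.sectOnι X.sheaf U).app F))

theorem sectSι_comp_unit (F : X.Modules) :
    (sectSι U).app F ≫ (Scheme.Modules.restrictAdjunction U.ι).unit.app F = 0 := by
  have h1 : (ModSite.sectOnι X.sheaf U).app F ≫ (ModSite.restrPushOverAdj X.sheaf U).unit.app F = 0 :=
    kernel.condition _
  have h2 := (restr_map_eq_zero_iff X.sheaf U _).2 h1
  have h3 := (restr_map_eq_zero_iff' U _).1 h2
  exact (adj_map_eq_zero_iff (Scheme.Modules.restrictAdjunction U.ι) _).1 h3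

theorem exists_sectS_lift {T F : X.Modules} (a : T ⟶ F)
    (h : a ≫ (Scheme.Modules.restrictAdjunction U.ι).unit.app F = 0) :
    ∃ l : T ⟶ (sectS U).obj F, l ≫ (sectSι U).app F = a := by
  have h3 := (adj_map_eq_zero_iff (Scheme.Modules.restrictAdjunction U.ι) _).2 h
  have h2 := (restr_map_eq_zero_iff' U _).2 h3
  exact ⟨sectLift X.sheaf U a h2, sectLift_ι X.sheaf U a h2⟩

noncomputable def gammaZι' : DCoh.gammaZ U.ι ⟶ 𝟭 X.Modules where
  app F := kernel.ι _
  naturality F G φ := by simp [DCoh.gammaZ]

instance (F : X.Modules) : Mono ((gammaZι' U).app F) := inferInstanceAs (Mono (kernel.ι _))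

noncomputable def toG (F : X.Modules) : (sectS U).obj F ⟶ (DCoh.gammaZ U.ι).obj F :=
  kernel.lift _ ((sectSι U).app F) (sectSι_comp_unit U F)

theorem toG_ι (F : X.Modules) : toG U F ≫ (gammaZι' U).app F = (sectSι U).app F :=
  kernel.lift_ι _ _ _

theorem gammaZι'_unit (F : X.Modules) :
    (gammaZι' U).app F ≫ (Scheme.Modules.restrictAdjunction U.ι).unit.app F = 0 :=
  kernel.condition _

noncomputable def fromG (F : X.Modules) : (DCoh.gammaZ U.ι).obj F ⟶ (sectS U).obj F :=
  (exists_sectS_lift U ((gammaZι' U).app F) (gammaZι'_unit U F)).choose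

theorem fromG_ι (F : X.Modules) : fromG U F ≫ (sectSι U).app F = (gammaZι' U).app F :=
  (exists_sectS_lift U ((gammaZι' U).app F) (gammaZι'_unit U F)).choose_spec

noncomputable def sectOnIsoGammaZ : sectS U ≅ DCoh.gammaZ U.ι :=
  NatIso.ofComponents (fun F =>
    { hom := toG U F
      inv := fromG U F
      hom_inv_id := by
        rw [← cancel_mono ((sectSι U).app F), Category.assoc, fromG_ι, toG_ι, Category.id_comp]
      inv_hom_id := by
        rw [← cancel_mono ((gammaZι' U).app F), Category.assoc, toG_ι, fromG_ι, Category.id_comp] }) (by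
    intro F G φ
    change (sectS U).map φ ≫ toG U G = toG U F ≫ (DCoh.gammaZ U.ι).map φ
    rw [← cancel_mono ((gammaZι' U).app G), Category.assoc, Category.assoc, toG_ι,
      (gammaZι' U).naturality, ← Category.assoc, toG_ι]
    exact (sectSι U).naturality φ)

end Groth.Agent.Lib.Helper11.SectOnGammaZ
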