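import Mathlib
import Groth.Prelude.Def_ExtSupp
import Groth.Agent.Lib.Helper83.SuppSS
import Groth.Agent.Lib.Helper56.HZshQCoh
import Groth.Agent.Lib.Helper33.GrothSS
import Groth.Agent.Lib.Helper30.RDerNat
import Groth.Agent.Lib.Helper11.SectOnGammaZ
import Groth.Agent.Lib.Helper11.QCohThick

/-!
# `Ext^i_Z(F, G)` is quasi-coherent for `F` coherent, `G` quasi-coherent (helper11)

* `extZSh_ss`: the spectral sequence `Ext^p(F, H^q_Z(G)) ⇒ Ext^{p+q}_Z(F, G)` on a ringed site.
* `isQCoh_HZsh`: site-level local cohomology sheaves of quasi-coherent modules are quasi-coherent.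
* `isQCoh_extZSh`.
-/

set_option autoImplicit false
set_option linter.style.haveILetI false
universe u
open CategoryTheory Limits Opposite AlgebraicGeometry
open scoped ZeroObject

namespace Groth.Agent.Lib.Helper11.ExtZShQCoh

open Groth.Agent.Lib.Helper33.GrothSS Groth.Agent.Lib.Helper83.QuotOnExact

section Site

variable {C : Type u} [SmallCategory C] {J : GrothendieckTopology C} (O : Sheaf J CommRingCat.{u})
  (U : C) [ModSite.HasPushOver O U] (F G : ModSite.Mod O) [ModSite.HasSheafHom F]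
  [HasInjectiveResolutions (ModSite.Mod O)]

/-- the spectral sequence `Ext^p(F, H^q_Z(G)) ⇒ Ext^{p+q}_Z(F, G)`. -/
theorem extZSh_ss :
    ∃ (E : E₂CohomologicalSpectralSequence (ModSite.Mod O))
      (a : SpSeq.Abutment E (fun n : ℤ =>
        if 0 ≤ n then (ModSite.extZSh U F n.toNat).obj G else (0 : ModSite.Mod O))),
      (∀ n : ℤ, a.IsFinite n) ∧ SpSeq.IsBounded E ∧
      ∀ p q : ℤ, Nonempty ((E.page 2 le_rfl).X (p, q) ≅
        (if 0 ≤ p ∧ 0 ≤ q then (ModSite.extSh F p.toNat).obj ((ModSite.HZsh O U q.toNat).obj G)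
          else (0 : ModSite.Mod O))) := by
  have hS : PreservesFiniteLimits (ModSite.sheafHom F) := by
    have : PreservesLimitsOfSize.{0, 0} (ModSite.sheafHom F) :=
      (ModSite.sheafHomAdj F).rightAdjoint_preservesLimits
    exact PreservesLimitsOfSize.preservesFiniteLimits _
  have hSa : (ModSite.sheafHom F).Additive := ModSite.sheafHom_additive O F
  refine grothendieck_ss (ModSite.sectOn O U) (ModSite.sheafHom F)
    (fun Q hQ q hq => ?_) G (fun n => (ModSite.extZSh U F n).obj G) (fun n => ?_)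
    (fun p q => (ModSite.extSh F p).obj ((ModSite.HZsh O U q).obj G)) (fun p q => ⟨Iso.refl _⟩)
  · obtain ⟨k, rfl⟩ : ∃ k, q = k + 1 := ⟨q - 1, by omega⟩
    haveI := hQ
    haveI := injective_sectOn O U Q
    exact Functor.isZero_rightDerived_obj_injective_succ _ _ _
  · exact ⟨(Groth.Agent.Lib.Helper30.RDerNat.rightDerivedMapIso
      (Groth.Agent.Lib.Helper83.SuppSS.sheafHomSectOnIso O U F).symm n).app G⟩

end Site

open Groth.Agent.Lib.Helper11.SectOnGammaZ Groth.Agent.Lib.Helper11.QCohThick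
  Groth.Agent.Lib.Helper11.SerreSS

variable {X : Scheme.{u}}

/-- the local cohomology sheaves (site version) of a quasi-coherent module are quasi-coherent. -/
theorem isQCoh_HZsh (U : X.Opens) [QuasiCompact U.ι]
    [HasInjectiveResolutions (ModSite.Mod X.sheaf)] (G : X.Modules) (hG : G.IsQuasicoherent)
    (q : ℕ) : ((ModSite.HZsh X.sheaf U q).obj G).IsQuasicoherent := by
  have hI : HasInjectiveResolutions X.Modules := ‹HasInjectiveResolutions (ModSite.Mod X.sheaf)›
  have hadd : (sectS U).Additive := inferInstanceAs (ModSite.sectOn X.sheaf U).Additive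
  have e : ((sectS U).rightDerived q).obj G ≅ ((DCoh.gammaZ U.ι).rightDerived q).obj G :=
    (Groth.Agent.Lib.Helper30.RDerNat.rightDerivedMapIso (sectOnIsoGammaZ U) q).app G
  have h := Groth.Agent.Lib.Helper56.HZshQCoh.isQuasicoherent_rightDerived_gammaZ U G hG q
  exact Groth.Agent.Lib.Helper49.isQuasicoherent_of_iso e.symm h

theorem extZSh_ss' (U : X.Opens) (F G : X.Modules)
    [ModSite.HasSheafHom (O := X.sheaf) F] [HasInjectiveResolutions (ModSite.Mod X.sheaf)] :
    ∃ (E : E₂CohomologicalSpectralSequence X.Modules)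
      (a : SpSeq.Abutment E (fun n : ℤ =>
        if 0 ≤ n then (ModSite.extZSh (O := X.sheaf) U F n.toNat).obj G else (0 : X.Modules))),
      (∀ n : ℤ, a.IsFinite n) ∧ SpSeq.IsBounded E ∧
      ∀ p q : ℤ, Nonempty ((E.page 2 le_rfl).X (p, q) ≅
        (if 0 ≤ p ∧ 0 ≤ q then (ModSite.extSh (O := X.sheaf) F p.toNat).obj
          ((ModSite.HZsh X.sheaf U q.toNat).obj G) else (0 : X.Modules))) :=
  extZSh_ss X.sheaf U F G

theorem isQCoh_extZSh [IsLocallyNoetherian X] (U : X.Opens)
    (F G : X.Modules) (hF : Coh.IsCoh F) (hG : Coh.IsQCoh G)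
    [ModSite.HasSheafHom (O := X.sheaf) F] [HasInjectiveResolutions (ModSite.Mod X.sheaf)] (i : ℕ) :
    Coh.IsQCoh ((ModSite.extZSh (O := X.sheaf) U F i).obj G) := by
  obtain ⟨E, a, hfin, -, hpage⟩ := extZSh_ss' U F G
  have h := abutment_mem_of_E₂ (qcohP X) E a
    (fun p q => (ModSite.extSh (O := X.sheaf) F p).obj ((ModSite.HZsh X.sheaf U q).obj G)) hpage
    (fun p q => isQCoh_extSh F _ hF (isQCoh_HZsh U G hG q) p)
    (i : ℤ) (hfin _)
  simpa using h

end Groth.Agent.Lib.Helper11.ExtZShQCoh
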