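import Mathlib

/-!
Helper lemmas on generic points of irreducible components and generalizations, by helper11.
-/

set_option autoImplicit false
universe u

namespace Groth.Agent.Lib.Helper11

open Topology

/-- In a quasi-sober T0 space, `closure {y}` is an irreducible component iff `y` has no proper
generalization. -/
theorem closure_singleton_mem_irreducibleComponents_iff {α : Type*} [TopologicalSpace α]
    [QuasiSober α] [T0Space α] (y : α) :
    closure ({y} : Set α) ∈ irreducibleComponents α ↔ ∀ z : α, z ⤳ y → z = y := by
  constructor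
  · intro h z hz
    have h1 : closure ({y} : Set α) ⊆ closure {z} := hz.closure_subset
    have h2 : closure ({z} : Set α) ⊆ closure {y} :=
      h.2 isIrreducible_singleton.closure h1
    exact ((inseparable_iff_closure_eq.mpr (le_antisymm h2 h1)).eq)
  · intro h
    refine ⟨isIrreducible_singleton.closure, fun S hS hyS => ?_⟩
    have hS' : IsIrreducible (closure S) := hS.closure
    obtain ⟨z, hz⟩ := QuasiSober.sober hS' isClosed_closure
    have hz' : closure ({z} : Set α) = closure S := hz
    have hzy : z ⤳ y := by
      rw [specializes_iff_mem_closure, hz']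
      exact subset_closure (hyS (subset_closure rfl))
    have := h z hzy
    subst this
    rw [hz']
    exact subset_closure

open AlgebraicGeometry CategoryTheory

/-- A prime is minimal iff the corresponding point has no proper generalization. -/
theorem mem_minimalPrimes_iff_forall_specializes {R : Type*} [CommRing R] (z : PrimeSpectrum R) :
    z.asIdeal ∈ minimalPrimes R ↔ ∀ z' : PrimeSpectrum R, z' ⤳ z → z' = z := by
  constructor
  · intro hz z' hz'
    rw [← PrimeSpectrum.le_iff_specializes] at hz'
    have : z.asIdeal ≤ z'.asIdeal := hz.2 ⟨z'.2, bot_le⟩ hz'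
    exact le_antisymm hz' this
  · intro h
    refine ⟨⟨z.2, bot_le⟩, fun q hq hqz => ?_⟩
    have := h ⟨q, hq.1⟩ ((PrimeSpectrum.le_iff_specializes _ _).mp hqz)
    rw [← this]

/-- A point of `Spec 𝒪_{X,x}` without proper generalizations maps to a point of `X`
without proper generalizations. -/
theorem fromSpecStalk_no_generalization {X : Scheme.{u}} (x : X) (z : Spec (X.presheaf.stalk x))
    (hz : ∀ z' : Spec (X.presheaf.stalk x), z' ⤳ z → z' = z) :
    ∀ w : X, w ⤳ X.fromSpecStalk x z → w = X.fromSpecStalk x z := by
  intro w hw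
  have hzx : X.fromSpecStalk x z ⤳ x := by
    have : X.fromSpecStalk x z ∈ Set.range (X.fromSpecStalk x) := ⟨z, rfl⟩
    rwa [Scheme.range_fromSpecStalk] at this
  have hwx : w ∈ Set.range (X.fromSpecStalk x) := by
    rw [Scheme.range_fromSpecStalk]; exact hw.trans hzx
  obtain ⟨z', rfl⟩ := hwx
  rw [(X.fromSpecStalk x).isEmbedding.isInducing.specializes_iff] at hw
  rw [hz z' hw]

/-- If the nilradical of the stalk at `x` is prime, then there is a point `η` of `X` such that every
irreducible component of `X` through `x` is `closure {η}`. -/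
theorem exists_forall_irreducibleComponent_eq_of_nilradical_stalk_isPrime {X : Scheme.{u}} (x : X)
    (hx : (nilradical (X.presheaf.stalk x)).IsPrime) :
    ∃ η : X, η ⤳ x ∧ ∀ Z ∈ irreducibleComponents X, x ∈ Z → Z = closure {η} := by
  have hirr : IrreducibleSpace (Spec (X.presheaf.stalk x)) :=
    PrimeSpectrum.irreducibleSpace_iff_isPrime_nilradical.mpr hx
  let ζ : Spec (X.presheaf.stalk x) := genericPoint (Spec (X.presheaf.stalk x))
  refine ⟨X.fromSpecStalk x ζ, ?_, ?_⟩
  · have : X.fromSpecStalk x ζ ∈ Set.range (X.fromSpecStalk x) := ⟨ζ, rfl⟩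
    rwa [Scheme.range_fromSpecStalk] at this
  · intro Z hZ hxZ
    obtain ⟨η, hη⟩ := QuasiSober.sober hZ.1 (isClosed_of_mem_irreducibleComponents Z hZ)
    have hη' : closure ({η} : Set X) = Z := hη
    have hηx : η ⤳ x := by
      rw [specializes_iff_mem_closure, hη']; exact hxZ
    have hηr : η ∈ Set.range (X.fromSpecStalk x) := by
      rw [Scheme.range_fromSpecStalk]; exact hηx
    obtain ⟨z, rfl⟩ := hηr
    have hζz : ζ ⤳ z := genericPoint_specializes z
    have h1 : X.fromSpecStalk x ζ ⤳ X.fromSpecStalk x z :=
      hζz.map (X.fromSpecStalk x).continuous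
    have h2 := (closure_singleton_mem_irreducibleComponents_iff
      (X.fromSpecStalk x z)).mp (hη' ▸ hZ) _ h1
    rw [h2, hη']

end Groth.Agent.Lib.Helper11
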