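import Mathlib
import Groth.Agent.Lib.Helper11.RegImmExt
import Groth.Agent.Lib.Helper11.DiagZeroSS
import Groth.Agent.Lib.Helper83.ModCoh

/-!
# `Ext^q(i_* F, E) = 0` for `q < c`, `i` a closed regular immersion of codimension `c` (helper11)
-/

set_option autoImplicit false
set_option linter.style.haveILetI false
universe u
open CategoryTheory Limits Opposite AlgebraicGeometry TopologicalSpace
open scoped ZeroObject

namespace Groth.Agent.Lib.Helper11.RegImmExtVanish

open Groth.Agent.Lib.Helper11.RegImmAffine Groth.Agent.Lib.Helper11.ClosedChangeRings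
  Groth.Agent.Lib.Helper11.ExtShCoh Groth.Agent.Lib.Helper11.RegImmExt
  Groth.Agent.Lib.Helper11.PrincipalDiv Groth.Agent.Lib.Helper11.DiagZeroSS

theorem ext_subsingleton_of_isZero {C : Type*} [Category C] [Abelian C] [HasExt C] (X Z : C)
    (hZ : IsZero Z) (n : ℕ) : Subsingleton (Abelian.Ext X Z n) := by
  have h : ∀ x : Abelian.Ext X Z n, x = 0 := by
    intro x
    have := x.comp_mk₀_id
    rw [hZ.eq_of_src (𝟙 Z) 0, Abelian.Ext.mk₀_zero, Abelian.Ext.comp_zero] at this
    exact this.symm
  exact ⟨fun x y => by rw [h x, h y]⟩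

theorem ext_vanishing (X Z : Scheme.{u}) [HasExt.{u} X.Modules]
    (i : Z ⟶ X) [IsClosedImmersion i] (c : ℕ)
    (hi : RegImm.IsRegularImmersionOfCodim RegImm.Kind.regular c i) (E : X.Modules)
    (hE : FlatMod.IsFinLocFree E) (F : Z.Modules) (q : ℕ) (hq : q < c) :
    Subsingleton (Abelian.Ext ((Scheme.Modules.pushforward i).obj F) E q) := by
  haveI := hasSheafHom_push i (Coh.structureModule Z)
  haveI := hasInjectiveResolutions_modules X
  haveI : HasExt.{u} Z.Modules := by
    haveI : IsGrothendieckAbelian.{u} Z.Modules :=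
      Groth.Agent.Lib.Helper32.OpenKInj.isGrothendieckAbelian_modules Z
    exact hasExt_of_enoughInjectives.{u} _
  obtain ⟨M, hM, hM0, -⟩ := regular_global i c hi E hE
  obtain ⟨ES, a, hfin, -, hE2⟩ := ss_ext i (Coh.structureModule Z)
    (isFinLocFree_structureModule Z) F E M hM
  have hzero := abutment_isZero_of_diagonal ES a (q : ℤ) (hfin q) (fun p q' hpq => by
    obtain ⟨e⟩ := hE2 p q'
    refine IsZero.of_iso ?_ e
    split_ifs with h
    · have hlt : q'.toNat < c := by omega
      have := ext_subsingleton_of_isZero F (M q'.toNat) (hM0 _ hlt) p.toNat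
      exact AddCommGrpCat.isZero_of_subsingleton _
    · exact isZero_zero _)
  have hq0 : (0 : ℤ) ≤ (q : ℤ) := Int.natCast_nonneg q
  simp only [if_pos hq0, Int.toNat_natCast] at hzero
  have hsub : Subsingleton (Abelian.Ext ((Scheme.Modules.pushforward i).obj
      (CohB1.tensorMod (Coh.structureModule Z) F)) E q) :=
    AddCommGrpCat.subsingleton_of_isZero hzero
  exact (Groth.Agent.Lib.Helper83.ModCoh.extAddEquivOfIsoLeft
    ((Scheme.Modules.pushforward i).mapIso (unitTens F)) E q).symm.injective.subsingleton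

end Groth.Agent.Lib.Helper11.RegImmExtVanish
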