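import Mathlib
import Groth.Agent.Lib.Helper11.RelAmpleComp

/-! Helper library (helper11): external tensor products of relatively ample modules
(EGA II 4.6.13 (iv)). `isAmple_tensor_pullbacks`, `isAmple_restrict_externalTensor_aux`,
`relAmple_externalTensor`. -/

set_option autoImplicit false
universe u
open AlgebraicGeometry CategoryTheory Limits TopologicalSpace Opposite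

namespace Groth.Agent.Lib.Helper11.RelAmpleProd
open Groth.Agent.Lib.Helper11 Groth.Agent.Lib.Helper45 Groth.Agent.Lib.Helper49
  Groth.Agent.Lib.Helper45.RefHullBasic Groth.Agent.Lib.Helper11.GenLocus
  Groth.Agent.Lib.Helper11.IdealGen Groth.Agent.Lib.Helper11.MulHom
  Groth.Agent.Lib.Helper11.CounitEpi Groth.Agent.Lib.Helper11.PullbackBasis
  Groth.Agent.Lib.Helper11.PullbackTensor Groth.Agent.Lib.Helper11.CounitEpi2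
  Groth.Agent.Lib.Helper11.PullbackAmple Groth.Agent.Lib.Helper11.PullbackAmple2
  Groth.Agent.Lib.Helper11.RelAmpleBaseChange Groth.Agent.Lib.Helper11.RelAmpleComp

/-- the tensor product of pullbacks of ample modules along two morphisms `r₁, r₂` such that
`r₁⁻¹ G₁ ∩ r₂⁻¹ G₂` is affine for affine `G₁, G₂` is ample. -/
theorem isAmple_tensor_pullbacks {T W₁ W₂ : Scheme.{u}} [CompactSpace T] (r₁ : T ⟶ W₁)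
    (r₂ : T ⟶ W₂) {A₁ : W₁.Modules} {A₂ : W₂.Modules} (hA₁ : CohB1.IsAmple A₁)
    (hA₂ : CohB1.IsAmple A₂)
    (haff : ∀ (G₁ : W₁.Opens) (G₂ : W₂.Opens), IsAffineOpen G₁ → IsAffineOpen G₂ →
      IsAffineOpen (r₁ ⁻¹ᵁ G₁ ⊓ r₂ ⁻¹ᵁ G₂)) :
    CohB1.IsAmple (CohB1.tensorMod ((Scheme.Modules.pullback r₁).obj A₁)
      ((Scheme.Modules.pullback r₂).obj A₂)) := by
  have hB₁ := isInvertible_pullback r₁ hA₁.1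
  have hB₂ := isInvertible_pullback r₂ hA₂.1
  refine ⟨isInvertible_tensorMod hB₁ hB₂, inferInstance, fun x => ?_⟩
  obtain ⟨n₁, s₁, hx₁, ha₁⟩ := hA₁.2.2 (r₁.base x)
  obtain ⟨n₂, s₂, hx₂, ha₂⟩ := hA₂.2.2 (r₂.base x)
  obtain ⟨N, hN⟩ : ∃ N, (n₁ + 1) * (n₂ + 1) = N + 1 :=
    Nat.exists_eq_succ_of_ne_zero (by positivity)
  obtain ⟨σ₁, hσ₁⟩ := exists_pow_section hA₁.1 n₁ n₂ N hN s₁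
  obtain ⟨σ₂, hσ₂⟩ := exists_pow_section hA₂.1 n₂ n₁ N (by rw [mul_comm]; exact hN) s₂
  have hloc : CohB1.genLocus _ (SecTwist.tmulHom (pullPowSec r₁ hA₁.1 (N + 1) σ₁)
      (pullPowSec r₂ hA₂.1 (N + 1) σ₂) ≫ (tensorPowTensor _ _ (N + 1)).hom) =
      r₁ ⁻¹ᵁ CohB1.genLocus _ s₁ ⊓ r₂ ⁻¹ᵁ CohB1.genLocus _ s₂ := by
    rw [genLocus_comp_iso, genLocus_tmulHom T _ _ (isInvertible_tensorPow hB₁ (N + 1))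
      (isInvertible_tensorPow hB₂ (N + 1)), genLocus_pullPowSec, genLocus_pullPowSec, hσ₁, hσ₂]
  refine ⟨N, SecTwist.tmulHom (pullPowSec r₁ hA₁.1 (N + 1) σ₁)
      (pullPowSec r₂ hA₂.1 (N + 1) σ₂) ≫ (tensorPowTensor _ _ (N + 1)).hom, ?_, ?_⟩
  · rw [hloc]
    exact ⟨hx₁, hx₂⟩
  · rw [hloc]
    exact haff _ _ ha₁ ha₂


theorem isAmple_restrict_externalTensor_aux {P Q X₁ X₂ Y₁ Y₂ : Scheme.{u}} (f₁ : X₁ ⟶ Y₁)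
    (f₂ : X₂ ⟶ Y₂) (p₁ : P ⟶ X₁) (p₂ : P ⟶ X₂) (F : P ⟶ Q) [QuasiCompact F] (q₁ : Q ⟶ Y₁)
    (q₂ : Q ⟶ Y₂) (e₁ : F ≫ q₁ = p₁ ≫ f₁) (e₂ : F ≫ q₂ = p₂ ≫ f₂) (V₁ : Y₁.Opens) (V₂ : Y₂.Opens)
    (hO : IsAffineOpen (q₁ ⁻¹ᵁ V₁ ⊓ q₂ ⁻¹ᵁ V₂))
    (haffP : ∀ (G₁ : X₁.Opens) (G₂ : X₂.Opens), IsAffineOpen G₁ → IsAffineOpen G₂ →
      G₁ ≤ f₁ ⁻¹ᵁ V₁ → G₂ ≤ f₂ ⁻¹ᵁ V₂ → IsAffineOpen (p₁ ⁻¹ᵁ G₁ ⊓ p₂ ⁻¹ᵁ G₂))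
    (L₁ : X₁.Modules) (L₂ : X₂.Modules)
    (hA₁ : CohB1.IsAmple (L₁.restrict (f₁ ⁻¹ᵁ V₁).ι))
    (hA₂ : CohB1.IsAmple (L₂.restrict (f₂ ⁻¹ᵁ V₂).ι)) :
    CohB1.IsAmple ((CohB1.tensorMod ((Scheme.Modules.pullback p₁).obj L₁)
      ((Scheme.Modules.pullback p₂).obj L₂)).restrict (F ⁻¹ᵁ (q₁ ⁻¹ᵁ V₁ ⊓ q₂ ⁻¹ᵁ V₂)).ι) := by
  have hT₁ : F ⁻¹ᵁ (q₁ ⁻¹ᵁ V₁ ⊓ q₂ ⁻¹ᵁ V₂) ≤ p₁ ⁻¹ᵁ (f₁ ⁻¹ᵁ V₁) := by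
    intro x hx
    have h1 : (F ≫ q₁).base x ∈ V₁ := hx.1
    rw [e₁] at h1
    exact h1
  have hT₂ : F ⁻¹ᵁ (q₁ ⁻¹ᵁ V₁ ⊓ q₂ ⁻¹ᵁ V₂) ≤ p₂ ⁻¹ᵁ (f₂ ⁻¹ᵁ V₂) := by
    intro x hx
    have h1 : (F ≫ q₂).base x ∈ V₂ := hx.2
    rw [e₂] at h1
    exact h1
  have hTge : p₁ ⁻¹ᵁ (f₁ ⁻¹ᵁ V₁) ⊓ p₂ ⁻¹ᵁ (f₂ ⁻¹ᵁ V₂) ≤ F ⁻¹ᵁ (q₁ ⁻¹ᵁ V₁ ⊓ q₂ ⁻¹ᵁ V₂) := by
    rintro x ⟨hx1, hx2⟩
    have h1 : (p₁ ≫ f₁).base x ∈ V₁ := hx1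
    have h2 : (p₂ ≫ f₂).base x ∈ V₂ := hx2
    rw [← e₁] at h1
    rw [← e₂] at h2
    exact ⟨h1, h2⟩
  have hc : CompactSpace ((F ⁻¹ᵁ (q₁ ⁻¹ᵁ V₁ ⊓ q₂ ⁻¹ᵁ V₂) : P.Opens) : Scheme.{u}) :=
    isCompact_iff_compactSpace.mp
      (QuasiCompact.isCompact_preimage (f := F) _ (q₁ ⁻¹ᵁ V₁ ⊓ q₂ ⁻¹ᵁ V₂).2 hO.isCompact)
  have haff : ∀ (G₁ : ((f₁ ⁻¹ᵁ V₁ : X₁.Opens) : Scheme.{u}).Opens)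
      (G₂ : ((f₂ ⁻¹ᵁ V₂ : X₂.Opens) : Scheme.{u}).Opens), IsAffineOpen G₁ → IsAffineOpen G₂ →
      IsAffineOpen (p₁.resLE _ _ hT₁ ⁻¹ᵁ G₁ ⊓ p₂.resLE _ _ hT₂ ⁻¹ᵁ G₂) := by
    intro G₁ G₂ hG₁ hG₂
    have hle : p₁ ⁻¹ᵁ ((f₁ ⁻¹ᵁ V₁).ι ''ᵁ G₁) ⊓ p₂ ⁻¹ᵁ ((f₂ ⁻¹ᵁ V₂).ι ''ᵁ G₂) ≤
        F ⁻¹ᵁ (q₁ ⁻¹ᵁ V₁ ⊓ q₂ ⁻¹ᵁ V₂) := by
      refine le_trans ?_ hTge
      rintro x ⟨hx1, hx2⟩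
      exact ⟨(f₁ ⁻¹ᵁ V₁).ι_image_le G₁ hx1, (f₂ ⁻¹ᵁ V₂).ι_image_le G₂ hx2⟩
    rw [← Scheme.Hom.isAffineOpen_iff_of_isOpenImmersion (F ⁻¹ᵁ (q₁ ⁻¹ᵁ V₁ ⊓ q₂ ⁻¹ᵁ V₂)).ι,
      Scheme.Hom.resLE_preimage, Scheme.Hom.resLE_preimage, ← Scheme.Hom.preimage_inf,
      Scheme.Hom.image_preimage_eq_opensRange_inf, Scheme.Opens.opensRange_ι,
      inf_eq_right.mpr hle]
    exact haffP _ _ (hG₁.image_of_isOpenImmersion _) (hG₂.image_of_isOpenImmersion _)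
      ((f₁ ⁻¹ᵁ V₁).ι_image_le G₁) ((f₂ ⁻¹ᵁ V₂).ι_image_le G₂)
  have h1 := isAmple_tensor_pullbacks (p₁.resLE _ _ hT₁) (p₂.resLE _ _ hT₂) hA₁ hA₂ haff
  refine isAmple_of_iso ?_ h1
  exact tensorModCongr
      (pullbackSquareIso (F ⁻¹ᵁ (q₁ ⁻¹ᵁ V₁ ⊓ q₂ ⁻¹ᵁ V₂)).ι (f₁ ⁻¹ᵁ V₁).ι (p₁.resLE _ _ hT₁) p₁
        (p₁.resLE_comp_ι hT₁).symm L₁).symm
      (pullbackSquareIso (F ⁻¹ᵁ (q₁ ⁻¹ᵁ V₁ ⊓ q₂ ⁻¹ᵁ V₂)).ι (f₂ ⁻¹ᵁ V₂).ι (p₂.resLE _ _ hT₂) p₂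
        (p₂.resLE_comp_ι hT₂).symm L₂).symm ≪≫
    restrictTensorIso (F ⁻¹ᵁ (q₁ ⁻¹ᵁ V₁ ⊓ q₂ ⁻¹ᵁ V₂)).ι _ _

theorem relAmple_externalTensor {X₁ X₂ Y₁ Y₂ S : Scheme.{u}} (a₁ : Y₁ ⟶ S) (a₂ : Y₂ ⟶ S)
    (f₁ : X₁ ⟶ Y₁) (f₂ : X₂ ⟶ Y₂) [QuasiCompact f₁] [QuasiCompact f₂] (L₁ : X₁.Modules)
    (L₂ : X₂.Modules) (hL₁ : RelAmple.IsRelAmple f₁ L₁) (hL₂ : RelAmple.IsRelAmple f₂ L₂) :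
    RelAmple.IsRelAmple
      (pullback.map (f₁ ≫ a₁) (f₂ ≫ a₂) a₁ a₂ f₁ f₂ (𝟙 S) (Category.comp_id (f₁ ≫ a₁))
        (Category.comp_id (f₂ ≫ a₂)))
      (CohB1.tensorMod ((Scheme.Modules.pullback (pullback.fst (f₁ ≫ a₁) (f₂ ≫ a₂))).obj L₁)
        ((Scheme.Modules.pullback (pullback.snd (f₁ ≫ a₁) (f₂ ≫ a₂))).obj L₂)) := by
  have hF : QuasiCompact (pullback.map (f₁ ≫ a₁) (f₂ ≫ a₂) a₁ a₂ f₁ f₂ (𝟙 S)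
      (Category.comp_id (f₁ ≫ a₁)) (Category.comp_id (f₂ ≫ a₂))) :=
    MorphismProperty.pullbackMap (P := @QuasiCompact) inferInstance inferInstance rfl rfl
  -- the cover of the base
  let ι : Type u := {p : Y₁.Opens × Y₂.Opens × S.Opens // IsAffineOpen p.1 ∧ IsAffineOpen p.2.1 ∧
    IsAffineOpen p.2.2 ∧ p.1 ≤ a₁ ⁻¹ᵁ p.2.2 ∧ p.2.1 ≤ a₂ ⁻¹ᵁ p.2.2}
  let U : ι → (pullback a₁ a₂).Opens := fun p =>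
    pullback.fst a₁ a₂ ⁻¹ᵁ p.1.1 ⊓ pullback.snd a₁ a₂ ⁻¹ᵁ p.1.2.1
  have hU : ⨆ i, U i = ⊤ := by
    rw [eq_top_iff]
    intro y _
    obtain ⟨_, ⟨S', hS', rfl⟩, hyS', -⟩ := S.isBasis_affineOpens.exists_subset_of_mem_open
      (Set.mem_univ ((pullback.fst a₁ a₂ ≫ a₁).base y)) isOpen_univ
    obtain ⟨_, ⟨V₁, hV₁, rfl⟩, hyV₁, hV₁S⟩ := Y₁.isBasis_affineOpens.exists_subset_of_mem_open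
      (show (pullback.fst a₁ a₂).base y ∈ (a₁ ⁻¹ᵁ S' : Y₁.Opens).1 from hyS') (a₁ ⁻¹ᵁ S').2
    have hyS'2 : (pullback.snd a₁ a₂ ≫ a₂).base y ∈ S' := by
      rw [← pullback.condition]; exact hyS'
    obtain ⟨_, ⟨V₂, hV₂, rfl⟩, hyV₂, hV₂S⟩ := Y₂.isBasis_affineOpens.exists_subset_of_mem_open
      (show (pullback.snd a₁ a₂).base y ∈ (a₂ ⁻¹ᵁ S' : Y₂.Opens).1 from hyS'2) (a₂ ⁻¹ᵁ S').2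
    exact Opens.mem_iSup.mpr ⟨⟨(V₁, V₂, S'), hV₁, hV₂, hS', hV₁S, hV₂S⟩, hyV₁, hyV₂⟩
  rw [Groth.Agent.S4380.main_S4380 _ _ U hU]
  rintro ⟨⟨V₁, V₂, S'⟩, hV₁, hV₂, hS', hV₁S, hV₂S⟩
  have hO : IsAffineOpen (pullback.fst a₁ a₂ ⁻¹ᵁ V₁ ⊓ pullback.snd a₁ a₂ ⁻¹ᵁ V₂) :=
    isAffineOpen_pullback_inf hV₁ hV₂ hS' hV₁S hV₂S
  have : IsAffine ((pullback.fst a₁ a₂ ⁻¹ᵁ V₁ ⊓ pullback.snd a₁ a₂ ⁻¹ᵁ V₂ :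
    (pullback a₁ a₂).Opens) : Scheme.{u}) := hO
  change RelAmple.IsRelAmple (_ ∣_ (pullback.fst a₁ a₂ ⁻¹ᵁ V₁ ⊓ pullback.snd a₁ a₂ ⁻¹ᵁ V₂)) _
  rw [Groth.Agent.S4381.main_S4381]
  have e₁ : pullback.map (f₁ ≫ a₁) (f₂ ≫ a₂) a₁ a₂ f₁ f₂ (𝟙 S) (Category.comp_id (f₁ ≫ a₁))
      (Category.comp_id (f₂ ≫ a₂)) ≫ pullback.fst a₁ a₂ =
      pullback.fst (f₁ ≫ a₁) (f₂ ≫ a₂) ≫ f₁ := pullback.lift_fst _ _ _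
  have e₂ : pullback.map (f₁ ≫ a₁) (f₂ ≫ a₂) a₁ a₂ f₁ f₂ (𝟙 S) (Category.comp_id (f₁ ≫ a₁))
      (Category.comp_id (f₂ ≫ a₂)) ≫ pullback.snd a₁ a₂ =
      pullback.snd (f₁ ≫ a₁) (f₂ ≫ a₂) ≫ f₂ := pullback.lift_snd _ _ _
  exact isAmple_restrict_externalTensor_aux f₁ f₂ _ _ _ _ _ e₁ e₂ V₁ V₂ hO
    (fun G₁ G₂ hG₁ hG₂ h1 h2 => isAffineOpen_pullback_inf hG₁ hG₂ hS'
      (fun x hx => hV₁S (h1 hx)) (fun x hx => hV₂S (h2 hx)))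
    L₁ L₂ (hL₁.2 ⟨V₁, hV₁⟩) (hL₂.2 ⟨V₂, hV₂⟩)

end Groth.Agent.Lib.Helper11.RelAmpleProd
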