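import Mathlib
import Groth.Prelude.Def_ExtSupp
import Groth.Agent.Lib.Helper33.RelExtSS
import Groth.Agent.Lib.Helper17.ProjSpaceProper
import Groth.Agent.Lib.Helper11.SerreSS
import Groth.Agent.Lib.Helper11.ExtShCoh

set_option autoImplicit false
universe u
open CategoryTheory Limits Opposite AlgebraicGeometry
open scoped ZeroObject

namespace Groth.Agent.Lib.Helper11.RelExtCoh

open Groth.Agent.Lib.Helper33.GrothSS

/-- the spectral sequence `R^a f_* Ext^b(F, G) ⇒ Ext^{a+b}_f(F, G)`. -/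
theorem relExt_ss (X Y : Scheme.{u}) (f : X ⟶ Y) (F G : X.Modules)
    [ModSite.HasSheafHom (O := X.sheaf) F] [HasInjectiveResolutions (ModSite.Mod X.sheaf)]
    [(ModSite.sheafHom (O := X.sheaf) F ⋙ Scheme.Modules.pushforward f).Additive] :
    haveI : HasInjectiveResolutions X.Modules := ‹HasInjectiveResolutions (ModSite.Mod X.sheaf)›
    ∃ (E : E₂CohomologicalSpectralSequence Y.Modules)
      (a : SpSeq.Abutment E (fun n : ℤ =>
        if 0 ≤ n then ((ModSite.sheafHom (O := X.sheaf) F ⋙ Scheme.Modules.pushforward f).rightDerived n.toNat).obj G else (0 : Y.Modules))),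
      (∀ n : ℤ, a.IsFinite n) ∧ SpSeq.IsBounded E ∧
      ∀ p q : ℤ, Nonempty ((E.page 2 le_rfl).X (p, q) ≅
        (if 0 ≤ p ∧ 0 ≤ q then (Coh.Rpush f p.toNat).obj ((ModSite.extSh (O := X.sheaf) F q.toNat).obj G)
          else (0 : Y.Modules))) := by
  have hI : HasInjectiveResolutions X.Modules := ‹HasInjectiveResolutions (ModSite.Mod X.sheaf)›
  have hSl : PreservesFiniteLimits (Scheme.Modules.pushforward f) := by
    have : PreservesLimitsOfSize.{0, 0} (Scheme.Modules.pushforward f) :=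
      (Scheme.Modules.pullbackPushforwardAdjunction f).rightAdjoint_preservesLimits
    exact PreservesLimitsOfSize.preservesFiniteLimits _
  let T : X.Modules ⥤ X.Modules := ModSite.sheafHom (O := X.sheaf) F
  have hTa : T.Additive := ModSite.sheafHom_additive X.sheaf _
  exact @grothendieck_ss X.Modules X.Modules Y.Modules _ _ _
    AlgebraicGeometry.Scheme.Modules.instAbelian _ _ hI hI T hTa (Scheme.Modules.pushforward f) _ hSl
    (fun Q hQ q hq => by
      obtain ⟨k, rfl⟩ : ∃ k, q = k + 1 := ⟨q - 1, by omega⟩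
      have h := Groth.Agent.Lib.Helper33.RelExtSS.isZero_Rpush_push_sheafHom (𝟙 X) f F Q hQ k
      exact IsZero.of_iso h ((Coh.Rpush f (k + 1)).mapIso
        ((Scheme.Modules.pushforwardId X).app ((ModSite.sheafHom (O := X.sheaf) F).obj Q)).symm))
    G (fun n => ((T ⋙ Scheme.Modules.pushforward f).rightDerived n).obj G) (fun n => ⟨Iso.refl _⟩)
    (fun p q => (Coh.Rpush f p).obj ((T.rightDerived q).obj G)) (fun p q => ⟨Iso.refl _⟩)

open Groth.Agent.Lib.Helper11.SerreSS Groth.Agent.Lib.Helper16.CohThick in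
theorem isCoh_relExt (X Y : Scheme.{u}) [IsNoetherian Y] (f : X ⟶ Y)
    (n : ℕ) (e : X ⟶ CohB1.ProjSpaceOver n Y) [IsClosedImmersion e]
    (he : e ≫ CohB1.ProjSpaceOver.toBase n Y = f)
    (F G : X.Modules) (hF : Coh.IsCoh F) (hG : Coh.IsCoh G)
    [ModSite.HasSheafHom (O := X.sheaf) F] [HasInjectiveResolutions (ModSite.Mod X.sheaf)]
    [(ModSite.sheafHom (O := X.sheaf) F ⋙ Scheme.Modules.pushforward f).Additive] (p : ℕ)
    (h36 : ∀ {X S : Scheme.{u}} (f : X ⟶ S) [IsProper f]
      [IsLocallyNoetherian S] [HasInjectiveResolutions X.Modules] (M : X.Modules) (_ : Coh.IsCoh M)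
      (i : ℕ), Coh.IsCoh ((Coh.Rpush f i).obj M)) :
    Coh.IsCoh (((ModSite.sheafHom (O := X.sheaf) F ⋙ Scheme.Modules.pushforward f).rightDerived p).obj G) := by
  have hI : HasInjectiveResolutions X.Modules := ‹HasInjectiveResolutions (ModSite.Mod X.sheaf)›
  have hprop : IsProper f := by
    have := Groth.Agent.Lib.Helper17.ProjSpaceProper.isProper_toBase n Y
    rw [← he]
    infer_instance
  have hX : IsLocallyNoetherian X := LocallyOfFiniteType.isLocallyNoetherian f
  obtain ⟨E, a, hfin, -, hpage⟩ := relExt_ss X Y f F G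
  have h := abutment_mem_of_E₂ (cohP Y) E a
    (fun p q => (Coh.Rpush f p).obj ((ModSite.extSh (O := X.sheaf) F q).obj G)) hpage
    (fun p q => h36 f _ (Groth.Agent.Lib.Helper11.ExtShCoh.isCoh_extSh F G hF hG q) p)
    (p : ℤ) (hfin _)
  simpa using h

end Groth.Agent.Lib.Helper11.RelExtCoh
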