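import Mathlib
import Groth.Agent.Lib.Helper11.ExtShDual
import Groth.Agent.Lib.Helper11.ExtFinLocFree
import Groth.Agent.Lib.Helper5.RDerPrecomp

/-!
# Relative Ext sheaves and tensoring with finite locally free modules (helper11)

* `tensorModMapIso`, `swapIso : (A ⊗ P) ⊗ F ≅ (A ⊗ F) ⊗ P`, `swapNat`.
* `kappa : Hom(F, -) ⊗ P ≅ Hom(F, - ⊗ P)` for `P` in a dual pair.
* `relExtSh_tensor`: `Ext^p_f(F ⊗ L, G ⊗ f^* N) ≅ Ext^p_f(F, G ⊗ L^∨) ⊗ N`.
-/

set_option autoImplicit false
set_option linter.style.haveILetI false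
namespace Groth.Agent.Lib.Helper11.RelExtSh
open AlgebraicGeometry CategoryTheory TopologicalSpace Opposite Limits MonoidalCategory
open Groth.Agent.Lib.Helper45 Groth.Agent.Lib.Helper49 Groth.Agent.Lib.Helper11.GenLocus
  Groth.Agent.Lib.Helper11.TensorMap Groth.Agent.Lib.Helper11.FinFreeBasis
  Groth.Agent.Lib.Helper11.TensorFormulas Groth.Agent.Lib.Helper11.FinFreeAdj
  Groth.Agent.Lib.Helper11.ProjFormulaRq Groth.Agent.Lib.Helper11.ExtShDual
  Groth.Agent.Lib.Helper11.ExtFinLocFree

universe u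
variable {X : Scheme.{u}}

/-- `tensorModMap` of isomorphisms, as an isomorphism. -/
noncomputable def tensorModMapIso {M M' N N' : X.Modules} (e : M ≅ M') (e' : N ≅ N') :
    CohB1.tensorMod M N ≅ CohB1.tensorMod M' N' where
  hom := tensorModMap e.hom e'.hom
  inv := tensorModMap e.inv e'.inv
  hom_inv_id := by rw [← tensorModMap_comp, e.hom_inv_id, e'.hom_inv_id, tensorModMap_id]
  inv_hom_id := by rw [← tensorModMap_comp, e.inv_hom_id, e'.inv_hom_id, tensorModMap_id]

/-- swap the last two factors: `(A ⊗ P) ⊗ F ≅ (A ⊗ F) ⊗ P`. -/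
noncomputable def swapIso (A P F : X.Modules) :
    CohB1.tensorMod (CohB1.tensorMod A P) F ≅ CohB1.tensorMod (CohB1.tensorMod A F) P :=
  tensorModAssoc A P F ≪≫ tensorModMapIso (Iso.refl A) (tensorModBraid P F) ≪≫
    (tensorModAssoc A F P).symm

theorem swapIso_hom_tm (A P F : X.Modules) (W : X.Opens) (a : Γ(A, W)) (p : Γ(P, W))
    (f : Γ(F, W)) :
    (swapIso A P F).hom.app W (tm _ F W (tm A P W a p) f) = tm _ P W (tm A F W a f) p := by
  have h1 : (swapIso A P F).hom.app W (tm _ F W (tm A P W a p) f) =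
    (tensorModAssoc A F P).inv.app W ((tensorModMap (𝟙 A) (tensorModBraid P F).hom).app W
      ((tensorModAssoc A P F).hom.app W (tm _ F W (tm A P W a p) f))) := rfl
  rw [h1, tensorModAssoc_hom_tm, tensorModMap_tm, tensorModBraid_hom_tm, DualPair.id_app_apply,
    tensorModAssoc_inv_tm]

/-- swapping the last two factors, as a natural isomorphism. -/
noncomputable def swapNat {P : X.Modules}
    (hP : ∀ x : X, ∃ (V : X.Opens) (n : ℕ) (e : Fin n → Γ(P, V)), x ∈ V ∧ IsBasisFam P V e)
    (F : X.Modules) : tensR P ⋙ tensR F ≅ tensR F ⋙ tensR P :=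
  NatIso.ofComponents (fun A => swapIso A P F) (fun {A B} u => by
    change tensorModMap (tensorModMap u (𝟙 P)) (𝟙 F) ≫ (swapIso B P F).hom =
      (swapIso A P F).hom ≫ tensorModMap (tensorModMap u (𝟙 F)) (𝟙 P)
    apply hom_ext_tm2' hP
    intro W a p q
    rw [DualPair.comp_app_apply, DualPair.comp_app_apply, tensorModMap_tm, tensorModMap_tm,
      swapIso_hom_tm, swapIso_hom_tm, tensorModMap_tm, tensorModMap_tm])


theorem DualPair.exists_basisQ {P Q : X.Modules} (D : DualPair P Q) (x : X) :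
    ∃ (V : X.Opens) (n : ℕ) (e : Fin n → Γ(Q, V)), x ∈ V ∧ IsBasisFam Q V e := by
  obtain ⟨V, n, e, e', hx, h⟩ := D.loc x
  exact ⟨V, n, e', hx, h.basisQ⟩

/-- the adjunction `(- ⊗ F) ⊣ Hom(F, -)` with our tensor functor. -/
noncomputable def adjSheafHom (F : X.Modules) [ModSite.HasSheafHom (O := X.sheaf) F] :
    tensRS F ⊣ ModSite.sheafHom (O := X.sheaf) F :=
  (ModSite.sheafHomAdj (O := X.sheaf) F).ofNatIsoLeft (siteTensRIso F)

/-- the adjunction of a dual pair, typed on `ModSite.Mod X.sheaf`. -/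
noncomputable def adjS {P Q : X.Modules} (D : DualPair P Q) : tensRS Q ⊣ tensRS P := D.adj

/-- `Hom(F, -) ⊗ P ≅ Hom(F, - ⊗ P)` for `P` in a dual pair. -/
noncomputable def kappa {P Q : X.Modules} (D : DualPair P Q) (F : X.Modules)
    [ModSite.HasSheafHom (O := X.sheaf) F] :
    ModSite.sheafHom (O := X.sheaf) F ⋙ tensRS P ≅ tensRS P ⋙ ModSite.sheafHom (O := X.sheaf) F :=
  conjugateIsoEquiv ((adjS D).comp (adjSheafHom F)) ((adjSheafHom F).comp (adjS D))
    (swapNat (DualPair.exists_basisQ D) F).symm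


theorem preservesFiniteLimits_tensR' {P Q : X.Modules} (D : DualPair P Q) :
    PreservesFiniteLimits (tensR P) := by
  haveI : PreservesLimitsOfSize.{0, 0} (tensR P) := preservesLimits_tensR D
  infer_instance

theorem preservesFiniteColimits_tensR' {P Q : X.Modules} (D : DualPair P Q) :
    PreservesFiniteColimits (tensR P) := by
  haveI : PreservesColimitsOfSize.{0, 0} (tensR P) := preservesColimits_tensR D
  infer_instance

theorem preservesInjectiveObjects_tensRS {P Q : X.Modules} (D : DualPair P Q) :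
    (tensRS P).PreservesInjectiveObjects :=
  ⟨fun {I} hI => @injective_tensR X P Q D I hI⟩

open Groth.Agent.Lib.Helper11.ProjFormulaDerived in
theorem relExtSh_tensor {Y : Scheme.{u}} (f : X ⟶ Y) (F G L : X.Modules) (N : Y.Modules)
    (hL : FlatMod.IsFinLocFree L) (hN : FlatMod.IsFinLocFree N) (p : ℕ)
    [ModSite.HasSheafHom (O := X.sheaf) F] [ModSite.HasSheafHom (O := X.sheaf) L]
    [ModSite.HasSheafHom (O := X.sheaf) (CohB1.tensorMod F L)]
    [HasInjectiveResolutions (ModSite.Mod X.sheaf)]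
    [(ModSite.sheafHom (O := X.sheaf) F ⋙ Scheme.Modules.pushforward f).Additive]
    [(ModSite.sheafHom (O := X.sheaf) (CohB1.tensorMod F L) ⋙
      Scheme.Modules.pushforward f).Additive] :
    Nonempty (((ModSite.sheafHom (O := X.sheaf) (CohB1.tensorMod F L) ⋙
        Scheme.Modules.pushforward f).rightDerived p).obj
        (CohB1.tensorMod G ((Scheme.Modules.pullback f).obj N)) ≅
      CohB1.tensorMod (((ModSite.sheafHom (O := X.sheaf) F ⋙
        Scheme.Modules.pushforward f).rightDerived p).obj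
        (CohB1.tensorMod G ((ModSite.sheafHom (O := X.sheaf) L).obj (Coh.structureModule X)))) N) := by
  let Q := RefHull.dual L
  let DQ := (dualPairOfFinLocFree hL).symm
  have hN' : FlatMod.IsFinLocFree ((Scheme.Modules.pullback f).obj N) :=
    Groth.Agent.Lib.Helper11.ResProp.isFinLocFree_pullback f N hN
  let DN := dualPairOfFinLocFree hN
  let DN' := dualPairOfFinLocFree hN'
  let H := ModSite.sheafHom (O := X.sheaf) F ⋙ Scheme.Modules.pushforward f
  haveI := additive_tensRS DQ
  haveI := preservesFiniteLimits_tensRS DQ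
  haveI := preservesFiniteColimits_tensRS DQ
  haveI : (tensRS Q).PreservesHomology := Groth.Agent.Lib.Helper5.preservesHomology_of_exact _
  haveI := preservesInjectiveObjects_tensRS DQ
  haveI : ModSite.HasSheafHom (O := X.sheaf) (CohB1.tensorMod L F) :=
    Functor.isLeftAdjoint_of_iso ((ModSite.tensorBi X.sheaf).flip.mapIso (tensorModBraid F L))
  let isoA : ModSite.sheafHom (O := X.sheaf) (CohB1.tensorMod F L) ≅
      tensRS Q ⋙ ModSite.sheafHom (O := X.sheaf) F :=
    sheafHomCongr (tensorModBraid F L) ≪≫ sheafHomTensorIso hL F ≪≫ kappa DQ F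
  let isoB : ModSite.sheafHom (O := X.sheaf) (CohB1.tensorMod F L) ⋙
      Scheme.Modules.pushforward f ≅ tensRS Q ⋙ H :=
    Functor.isoWhiskerRight isoA (Scheme.Modules.pushforward f) ≪≫ Functor.associator _ _ _
  haveI : (tensRS Q ⋙ H).Additive :=
    { map_add := fun {A B u v} =>
        ((H.congr_map ((tensRS Q).map_add (f := u) (g := v))).trans (H.map_add)) }
  let i1 := (RDer.rightDerivedIso isoB p).app (CohB1.tensorMod G ((Scheme.Modules.pullback f).obj N))
  let i2 := Groth.Agent.Lib.Helper5.rightDerivedExactCompIso (tensRS Q) H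
    (CohB1.tensorMod G ((Scheme.Modules.pullback f).obj N)) p
  let i3 : (ModSite.sheafHom (O := X.sheaf) L).obj (Coh.structureModule X) ≅ Q :=
    (sheafHomIsoTensR hL).app (Coh.structureModule X) ≪≫ unitTensorIso Q
  let i4 : (tensRS Q).obj (CohB1.tensorMod G ((Scheme.Modules.pullback f).obj N)) ≅
      CohB1.tensorMod (CohB1.tensorMod G
        ((ModSite.sheafHom (O := X.sheaf) L).obj (Coh.structureModule X)))
        ((Scheme.Modules.pullback f).obj N) :=
    swapIso G ((Scheme.Modules.pullback f).obj N) Q ≪≫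
      tensorModMapIso (tensorModMapIso (Iso.refl G) i3.symm) (Iso.refl _)
  haveI := additive_tensRS DN'
  haveI := preservesFiniteLimits_tensRS DN'
  haveI := preservesFiniteColimits_tensRS DN'
  haveI := additive_tensR DN
  haveI := preservesFiniteLimits_tensR' DN
  haveI := preservesFiniteColimits_tensR' DN
  haveI : PreservesFiniteLimits H := by
    haveI : PreservesLimitsOfSize.{0, 0} (ModSite.sheafHom (O := X.sheaf) F) :=
      (ModSite.sheafHomAdj (O := X.sheaf) F).rightAdjoint_preservesLimits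
    have h1 : PreservesFiniteLimits (ModSite.sheafHom (O := X.sheaf) F) := inferInstance
    have h2 : PreservesFiniteLimits (Scheme.Modules.pushforward f) := inferInstance
    exact @comp_preservesFiniteLimits _ _ _ _ _ _ (ModSite.sheafHom (O := X.sheaf) F)
      (Scheme.Modules.pushforward f) h1 h2
  let e₀ : H ⋙ tensR N ≅ tensRS ((Scheme.Modules.pullback f).obj N) ⋙ H :=
    Functor.associator _ _ _ ≪≫
      Functor.isoWhiskerLeft (ModSite.sheafHom (O := X.sheaf) F) (thetaIso f N hN) ≪≫
      (Functor.associator _ _ _).symm ≪≫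
      Functor.isoWhiskerRight (kappa DN' F) (Scheme.Modules.pushforward f) ≪≫
      Functor.associator _ _ _
  obtain ⟨e⟩ := Groth.Agent.Lib.Helper5.RDerExchange2.nonempty_rightDerived_exchange_iso₂
    (tensRS ((Scheme.Modules.pullback f).obj N)) (tensR N) H H e₀
    (fun I hI n => by
      haveI : Injective ((tensRS ((Scheme.Modules.pullback f).obj N)).obj I) :=
        @injective_tensR X _ _ DN' I hI
      exact Functor.isZero_rightDerived_obj_injective_succ _ n _) p
  exact ⟨i1 ≪≫ i2 ≪≫ (H.rightDerived p).mapIso i4 ≪≫ (e.app _).symm⟩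

end Groth.Agent.Lib.Helper11.RelExtSh
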