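import Mathlib
import Groth.Agent.Lib.Helper11.ResProp
import Groth.Agent.Lib.Helper11.CounitEpi2
import Groth.Agent.Lib.Helper11.AmpleSeparated

/-!
# The resolution property ascends along morphisms with a relatively ample invertible module

`genOnBy_tensorPow_of_affine`, `hgen_of_genOnBy_restrict`, `exists_twist_quotient`,
`isFinLocFree_tensorMod_of_isInvertible`, `exists_untwist`,
`hasResolutionProperty_of_relAmple`.
-/

set_option autoImplicit false
namespace Groth.Agent.Lib.Helper11.ResPropAmple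
open CategoryTheory CategoryTheory.Limits AlgebraicGeometry TopologicalSpace Opposite MonoidalCategory
open Groth.Agent.Lib.Helper45 Groth.Agent.Lib.Helper49 Groth.Agent.Lib.Helper11.GenLocus
open Groth.Agent.Lib.Helper11.NegPowers Groth.Agent.Lib.Helper11.TensorMap
  Groth.Agent.Lib.Helper11.ResProp

universe u
variable {X : Scheme.{u}}

theorem genOnBy_tensorPow_of_affine [CompactSpace X] [QuasiSeparatedSpace X] (F L : X.Modules)
    [F.IsQuasicoherent] (hF : SheafOfModules.IsFiniteType (R := X.ringCatSheaf) F)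
    (hL : PicF.IsInvertible L) (d : ℕ) (s : Coh.structureModule X ⟶ CohB1.tensorPow L (d + 1))
    (hA : IsAffineOpen (CohB1.genLocus _ s)) :
    ∃ n₀ : ℕ, ∀ n, n₀ ≤ n → ∃ (r : ℕ) (v : Fin r → Γ(CohB1.tensorMod F (CohB1.tensorPow L n), ⊤)),
      GenOnBy (CohB1.tensorMod F (CohB1.tensorPow L n)) v (CohB1.genLocus _ s) := by
  classical
  have hP := isInvertible_tensorPow hL (d + 1)
  have hex : ∀ ρ : Fin (d + 1), ∃ K : ℕ, ∀ k, K ≤ k → ∃ (r : ℕ)
      (v : Fin r → Γ(CohB1.tensorMod (CohB1.tensorMod F (CohB1.tensorPow L ρ))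
        (CohB1.tensorPow (CohB1.tensorPow L (d + 1)) k), ⊤)),
      GenOnBy (CohB1.tensorMod (CohB1.tensorMod F (CohB1.tensorPow L ρ))
        (CohB1.tensorPow (CohB1.tensorPow L (d + 1)) k)) v (CohB1.genLocus _ s) := by
    intro ρ
    have hq := isQuasicoherent_tensorMod_of_isInvertible F (CohB1.tensorPow L ρ)
      (isInvertible_tensorPow hL ρ)
    exact genOnBy_twist_of_affine (CohB1.tensorMod F (CohB1.tensorPow L ρ))
      (CohB1.tensorPow L (d + 1))
      (isFiniteType_tensorMod_of_isInvertible F _ hF (isInvertible_tensorPow hL ρ)) hP s hA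
  choose K hK using hex
  refine ⟨(d + 1) * (Finset.univ.sup K + 1), fun n hn => ?_⟩
  have hρ : n % (d + 1) < d + 1 := Nat.mod_lt _ (Nat.succ_pos d)
  have hk : K ⟨n % (d + 1), hρ⟩ ≤ n / (d + 1) := by
    have h1 : K ⟨n % (d + 1), hρ⟩ ≤ Finset.univ.sup K := Finset.le_sup (Finset.mem_univ _)
    have h2 : Finset.univ.sup K + 1 ≤ n / (d + 1) := by
      rw [Nat.le_div_iff_mul_le (Nat.succ_pos d), mul_comm]
      exact hn
    omega
  obtain ⟨r, v, hgen⟩ := hK ⟨n % (d + 1), hρ⟩ (n / (d + 1)) hk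
  have hn' : n % (d + 1) + (d + 1) * (n / (d + 1)) = n := Nat.mod_add_div n (d + 1)
  exact ⟨r, _, hgen.of_iso (tensorModAssoc F (CohB1.tensorPow L (n % (d + 1)))
      (CohB1.tensorPow (CohB1.tensorPow L (d + 1)) (n / (d + 1))) ≪≫
    tensorModCongr (Iso.refl F)
      (tensorModCongr (Iso.refl _) (tensorPowMul L (d + 1) (n / (d + 1))) ≪≫
        (tensorPowAdd L (n % (d + 1)) ((d + 1) * (n / (d + 1)))).symm ≪≫
        eqToIso (congrArg (CohB1.tensorPow L) hn')))⟩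


theorem hgen_of_genOnBy_restrict (H : X.Modules) (U : X.Opens) {r : ℕ}
    (v : Fin r → Γ(H.restrict U.ι, ⊤)) (G' : (U : Scheme.{u}).Opens)
    (hg : GenOnBy (H.restrict U.ι) v G') :
    ∃ (g : Fin r → Γ(H, U)) (hW : U.ι ''ᵁ G' ≤ U),
      ∀ (V : X.Opens) (hV : V ≤ U.ι ''ᵁ G') (y : Γ(H, V)) (z : X), z ∈ V →
        ∃ (W' : X.Opens) (hW'V : W' ≤ V), z ∈ W' ∧
          mres H hW'V y ∈ Submodule.span Γ(X, W')
            (Set.range fun l => mres H ((hW'V.trans hV).trans hW) (g l)) := by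
  have htop : U ≤ U.ι ''ᵁ ⊤ := le_of_eq U.ι_image_top.symm
  have hW : U.ι ''ᵁ G' ≤ U := U.ι_image_le G'
  refine ⟨fun l => mres H htop (v l), hW, ?_⟩
  intro V hV y z hz
  have hzU : z ∈ U := hW (hV hz)
  have hle : U.ι ''ᵁ (U.ι ⁻¹ᵁ V) ≤ V := U.ι.image_preimage_le V
  have hV' : U.ι ⁻¹ᵁ V ≤ G' := by
    intro p hp
    obtain ⟨q, hq, hqp⟩ := hV hp
    have : q = p := U.ι.isOpenEmbedding.injective hqp
    exact this ▸ hq
  obtain ⟨W'', hW''V', hzW'', hmem⟩ := hg (U.ι ⁻¹ᵁ V) hV'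
    (show Γ(H.restrict U.ι, U.ι ⁻¹ᵁ V) from mres H hle y) ⟨z, hzU⟩ hz
  have hW₂ : U.ι ''ᵁ W'' ≤ V := (U.ι.image_mono hW''V').trans hle
  refine ⟨U.ι ''ᵁ W'', hW₂, ⟨⟨z, hzU⟩, hzW'', rfl⟩, ?_⟩
  have key : ∀ b ∈ Submodule.span Γ((U : Scheme.{u}), W'')
      (Set.range fun j : Fin r => mres (H.restrict U.ι) (le_top : W'' ≤ ⊤) (v j)),
      (show Γ(H, U.ι ''ᵁ W'') from b) ∈ Submodule.span Γ(X, U.ι ''ᵁ W'')
        (Set.range fun l => mres H ((hW₂.trans hV).trans hW) (mres H htop (v l))) := by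
    intro b hb
    induction hb using Submodule.span_induction with
    | mem b hb =>
      obtain ⟨j, rfl⟩ := hb
      refine Submodule.subset_span ⟨j, ?_⟩
      exact mres_mres H ((hW₂.trans hV).trans hW) htop (v j)
    | zero => exact Submodule.zero_mem _
    | add b₁ b₂ _ _ h₁ h₂ => exact Submodule.add_mem _ h₁ h₂
    | smul c b _ hb =>
      have := Submodule.smul_mem _ ((U.ι.appIso W'').inv c) hb
      exact this
  have h2 := key _ hmem
  have e : (show Γ(H, U.ι ''ᵁ W'') from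
      mres (H.restrict U.ι) hW''V' (show Γ(H.restrict U.ι, U.ι ⁻¹ᵁ V) from mres H hle y)) =
      mres H hW₂ y := mres_mres H (U.ι.image_mono hW''V') hle y
  rw [← e]
  exact h2


attribute [local instance] Abelian.hasFiniteBiproducts in
theorem exists_twist_quotient {Y : Scheme.{u}} (f : X ⟶ Y) [CompactSpace Y] [QuasiSeparatedSpace Y]
    (hY : PerfAux.HasResolutionProperty Y) (L : X.Modules) (hL : RelAmple.IsRelAmple f L)
    (F : X.Modules) (hF : Coh.IsQCoh F) (hF' : CohB1.IsFT F) :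
    ∃ (n : ℕ) (k : ℕ) (N : Fin k → X.Modules)
      (π : (⨁ N) ⟶ CohB1.tensorMod F (CohB1.tensorPow L n)),
      (∀ j, FlatMod.IsFinLocFree (N j)) ∧ Epi π := by
  classical
  have : F.IsQuasicoherent := hF
  have : QuasiCompact f := hL.1
  have : CompactSpace X := QuasiCompact.compactSpace_of_compactSpace f
  have : IsSeparated f := Groth.Agent.Lib.Helper11.AmpleSeparated.isSeparated_of_isRelAmple f L hL
  have hLinv : PicF.IsInvertible L := Groth.Agent.Lib.Helper11.RelAmpleComp.isInvertible_of_isRelAmple f L hL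
  have hloc : ∀ x : X, ∃ (Y' : Y.Opens) (W : X.Opens) (hW : W ≤ f ⁻¹ᵁ Y'), IsAffineOpen Y' ∧ x ∈ W ∧
      ∃ n₁ : ℕ, ∀ n, n₁ ≤ n → ∃ (r : ℕ)
        (g : Fin r → Γ(CohB1.tensorMod F (CohB1.tensorPow L n), f ⁻¹ᵁ Y')),
        ∀ (V : X.Opens) (hV : V ≤ W) (y : Γ(CohB1.tensorMod F (CohB1.tensorPow L n), V)) (z : X),
          z ∈ V → ∃ (W' : X.Opens) (hW'V : W' ≤ V), z ∈ W' ∧
            mres _ hW'V y ∈ Submodule.span Γ(X, W')
              (Set.range fun l => mres _ ((hW'V.trans hV).trans hW) (g l)) := by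
    intro x
    obtain ⟨_, ⟨Y', hY', rfl⟩, hxY', -⟩ :=
      Y.isBasis_affineOpens.exists_subset_of_mem_open (Set.mem_univ (f.base x)) isOpen_univ
    have hample := hL.2 ⟨Y', hY'⟩
    have hc : CompactSpace ((f ⁻¹ᵁ Y' : X.Opens) : Scheme.{u}) := hample.2.1
    have hsep : ((f ⁻¹ᵁ Y' : X.Opens) : Scheme.{u}).IsSeparated :=
      Groth.Agent.Lib.Helper11.AmpleSeparated.isSeparated_of_cover_by_affine_genLocus _ _
        hample.1 hample.2.2
    have hx' : x ∈ f ⁻¹ᵁ Y' := hxY'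
    obtain ⟨d, s, hxs, hA⟩ := hample.2.2 ⟨x, hx'⟩
    obtain ⟨n₀, hn₀⟩ := genOnBy_tensorPow_of_affine (F.restrict (f ⁻¹ᵁ Y').ι)
      (L.restrict (f ⁻¹ᵁ Y').ι) (isFiniteType_restrict F _ hF') hample.1 d s hA
    refine ⟨Y', (f ⁻¹ᵁ Y').ι ''ᵁ (CohB1.genLocus _ s), (f ⁻¹ᵁ Y').ι_image_le _, hY',
      ⟨⟨x, hx'⟩, hxs, rfl⟩, n₀, fun n hn => ?_⟩
    obtain ⟨r, v, hv⟩ := hn₀ n hn
    have hv' := hv.of_iso (tensorModCongr (Iso.refl _) (restrictTensorPowIso (f ⁻¹ᵁ Y').ι L n) ≪≫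
        restrictTensorIso (f ⁻¹ᵁ Y').ι F (CohB1.tensorPow L n))
    obtain ⟨g, hW, hg⟩ := hgen_of_genOnBy_restrict (CohB1.tensorMod F (CohB1.tensorPow L n))
      (f ⁻¹ᵁ Y') _ _ hv'
    exact ⟨r, g, hg⟩
  choose Y' W hW hY' hxW n₁ hn₁ using hloc
  obtain ⟨S, hS⟩ := isCompact_univ.elim_finite_subcover
    (fun x => ((W x : X.Opens) : Set X))
    (fun x => (W x).isOpen) (fun x _ => Set.mem_iUnion.mpr ⟨x, hxW x⟩)
  refine ⟨S.sup n₁, ?_⟩
  have hq : (CohB1.tensorMod F (CohB1.tensorPow L (S.sup n₁))).IsQuasicoherent :=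
    isQuasicoherent_tensorMod_of_isInvertible F _ (isInvertible_tensorPow hLinv _)
  apply exists_finLocFree_quotient f hY
  intro x
  obtain ⟨i, hi, hxi⟩ := Set.mem_iUnion₂.mp (hS (Set.mem_univ x))
  obtain ⟨r, g, hg⟩ := hn₁ i (S.sup n₁) (Finset.le_sup hi)
  exact ⟨Y' i, hY' i, r, g, W i, hW i, hxi, hg⟩


theorem isFinLocFree_tensorMod_of_isInvertible (N M : X.Modules) (hN : FlatMod.IsFinLocFree N)
    (hM : PicF.IsInvertible M) : FlatMod.IsFinLocFree (CohB1.tensorMod N M) := by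
  have hq : N.IsQuasicoherent := Groth.Agent.Lib.Helper49.isQuasicoherent_of_isFinLocFree N hN
  have hq' := isQuasicoherent_tensorMod_of_isInvertible N M hM
  refine Groth.Agent.Lib.Helper49.isFinLocFree_of_finite_projective_cover _ fun x => ?_
  obtain ⟨V, hxV, e₀, he₀⟩ := exists_isBasisOn_of_isInvertible hM x
  obtain ⟨_, ⟨U, hU, rfl⟩, hxU, hUV⟩ := X.isBasis_affineOpens.exists_subset_of_mem_open hxV V.2
  obtain ⟨hfin, hproj⟩ :=
    Groth.Agent.Lib.Helper49.finite_projective_sections_of_isFinLocFree N hN hU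
  let φ : Γ(N, U) →ₗ[Γ(X, U)] Γ(CohB1.tensorMod N M, U) :=
    { toFun := fun m => tm N M U m (mres M hUV e₀)
      map_add' := fun m m' => tm_add_left N M U m m' _
      map_smul' := fun r m => tm_smul_left N M U r m _ }
  have hbij : Function.Bijective φ := tm_basis_bijective N M V e₀ he₀ U hUV
  let e := LinearEquiv.ofBijective φ hbij
  exact ⟨U, hU, hxU, Module.Finite.equiv e, Module.Projective.of_equiv e⟩

attribute [local instance] Abelian.hasFiniteBiproducts in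
theorem exists_untwist {F Q : X.Modules} (hQ : PicF.IsInvertible Q) {k : ℕ} (N : Fin k → X.Modules)
    (π : (⨁ N) ⟶ CohB1.tensorMod F Q) [Epi π] (hN : ∀ j, FlatMod.IsFinLocFree (N j)) :
    ∃ (E : X.Modules) (ρ : E ⟶ F), FlatMod.IsFinLocFree E ∧ Epi ρ := by
  obtain ⟨M, hM, ⟨e₁⟩⟩ := exists_inverse hQ
  let ε : CohB1.tensorMod Q M ≅ Coh.structureModule X := tensorModBraid Q M ≪≫ e₁
  let ψ : ∀ j, CohB1.tensorMod (N j) M ⟶ F := fun j =>
    tensorModMap (biproduct.ι N j ≫ π) (𝟙 M) ≫ (psiIso F ε).hom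
  refine ⟨⨁ fun j => CohB1.tensorMod (N j) M, biproduct.desc ψ,
    isFinLocFree_biproduct _ fun j => isFinLocFree_tensorMod_of_isInvertible _ _ (hN j) hM, ?_⟩
  apply epi_desc_of_locally_sum
  intro V y x hx
  set y' := (psiIso F ε).inv.app V y with hy'
  have hyy' : (psiIso F ε).hom.app V y' = y := iso_hom_inv_app _ V y
  obtain ⟨V', hxV', μ, hμ⟩ := exists_isBasisOn_of_isInvertible hM x
  obtain ⟨w, hw⟩ := tm_basis_surjective (CohB1.tensorMod F Q) M V' μ hμ (V ⊓ V') inf_le_right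
    (mres _ inf_le_left y')
  have hπ : Epi π := inferInstance
  rw [epi_iff_isLocallySurjective, TopCat.Presheaf.isLocallySurjective_iff] at hπ
  obtain ⟨W, hWV₁, ⟨ξ, hξ⟩, hxW⟩ := hπ (V ⊓ V') w x ⟨hx, hxV'⟩
  refine ⟨W, hWV₁.trans inf_le_left, hxW,
    fun j => tm (N j) M W ((biproduct.π N j).app W ξ) (mres M (hWV₁.trans inf_le_right) μ), ?_⟩
  have hψ : ∀ j, (ψ j).app W (tm (N j) M W ((biproduct.π N j).app W ξ)
      (mres M (hWV₁.trans inf_le_right) μ)) =
      (psiIso F ε).hom.app W (tm _ M W ((biproduct.ι N j ≫ π).app W ((biproduct.π N j).app W ξ))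
        (mres M (hWV₁.trans inf_le_right) μ)) := by
    intro j
    have h1 : (ψ j).app W (tm (N j) M W ((biproduct.π N j).app W ξ)
        (mres M (hWV₁.trans inf_le_right) μ)) =
        (psiIso F ε).hom.app W ((tensorModMap (biproduct.ι N j ≫ π) (𝟙 M)).app W
          (tm (N j) M W ((biproduct.π N j).app W ξ) (mres M (hWV₁.trans inf_le_right) μ))) := rfl
    rw [h1, tensorModMap_tm_id]
  simp only [hψ]
  rw [← map_sum, ← tm_sum_left]
  have hsum : ∑ j, (biproduct.ι N j ≫ π).app W ((biproduct.π N j).app W ξ) =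
      mres _ hWV₁ w := by
    have h0 : ∑ j, biproduct.π N j ≫ biproduct.ι N j ≫ π = π := by
      simp_rw [← Category.assoc]
      rw [← Preadditive.sum_comp, biproduct.total, Category.id_comp]
    have h2 := congrArg (fun φ : (⨁ N) ⟶ CohB1.tensorMod F Q => φ.app W ξ) h0
    simp only [] at h2
    rw [Groth.Agent.Lib.Helper11.AffineCrit.sum_app_apply] at h2
    exact h2.trans hξ
  rw [hsum]
  have h3 := congrArg (mres _ hWV₁) hw
  rw [tm_res, mres_mres] at h3
  rw [h3, app_mres, app_mres, hyy', mres_mres]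


theorem hasResolutionProperty_of_relAmple {Y : Scheme.{u}} (f : X ⟶ Y) [CompactSpace Y]
    [QuasiSeparatedSpace Y] (hY : PerfAux.HasResolutionProperty Y) (L : X.Modules)
    (hL : RelAmple.IsRelAmple f L) : PerfAux.HasResolutionProperty X := by
  intro F hF hF'
  obtain ⟨n, k, N, π, hN, hπ⟩ := exists_twist_quotient f hY L hL F hF hF'
  have hLinv := Groth.Agent.Lib.Helper11.RelAmpleComp.isInvertible_of_isRelAmple f L hL
  exact exists_untwist (isInvertible_tensorPow hLinv n) N π hN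

end Groth.Agent.Lib.Helper11.ResPropAmple
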