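import Mathlib
import Groth.Prelude.Def_SchLoc

/-!
Helper lemmas on local immersions / local isomorphisms (`SchLoc`), by helper11.

Main fact: `f` is a local immersion at `x` iff `U.ι ≫ f` is an immersion for some open `U ∋ x`.
-/

set_option autoImplicit false
universe u

namespace Groth.Agent.Lib.Helper11

open AlgebraicGeometry CategoryTheory

theorem isLocalImmersionAt_iff {X Y : Scheme.{u}} (f : X ⟶ Y) (x : X) :
    SchLoc.IsLocalImmersionAt f x ↔ ∃ U : X.Opens, x ∈ U ∧ IsImmersion (U.ι ≫ f) := by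
  constructor
  · rintro ⟨U, V, h, hxU, hcl⟩
    refine ⟨U, hxU, ?_⟩
    rw [← Scheme.Hom.resLE_comp_ι f h]
    infer_instance
  · rintro ⟨U, hxU, himm⟩
    have hle : U ≤ f ⁻¹ᵁ (U.ι ≫ f).coborderRange := by
      intro y hy
      change f y ∈ coborder (Set.range (U.ι ≫ f))
      exact subset_coborder ⟨⟨y, hy⟩, rfl⟩
    refine ⟨U, (U.ι ≫ f).coborderRange, hle, hxU, ?_⟩
    have : f.resLE (U.ι ≫ f).coborderRange U hle = (U.ι ≫ f).liftCoborder := by
      rw [← cancel_mono (U.ι ≫ f).coborderRange.ι]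
      simp
    rw [this]
    infer_instance

theorem isLocalImmersion_iff {X Y : Scheme.{u}} (f : X ⟶ Y) :
    SchLoc.IsLocalImmersion f ↔ ∀ x : X, ∃ U : X.Opens, x ∈ U ∧ IsImmersion (U.ι ≫ f) :=
  forall_congr' fun x => isLocalImmersionAt_iff f x

open Topology Limits

/-- A locally closed set is open in its closure: `s = O ∩ closure s` for some open `O`. -/
theorem exists_open_inter_closure_of_isLocallyClosed {α : Type*} [TopologicalSpace α] {s : Set α}
    (hs : IsLocallyClosed s) : ∃ O : Set α, IsOpen O ∧ s = O ∩ closure s := by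
  obtain ⟨O, hO, hOs⟩ := hs.isOpen_preimage_val_closure
  refine ⟨O, hO, ?_⟩
  ext y
  constructor
  · intro hy
    have hyc : y ∈ closure s := subset_closure hy
    have : (⟨y, hyc⟩ : closure s) ∈ (Subtype.val ⁻¹' O : Set (closure s)) := by
      rw [hOs]; exact hy
    exact ⟨this, hyc⟩
  · rintro ⟨hyO, hyc⟩
    have : (⟨y, hyc⟩ : closure s) ∈ (Subtype.val ⁻¹' s : Set (closure s)) := by
      rw [← hOs]; exact hyO
    exact this

/-- Key lemma: if `X` is irreducible, `f` is injective and every point has an open neighbourhood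
`U` with `U.ι ≫ f` an immersion, then the image of such `U` is open in the closure of the range. -/
theorem image_eq_open_inter_closure_range {X Y : Scheme.{u}} (f : X ⟶ Y) [IrreducibleSpace X]
    (U : X.Opens) (hne : (U : Set X).Nonempty) [IsImmersion (U.ι ≫ f)] :
    ∃ O : Set Y, IsOpen O ∧ f '' (U : Set X) = O ∩ closure (Set.range f) := by
  have hrange : Set.range (U.ι ≫ f) = f '' (U : Set X) := by
    ext y
    constructor
    · rintro ⟨u, rfl⟩
      exact ⟨u.1, u.2, rfl⟩
    · rintro ⟨x, hx, rfl⟩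
      exact ⟨⟨x, hx⟩, rfl⟩
  have hlc : IsLocallyClosed (f '' (U : Set X)) := by
    rw [← hrange]
    exact (U.ι ≫ f).isLocallyClosed_range
  have hdense : Dense (U : Set X) := U.isOpen.dense hne
  have hcl : closure (f '' (U : Set X)) = closure (Set.range f) := by
    apply le_antisymm
    · exact closure_mono (Set.image_subset_range _ _)
    · apply closure_minimal _ isClosed_closure
      rw [← Set.image_univ, ← hdense.closure_eq]
      exact image_closure_subset_closure_image f.continuous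
  obtain ⟨O, hO, hOs⟩ := exists_open_inter_closure_of_isLocallyClosed hlc
  exact ⟨O, hO, by rw [← hcl]; exact hOs⟩

theorem isImmersion_of_injective_of_isLocalImmersion {X Y : Scheme.{u}} (f : X ⟶ Y)
    [IrreducibleSpace X] (hloc : ∀ x : X, ∃ U : X.Opens, x ∈ U ∧ IsImmersion (U.ι ≫ f))
    (hinj : Function.Injective f) : IsImmersion f := by
  choose U hxU hU using hloc
  have key : ∀ x : X, ∃ O : Set Y, IsOpen O ∧ f '' (U x : Set X) = O ∩ closure (Set.range f) :=
    fun x => image_eq_open_inter_closure_range f (U x) ⟨x, hxU x⟩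
  choose O hO hOeq using key
  have hsurj : SurjectiveOnStalks f := by
    rw [IsZariskiLocalAtSource.iff_of_iSup_eq_top (P := @SurjectiveOnStalks) U]
    · intro x; infer_instance
    · rw [eq_top_iff]
      intro x _
      exact TopologicalSpace.Opens.mem_iSup.mpr ⟨x, hxU x⟩
  have hemb : IsEmbedding f := by
    refine ⟨?_, hinj⟩
    rw [isInducing_iff_nhds]
    intro x
    apply le_antisymm
    · exact f.continuous.continuousAt.tendsto.le_comap
    · intro W hW
      have hind2 : IsInducing ((U x).ι ≫ f) := ((U x).ι ≫ f).isEmbedding.isInducing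
      let x' : U x := ⟨x, hxU x⟩
      have hW'' : (U x).ι ⁻¹' W ∈ 𝓝 x' :=
        (U x).ι.continuous.continuousAt.preimage_mem_nhds (by exact hW)
      have hW3 := (hind2.nhds_eq_comap x').ge hW''
      rw [Filter.mem_comap] at hW3
      obtain ⟨O₁, hO₁, hO₁W⟩ := hW3
      have hfx : f x ∈ O x := by
        have : f x ∈ f '' (U x : Set X) := ⟨x, hxU x, rfl⟩
        rw [hOeq x] at this
        exact this.1
      rw [Filter.mem_comap]
      refine ⟨O₁ ∩ O x, Filter.inter_mem hO₁ ((hO x).mem_nhds hfx), ?_⟩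
      rintro z ⟨hz₁, hz₂⟩
      have hz : f z ∈ f '' (U x : Set X) := by
        rw [hOeq x]
        exact ⟨hz₂, subset_closure ⟨z, rfl⟩⟩
      obtain ⟨u, hu, huz⟩ := hz
      have := hinj huz
      subst this
      exact hO₁W (a := ⟨u, hu⟩) hz₁
  have hlc : IsLocallyClosed (Set.range f) := by
    refine ((isLocallyClosed_tfae (Set.range f)).out 0 3).mpr ?_
    rintro _ ⟨x, rfl⟩
    refine ⟨O x, ?_, hO x, ?_⟩
    · have : f x ∈ f '' (U x : Set X) := ⟨x, hxU x, rfl⟩
      rw [hOeq x] at this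
      exact this.1
    · rw [← hOeq x]
      exact Set.image_subset_range _ _
  exact { toSurjectiveOnStalks := hsurj, isEmbedding := hemb, isLocallyClosed_range := hlc }

theorem isOpen_range_of_injective_of_isLocalImmersion_of_isDominant {X Y : Scheme.{u}} (f : X ⟶ Y)
    [IrreducibleSpace X] [IsDominant f]
    (hloc : ∀ x : X, ∃ U : X.Opens, x ∈ U ∧ IsImmersion (U.ι ≫ f)) :
    IsOpen (Set.range f) := by
  choose U hxU hU using hloc
  have key : ∀ x : X, ∃ O : Set Y, IsOpen O ∧ f '' (U x : Set X) = O ∩ closure (Set.range f) :=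
    fun x => image_eq_open_inter_closure_range f (U x) ⟨x, hxU x⟩
  choose O hO hOeq using key
  have hcl : closure (Set.range f) = Set.univ := f.denseRange.closure_range
  have : Set.range f = ⋃ x, O x := by
    ext y
    constructor
    · rintro ⟨x, rfl⟩
      have : f x ∈ f '' (U x : Set X) := ⟨x, hxU x, rfl⟩
      rw [hOeq x] at this
      exact Set.mem_iUnion.mpr ⟨x, this.1⟩
    · intro hy
      obtain ⟨x, hx⟩ := Set.mem_iUnion.mp hy
      have : y ∈ f '' (U x : Set X) := by
        rw [hOeq x, hcl]; exact ⟨hx, trivial⟩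
      exact Set.image_subset_range _ _ this
  rw [this]
  exact isOpen_iUnion hO


/-- A dense locally closed set is open. -/
theorem isOpen_of_isLocallyClosed_of_dense {α : Type*} [TopologicalSpace α] {s : Set α}
    (hs : IsLocallyClosed s) (hd : Dense s) : IsOpen s := by
  obtain ⟨O, Z, hO, hZ, rfl⟩ := hs
  have : Z = Set.univ := by
    rw [← hZ.closure_eq, ← Set.univ_subset_iff, ← hd.closure_eq]
    exact closure_mono Set.inter_subset_right
  rw [this, Set.inter_univ]
  exact hO

theorem injective_of_isSeparated_of_isLocalImmersion {X Y : Scheme.{u}} (f : X ⟶ Y)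
    [IrreducibleSpace X] [IsSeparated f]
    (hloc : ∀ x : X, ∃ U : X.Opens, x ∈ U ∧ IsImmersion (U.ι ≫ f)) :
    Function.Injective f := by
  intro x x' hxx'
  obtain ⟨U, hxU, hU⟩ := hloc x
  obtain ⟨U', hxU', hU'⟩ := hloc x'
  let T := pullback (U.ι ≫ f) (U'.ι ≫ f)
  let p₁ : T ⟶ U := pullback.fst _ _
  let p₂ : T ⟶ U' := pullback.snd _ _
  let a : T ⟶ X := p₁ ≫ U.ι
  let b : T ⟶ X := p₂ ≫ U'.ι
  have hab : a ≫ f = b ≫ f := by
    simp only [a, b, p₁, p₂, Category.assoc]
    exact pullback.condition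
  obtain ⟨t, ht₁, ht₂⟩ := Scheme.Pullback.exists_preimage_pullback (f := U.ι ≫ f)
    (g := U'.ι ≫ f) (⟨x, hxU⟩ : U) (⟨x', hxU'⟩ : U') hxx'
  suffices h : ∀ t : T, a t = b t by
    have h1 := h t
    have e1 : a t = x := by
      change U.ι (p₁ t) = x
      rw [show p₁ t = ⟨x, hxU⟩ from ht₁]; rfl
    have e2 : b t = x' := by
      change U'.ι (p₂ t) = x'
      rw [show p₂ t = ⟨x', hxU'⟩ from ht₂]; rfl
    rw [← e1, ← e2, h1]
  -- the equalizer of `a` and `b` over `Y`
  let X' : Over Y := Over.mk (a ≫ f)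
  let Y' : Over Y := Over.mk f
  let a' : X' ⟶ Y' := Over.homMk a
  let b' : X' ⟶ Y' := Over.homMk b (by simpa [X', Y'] using hab.symm)
  have : IsSeparated Y'.hom := ‹_›
  let ι := (equalizer.ι a' b').left
  have hιcl : IsClosedImmersion ι := inferInstance
  have hι : ι ≫ a = ι ≫ b := congr($(equalizer.condition a' b').left)
  have hEclosed : IsClosed (Set.range ι) := ι.isClosedEmbedding.isClosed_range
  have hEsub : ∀ t ∈ Set.range ι, a t = b t := by
    rintro _ ⟨e, rfl⟩
    have := congrArg (fun g : (equalizer a' b').left ⟶ X => g e) hι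
    exact this
  -- the "diagonal" map
  let δ : (U ⊓ U' : X.Opens).toScheme ⟶ T :=
    pullback.lift (X.homOfLE inf_le_left) (X.homOfLE inf_le_right) (by simp)
  have hδa : δ ≫ a = (U ⊓ U').ι := by
    change pullback.lift _ _ _ ≫ pullback.fst _ _ ≫ U.ι = _
    rw [pullback.lift_fst_assoc, Scheme.homOfLE_ι]
  have hδb : δ ≫ b = (U ⊓ U').ι := by
    change pullback.lift _ _ _ ≫ pullback.snd _ _ ≫ U'.ι = _
    rw [pullback.lift_snd_assoc, Scheme.homOfLE_ι]
  have hδE : Set.range δ ⊆ Set.range ι := by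
    let D' : Over Y := Over.mk ((U ⊓ U').ι ≫ f)
    let δ' : D' ⟶ X' := Over.homMk δ (by simp [D', X', reassoc_of% hδa])
    have hcond : δ' ≫ a' = δ' ≫ b' := by
      ext1
      simp only [Over.comp_left]
      exact hδa.trans hδb.symm
    rintro _ ⟨u, rfl⟩
    refine ⟨(equalizer.lift δ' hcond).left u, ?_⟩
    have : (equalizer.lift δ' hcond).left ≫ ι = δ := by
      rw [← Over.comp_left, equalizer.lift_ι]
      rfl
    rw [← this]
    rfl
  -- `p₁` is an open embedding and `range δ` is dense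
  have hp₁inj : Function.Injective p₁ := (p₁.isEmbedding).injective
  have hp₁δ : ∀ w : (U ⊓ U' : X.Opens), (p₁ (δ w)).1 = w.1 := by
    intro w
    have h1 : δ ≫ p₁ = X.homOfLE inf_le_left := pullback.lift_fst _ _ _
    have h2 : (δ ≫ p₁) w = (X.homOfLE inf_le_left) w := by rw [h1]
    have h3 : p₁ (δ w) = (X.homOfLE inf_le_left) w := h2
    rw [h3, Scheme.homOfLE_apply]
  have hdenseU : Dense {u : U | (u : X) ∈ U'} := by
    rw [dense_iff_inter_open]
    rintro O hO ⟨o, ho⟩
    have hO' : IsOpen (U.ι '' O) := U.ι.isOpenEmbedding.isOpenMap O hO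
    obtain ⟨z, ⟨w, hw, rfl⟩, hz'⟩ := nonempty_preirreducible_inter hO' U'.isOpen
      ⟨U.ι o, o, ho, rfl⟩ ⟨x', hxU'⟩
    exact ⟨w, hw, hz'⟩
  have hp₁open : IsOpenMap p₁ := by
    have hlc : IsLocallyClosed (Set.range p₁) := p₁.isLocallyClosed_range
    have hd : Dense (Set.range p₁) := by
      refine hdenseU.mono ?_
      rintro u (hu : (u : X) ∈ U')
      let w : (U ⊓ U' : X.Opens) := ⟨u.1, (⟨u.2, hu⟩ : u.1 ∈ U ⊓ U')⟩
      exact ⟨δ w, Subtype.ext (hp₁δ w)⟩
    have hopen := isOpen_of_isLocallyClosed_of_dense hlc hd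
    exact (IsOpenEmbedding.mk p₁.isEmbedding hopen).isOpenMap
  have hδdense : Dense (Set.range δ) := by
    rw [dense_iff_inter_open]
    rintro O hO ⟨o, ho⟩
    obtain ⟨u, ⟨w, hw, rfl⟩, hu'⟩ :=
      (dense_iff_inter_open.mp hdenseU) (p₁ '' O) (hp₁open O hO) ⟨p₁ o, o, ho, rfl⟩
    have hu'' : (p₁ w).1 ∈ U' := hu'
    let v : (U ⊓ U' : X.Opens) := ⟨(p₁ w).1, (⟨(p₁ w).2, hu''⟩ : (p₁ w).1 ∈ U ⊓ U')⟩
    refine ⟨w, hw, v, ?_⟩
    apply hp₁inj
    exact Subtype.ext (hp₁δ v)
  have hEuniv : Set.range ι = Set.univ := by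
    rw [← hEclosed.closure_eq, ← Set.univ_subset_iff, ← hδdense.closure_eq]
    exact closure_mono hδE
  intro t
  exact hEsub t (hEuniv ▸ Set.mem_univ t)


end Groth.Agent.Lib.Helper11
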